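import Cfsg.Agent.Lib.Frobenius.Structure
import Mathlib.GroupTheory.SpecificGroups.Quaternion
import Mathlib.Data.ZMod.Basic
import Mathlib.GroupTheory.GroupAction.ConjAct
import Mathlib.FieldTheory.Finite.Basic
import Mathlib.Tactic.LinearCombination
import Mathlib.Tactic.IntervalCases

/-!
`p`-groups with a unique subgroup of order `p` are cyclic or generalized quaternion, and its
consequences for Sylow subgroups of fixed-point-free groups of automorphisms.
-/

set_option autoImplicit false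

namespace Cfsg.Agent.Lib.Frobenius

variable {P : Type*} [Group P]

theorem mul_pow_of_conj_eq {a g : P} {r : ℤ} (h : g * a * g⁻¹ = a ^ r) (i : ℤ) (m : ℕ) :
    (a ^ i * g) ^ m = a ^ (i * ∑ j ∈ Finset.range m, r ^ j) * g ^ m := by
  induction m with
  | zero => simp
  | succ m ih =>
    have hg : ∀ z : ℤ, g * a ^ z = a ^ (r * z) * g := fun z => by
      rw [zpow_mul, ← h, conj_zpow]; group
    have e : (∑ j ∈ Finset.range (m + 1), r ^ j) = 1 + r * ∑ j ∈ Finset.range m, r ^ j := by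
      rw [Finset.sum_range_succ', Finset.mul_sum]
      simp [pow_succ', add_comm]
    rw [pow_succ' (a ^ i * g), ih, e]
    calc a ^ i * g * (a ^ (i * ∑ j ∈ Finset.range m, r ^ j) * g ^ m)
        = a ^ i * (g * a ^ (i * ∑ j ∈ Finset.range m, r ^ j)) * g ^ m := by group
      _ = a ^ i * a ^ (r * (i * ∑ j ∈ Finset.range m, r ^ j)) * (g * g ^ m) := by
          rw [hg]; group
      _ = a ^ (i * (1 + r * ∑ j ∈ Finset.range m, r ^ j)) * g ^ (m + 1) := by
          rw [← zpow_add, pow_succ']; congr 2; ring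

theorem conj_pow_of_conj_eq {a g : P} {r : ℤ} (h : g * a * g⁻¹ = a ^ r) (m : ℕ) :
    g ^ m * a * (g ^ m)⁻¹ = a ^ (r ^ m) := by
  induction m with
  | zero => simp
  | succ m ih =>
    calc g ^ (m + 1) * a * (g ^ (m + 1))⁻¹ = g * (g ^ m * a * (g ^ m)⁻¹) * g⁻¹ := by
          rw [pow_succ']; group
      _ = (g * a * g⁻¹) ^ (r ^ m) := by rw [ih, conj_zpow]
      _ = a ^ (r ^ (m + 1)) := by rw [h, ← zpow_mul, pow_succ']

theorem geom_sum_modEq_of_dvd {p : ℕ} (hp : p.Prime) (hodd : p ≠ 2) {r : ℤ}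
    (hr : (p : ℤ) ∣ r - 1) :
    ∃ s : ℤ, (∑ j ∈ Finset.range p, r ^ j) = (p : ℤ) * s ∧ ¬ (p : ℤ) ∣ s := by
  obtain ⟨k, hk⟩ := hr
  have hr' : r = 1 + (p : ℤ) * k := by linarith
  have key : ∀ m : ℕ, ∃ u : ℤ, 2 * (∑ j ∈ Finset.range m, r ^ j) =
      2 * (m : ℤ) + (p : ℤ) * k * ((m : ℤ) * ((m : ℤ) - 1)) + (p : ℤ) ^ 2 * u := by
    intro m
    induction m with
    | zero => exact ⟨0, by simp⟩
    | succ m ih =>
      obtain ⟨u, hu⟩ := ih
      refine ⟨r * u + k ^ 2 * ((m : ℤ) * ((m : ℤ) - 1)), ?_⟩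
      have e : (∑ j ∈ Finset.range (m + 1), r ^ j) = 1 + r * ∑ j ∈ Finset.range m, r ^ j := by
        rw [Finset.sum_range_succ', Finset.mul_sum]
        simp [pow_succ', add_comm]
      rw [e]
      push_cast
      linear_combination r * hu + (2 * (m : ℤ) + (p : ℤ) * k * ((m : ℤ) * ((m : ℤ) - 1))) * hr'
  obtain ⟨u, hu⟩ := key p
  have hp2 : ¬ (p : ℤ) ∣ 2 := by
    rw [show (2 : ℤ) = ((2 : ℕ) : ℤ) by norm_num, Int.natCast_dvd_natCast]
    exact fun h => hodd ((Nat.prime_dvd_prime_iff_eq hp Nat.prime_two).mp h)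
  have hdvd : (p : ℤ) ∣ 2 * ∑ j ∈ Finset.range p, r ^ j :=
    ⟨2 + k * ((p : ℤ) * ((p : ℤ) - 1)) + (p : ℤ) * u, by rw [hu]; ring⟩
  obtain ⟨s, hs⟩ := ((Nat.prime_iff_prime_int.mp hp).dvd_or_dvd hdvd).resolve_left hp2
  refine ⟨s, hs, fun hps => hp2 ?_⟩
  obtain ⟨w, hw⟩ := hps
  refine ⟨2 * w - k * ((p : ℤ) - 1) - u, ?_⟩
  rw [hs, hw] at hu
  have hp0 : (p : ℤ) ≠ 0 := by exact_mod_cast hp.ne_zero
  apply mul_left_cancel₀ hp0
  linear_combination -hu

theorem exists_order_prime_outside {p n : ℕ} (hp : p.Prime) {a g : P} (ha : orderOf a = p ^ n)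
    (hg : g ∉ Subgroup.zpowers a) {r t : ℤ} (hr : g * a * g⁻¹ = a ^ r) (ht : g ^ p = a ^ t)
    {i : ℤ} (hi : ((p ^ n : ℕ) : ℤ) ∣ i * (∑ j ∈ Finset.range p, r ^ j) + t) :
    ∃ x : P, orderOf x = p ∧ x ∉ Subgroup.zpowers a := by
  have : Fact p.Prime := ⟨hp⟩
  have hnot : a ^ i * g ∉ Subgroup.zpowers a := fun h => hg (by
    have := mul_mem (inv_mem (zpow_mem (Subgroup.mem_zpowers a) i)) h
    rwa [inv_mul_cancel_left] at this)
  refine ⟨a ^ i * g, orderOf_eq_prime ?_ ?_, hnot⟩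
  · rw [mul_pow_of_conj_eq hr, ht, ← zpow_add]
    exact orderOf_dvd_iff_zpow_eq_one.mp (by rw [ha]; exact hi)
  · exact fun h => hnot (h ▸ one_mem _)

/-- Recognition of generalized quaternion groups. -/
theorem mulEquiv_quaternionGroup_of_generators [Finite P] {n : ℕ} [NeZero n] {c g : P}
    (hc : orderOf c = 2 * n) (hg : g * c * g⁻¹ = c⁻¹) (hg2 : g ^ 2 = c ^ n)
    (hgc : g ∉ Subgroup.zpowers c) (hcard : Nat.card P = 4 * n) :
    Nonempty (P ≃* QuaternionGroup n) := by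
  have hz : ∀ x : ℤ, g * c ^ x = c ^ (-x) * g := fun x => by
    rw [zpow_neg, ← inv_zpow, ← hg, conj_zpow]; group
  let f : QuaternionGroup n → P := fun x => match x with
    | .a i => c ^ (i.val : ℤ)
    | .xa i => g * c ^ (i.val : ℤ)
  have hmod : ∀ {u v : ℤ}, ((u : ZMod (2 * n)) = (v : ZMod (2 * n))) → c ^ u = c ^ v := by
    intro u v h
    rw [← sub_eq_zero, ← Int.cast_sub, ZMod.intCast_zmod_eq_zero_iff_dvd, ← hc,
      orderOf_dvd_iff_zpow_eq_one, zpow_sub, mul_inv_eq_one] at h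
    exact h
  have hval : ∀ i : ZMod (2 * n), ((i.val : ℤ) : ZMod (2 * n)) = i := fun i => by
    simp
  have hmul : ∀ x y, f (x * y) = f x * f y := by
    rintro (i | i) (j | j) <;>
      simp only [f, QuaternionGroup.a_mul_a, QuaternionGroup.a_mul_xa, QuaternionGroup.xa_mul_a,
        QuaternionGroup.xa_mul_xa]
    · rw [← zpow_add]; exact hmod (by simp)
    · rw [← mul_assoc, ← neg_neg (i.val : ℤ), ← hz, mul_assoc, ← zpow_add]
      congr 1
      exact hmod (by push_cast; rw [ZMod.natCast_val, ZMod.natCast_val, ZMod.natCast_val]; simp; ring)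
    · rw [mul_assoc, ← zpow_add]; congr 1; exact hmod (by simp)
    · rw [hz i.val, mul_assoc, ← mul_assoc g g, ← sq, hg2, ← zpow_natCast c n, ← zpow_add,
        ← zpow_add]
      exact hmod (by push_cast; rw [ZMod.natCast_val, ZMod.natCast_val, ZMod.natCast_val]; simp; ring)
  have hinj : Function.Injective f := by
    have hcv : ∀ {i j : ZMod (2 * n)}, c ^ (i.val : ℤ) = c ^ (j.val : ℤ) → i = j := by
      intro i j h
      rw [← mul_inv_eq_one, ← zpow_sub, ← orderOf_dvd_iff_zpow_eq_one, hc,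
        ← ZMod.intCast_zmod_eq_zero_iff_dvd, Int.cast_sub, sub_eq_zero, hval, hval] at h
      exact h
    rintro (i | i) (j | j) h
    · rw [hcv h]
    · refine absurd ?_ hgc
      rw [show g = c ^ (i.val : ℤ) * (c ^ (j.val : ℤ))⁻¹ from eq_mul_inv_iff_mul_eq.mpr h.symm]
      exact mul_mem (zpow_mem (Subgroup.mem_zpowers c) _) (inv_mem (zpow_mem (Subgroup.mem_zpowers c) _))
    · refine absurd ?_ hgc
      rw [show g = c ^ (j.val : ℤ) * (c ^ (i.val : ℤ))⁻¹ from eq_mul_inv_iff_mul_eq.mpr h]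
      exact mul_mem (zpow_mem (Subgroup.mem_zpowers c) _) (inv_mem (zpow_mem (Subgroup.mem_zpowers c) _))
    · rw [hcv (mul_left_cancel h)]
  let F : QuaternionGroup n →* P := MonoidHom.mk' f hmul
  have hb : Function.Bijective F := (Nat.bijective_iff_injective_and_card F).mpr
    ⟨hinj, by rw [Nat.card_eq_fintype_card, QuaternionGroup.card, hcard]⟩
  exact ⟨(MulEquiv.ofBijective F hb).symm⟩

theorem exists_maximal_cyclic_normal [Finite P] {p : ℕ} [Fact p.Prime] (hP : IsPGroup p P)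
    (huniq : ∀ a b : P, orderOf a = p → orderOf b = p → a ∈ Subgroup.zpowers b) :
    ∃ a : P, (Subgroup.zpowers a).Normal ∧
      Subgroup.centralizer ({a} : Set P) = Subgroup.zpowers a := by
  obtain ⟨A, -, ⟨hAn, hAc⟩, hAmax⟩ := Finite.exists_le_maximal (α := Subgroup P)
    (p := fun A => A.Normal ∧ ∀ x ∈ A, ∀ y ∈ A, x * y = y * x) (a := ⊥)
    ⟨inferInstance, by simp⟩
  have hcyc : IsCyclic A := by
    refine isCyclic_of_commute_of_prime_roots (fun x y => Subtype.ext (hAc x x.2 y y.2)) fun q hq => ?_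
    have : Fact q.Prime := ⟨hq⟩
    by_cases h : ∃ b : A, b ^ q = 1 ∧ b ≠ 1
    · obtain ⟨b, hb, hb1⟩ := h
      have hob : orderOf b = q := orderOf_eq_prime hb hb1
      have hqp : q = p := by
        obtain ⟨k, hk⟩ := (IsPGroup.iff_orderOf.mp hP) (b : P)
        rw [Subgroup.orderOf_coe, hob] at hk
        exact (Nat.prime_dvd_prime_iff_eq hq Fact.out).mp (hq.dvd_of_dvd_pow (dvd_of_eq hk))
      calc Nat.card {x : A // x ^ q = 1} ≤ Nat.card (Subgroup.zpowers (b : P)) := by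
            refine Nat.card_le_card_of_injective (fun x => ⟨(x.1 : P), ?_⟩)
              (fun x y h => Subtype.ext (Subtype.ext (congrArg (fun w : Subgroup.zpowers (b : P) => (w : P)) h)))
            by_cases hx1 : x.1 = 1
            · rw [hx1]; exact one_mem _
            · exact huniq _ _ (by rw [Subgroup.orderOf_coe, orderOf_eq_prime x.2 hx1, hqp])
                (by rw [Subgroup.orderOf_coe, hob, hqp])
        _ = q := by rw [Nat.card_zpowers, Subgroup.orderOf_coe, hob]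
    · push Not at h
      have : Subsingleton {x : A // x ^ q = 1} :=
        ⟨fun x y => Subtype.ext (by rw [h x.1 x.2, h y.1 y.2])⟩
      exact (Finite.card_le_one_iff_subsingleton.mpr this).trans hq.one_lt.le
  obtain ⟨a, ha⟩ := (Subgroup.isCyclic_iff_exists_zpowers_eq_top A).mp hcyc
  refine ⟨a, ha ▸ hAn, ?_⟩
  rw [ha]
  by_contra hne
  have hle : A ≤ Subgroup.centralizer ({a} : Set P) := fun x hx =>
    Subgroup.mem_centralizer_singleton_iff.mpr (hAc x hx a (ha ▸ Subgroup.mem_zpowers a))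
  set C := Subgroup.centralizer ({a} : Set P) with hC
  have hCn : C.Normal := by
    refine ⟨fun x hx y => ?_⟩
    rw [hC, Subgroup.mem_centralizer_singleton_iff] at hx ⊢
    obtain ⟨z, hz⟩ := Subgroup.mem_zpowers_iff.mp
      (show y⁻¹ * a * y ∈ Subgroup.zpowers a by
        rw [ha]; simpa using hAn.conj_mem a (ha ▸ Subgroup.mem_zpowers a) y⁻¹)
    have hxz : x * (y⁻¹ * a * y) = (y⁻¹ * a * y) * x := by
      rw [← hz]; exact (Commute.zpow_right (show Commute x a from hx) z).eq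
    calc y * x * y⁻¹ * a = y * (x * (y⁻¹ * a * y)) * y⁻¹ := by group
      _ = y * ((y⁻¹ * a * y) * x) * y⁻¹ := by rw [hxz]
      _ = a * (y * x * y⁻¹) := by group
  have : Nontrivial (C.map (QuotientGroup.mk' A)) := by
    rw [Subgroup.nontrivial_iff_ne_bot, Ne, Subgroup.map_eq_bot_iff, QuotientGroup.ker_mk']
    exact fun h => hne (le_antisymm h hle)
  have hQ : IsPGroup p (P ⧸ A) := hP.to_quotient A
  have hNn : (C.map (QuotientGroup.mk' A)).Normal := hCn.map _ (QuotientGroup.mk'_surjective A)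
  -- a nontrivial central element in a normal subgroup
  obtain ⟨w, hw⟩ := (hQ.to_subgroup (C.map (QuotientGroup.mk' A))).exists_card_eq
  have hdvd : p ∣ Nat.card (C.map (QuotientGroup.mk' A)) := by
    rcases w with _ | w
    · rw [pow_zero] at hw
      exact absurd hw (Finite.one_lt_card (α := C.map (QuotientGroup.mk' A))).ne'
    · rw [hw]; exact dvd_pow_self p (Nat.succ_ne_zero w)
  let _act : MulDistribMulAction (ConjAct (P ⧸ A)) (C.map (QuotientGroup.mk' A)) :=
    ConjAct.Subgroup.conjMulDistribMulAction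
  obtain ⟨z, hz, hz1⟩ := IsPGroup.exists_fixed_point_of_prime_dvd_card_of_fixed_point (p := p)
    (G := ConjAct (P ⧸ A)) (α := C.map (QuotientGroup.mk' A)) (hQ.of_equiv ConjAct.toConjAct) hdvd (a := 1)
    (fun g => by simp)
  obtain ⟨c, hc, hcz⟩ := (z.2 : (z : P ⧸ A) ∈ C.map (QuotientGroup.mk' A))
  have hcA : c ∉ A := fun h => hz1 (Subtype.ext (by
    rw [← hcz]
    simpa using ((QuotientGroup.eq_one_iff c).mpr h).symm))
  have hB : (A ⊔ Subgroup.zpowers c).Normal := by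
    have h1 : A ⊔ Subgroup.zpowers c =
        (Subgroup.zpowers (QuotientGroup.mk' A c)).comap (QuotientGroup.mk' A) := by
      rw [← MonoidHom.map_zpowers, Subgroup.comap_map_eq, QuotientGroup.ker_mk', sup_comm]
    rw [h1]
    refine Subgroup.Normal.comap ⟨fun x hx y => ?_⟩ _
    obtain ⟨i, rfl⟩ := Subgroup.mem_zpowers_iff.mp hx
    have : y * QuotientGroup.mk' A c * y⁻¹ = QuotientGroup.mk' A c := by
      have := congrArg Subtype.val (hz (ConjAct.toConjAct y))
      rw [hcz]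
      simpa [ConjAct.Subgroup.val_conj_smul, ConjAct.smul_def] using this
    rw [← conj_zpow, this]
    exact zpow_mem (Subgroup.mem_zpowers _) i
  refine hcA ((hAmax ⟨hB, ?_⟩ le_sup_left) (Subgroup.mem_sup_right (Subgroup.mem_zpowers c)))
  have hca : Commute c a := Subgroup.mem_centralizer_singleton_iff.mp hc
  intro x hx y hy
  rw [← SetLike.mem_coe, Subgroup.normal_mul] at hx hy
  obtain ⟨x₁, hx₁, x₂, hx₂, rfl⟩ := Set.mem_mul.mp hx
  obtain ⟨y₁, hy₁, y₂, hy₂, rfl⟩ := Set.mem_mul.mp hy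
  rw [SetLike.mem_coe, ← ha] at hx₁ hy₁
  obtain ⟨i₁, rfl⟩ := Subgroup.mem_zpowers_iff.mp hx₁
  obtain ⟨i₂, rfl⟩ := Subgroup.mem_zpowers_iff.mp hx₂
  obtain ⟨j₁, rfl⟩ := Subgroup.mem_zpowers_iff.mp hy₁
  obtain ⟨j₂, rfl⟩ := Subgroup.mem_zpowers_iff.mp hy₂
  have h1 : Commute (a ^ i₁) (a ^ j₁ * c ^ j₂) :=
    ((Commute.refl a).zpow_zpow i₁ j₁).mul_right ((hca.symm).zpow_zpow i₁ j₂)
  have h2 : Commute (c ^ i₂) (a ^ j₁ * c ^ j₂) :=
    (hca.zpow_zpow i₂ j₁).mul_right ((Commute.refl c).zpow_zpow i₂ j₂)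
  exact (h1.mul_left h2).eq

theorem exists_pow_prime_mem {p : ℕ} {A : Subgroup P} :
    ∀ {k : ℕ} {h : P}, h ∉ A → h ^ p ^ k ∈ A → ∃ j : ℕ, h ^ p ^ j ∉ A ∧ (h ^ p ^ j) ^ p ∈ A := by
  intro k
  induction k with
  | zero => intro h h1 h2; exact absurd (by simpa using h2) h1
  | succ k ih =>
    intro h h1 h2
    by_cases h3 : h ^ p ∈ A
    · exact ⟨0, by simpa using h1, by simpa using h3⟩
    · obtain ⟨j, hj1, hj2⟩ := ih h3 (by rwa [← pow_mul, ← pow_succ'])
      exact ⟨j + 1, by rwa [pow_succ', pow_mul], by rwa [pow_succ', pow_mul]⟩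

/-- A `p`-group with a unique subgroup of order `p` is cyclic, or `p = 2` and it is generalized
quaternion. -/
theorem isCyclic_or_quaternion_of_unique [Finite P] {p : ℕ} [Fact p.Prime] (hP : IsPGroup p P)
    (huniq : ∀ a b : P, orderOf a = p → orderOf b = p → a ∈ Subgroup.zpowers b) :
    IsCyclic P ∨ (p = 2 ∧ ∃ m : ℕ, Nonempty (P ≃* QuaternionGroup (2 ^ (m + 1)))) := by
  have hp : p.Prime := Fact.out
  obtain ⟨a, hAn, hCA⟩ := exists_maximal_cyclic_normal hP huniq
  set A := Subgroup.zpowers a with hA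
  by_cases htop : A = ⊤
  · exact Or.inl ((isCyclic_iff_exists_zpowers_eq_top).mpr ⟨a, htop⟩)
  obtain ⟨n, hn⟩ := (IsPGroup.iff_orderOf.mp hP) a
  have hn0 : n ≠ 0 := by
    rintro rfl
    rw [pow_zero, orderOf_eq_one_iff] at hn
    apply htop
    rw [← hCA, hn]
    exact eq_top_iff.mpr fun x _ => Subgroup.mem_centralizer_singleton_iff.mpr (by simp)
  have haz : orderOf (a ^ (orderOf a / p)) = p :=
    orderOf_pow_orderOf_div (orderOf_pos a).ne' (hn ▸ dvd_pow_self p hn0)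
  have hout : ∀ x : P, orderOf x = p → x ∈ A := fun x hx => by
    have h := huniq x _ hx haz
    exact Subgroup.zpowers_le.mpr (Subgroup.pow_mem _ (Subgroup.mem_zpowers a) _) h
  have hconj : ∀ g : P, ∃ r : ℤ, g * a * g⁻¹ = a ^ r := fun g => by
    obtain ⟨r, hr⟩ := Subgroup.mem_zpowers_iff.mp (hAn.conj_mem a (Subgroup.mem_zpowers a) g)
    exact ⟨r, hr.symm⟩
  have hone : ∀ (g : P) (r : ℤ), g * a * g⁻¹ = a ^ r → (p : ℤ) ^ n ∣ r - 1 → g ∈ A := by
    intro g r hr hdvd
    rw [← hCA, Subgroup.mem_centralizer_singleton_iff]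
    have : a ^ r = a ^ (1 : ℤ) := by
      rw [← mul_inv_eq_one, ← zpow_sub, ← orderOf_dvd_iff_zpow_eq_one, hn]
      exact_mod_cast hdvd
    rw [zpow_one, ← hr] at this
    exact mul_inv_eq_iff_eq_mul.mp this
  have hmain : ∀ g : P, g ∉ A → g ^ p ∈ A → ∀ r : ℤ, g * a * g⁻¹ = a ^ r →
      p = 2 ∧ (p : ℤ) ^ n ∣ r + 1 ∧ g ^ p ≠ 1 ∧ (g ^ p) ^ 2 = 1 ∧ 2 ≤ n := by
    intro g hg hgp r hr
    obtain ⟨t, ht⟩ := Subgroup.mem_zpowers_iff.mp hgp
    have hrp : (p : ℤ) ^ n ∣ r ^ p - 1 := by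
      have h1 := conj_pow_of_conj_eq hr p
      rw [← ht, ← zpow_add_one, ← zpow_neg, ← zpow_add, add_comm t 1, add_assoc, add_neg_cancel,
        add_zero, zpow_one] at h1
      have h2 : a ^ (r ^ p - 1) = 1 := by rw [zpow_sub, ← h1, zpow_one, mul_inv_cancel]
      have := orderOf_dvd_iff_zpow_eq_one.mpr h2
      rw [hn] at this
      exact_mod_cast this
    have htr : (p : ℤ) ^ n ∣ t * (r - 1) := by
      have h1 : a ^ t = a ^ (r * t) := by
        rw [zpow_mul, ← hr, conj_zpow, ht, ← pow_succ', pow_succ, mul_inv_cancel_right]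
      have h2 : a ^ (t * (r - 1)) = 1 := by
        rw [mul_sub, mul_one, zpow_sub, mul_comm t r, ← h1, mul_inv_cancel]
      have := orderOf_dvd_iff_zpow_eq_one.mpr h2
      rw [hn] at this
      exact_mod_cast this
    have hnd : ¬ (p : ℤ) ^ n ∣ r - 1 := fun h => hg (hone g r hr h)
    have htp : (p : ℤ) ∣ t := by
      by_contra h
      exact hnd ((Int.isCoprime_iff_gcd_eq_one.mpr (by
        rw [Int.gcd_comm]
        exact Int.isCoprime_iff_gcd_eq_one.mp
          ((Nat.prime_iff_prime_int.mp hp).coprime_iff_not_dvd.mpr h).symm)).pow_left.dvd_of_dvd_mul_left htr)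
    have hnone : ∀ i : ℤ, ¬ ((p ^ n : ℕ) : ℤ) ∣ i * (∑ j ∈ Finset.range p, r ^ j) + t := by
      intro i hi
      obtain ⟨x, hx, hxA⟩ := exists_order_prime_outside hp hn hg hr ht.symm hi
      exact hxA (hout x hx)
    have hrp1 : (p : ℤ) ∣ r - 1 := by
      have h1 : (p : ℤ) ∣ r ^ p - 1 := (dvd_pow_self (p : ℤ) hn0).trans hrp
      rw [← ZMod.intCast_zmod_eq_zero_iff_dvd] at h1 ⊢
      push_cast at h1 ⊢
      rwa [ZMod.pow_card] at h1
    obtain ⟨t', rfl⟩ := htp
    by_cases h2 : p = 2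
    · subst h2
      obtain ⟨k, hk⟩ := hrp1
      have hr' : r = 2 * k + 1 := by push_cast at hk; linarith
      have hsum : (∑ j ∈ Finset.range 2, r ^ j) = r + 1 := by
        simp [Finset.sum_range_succ, add_comm]
      rcases Int.even_or_odd k with ⟨l, hl⟩ | ⟨l, hl⟩
      · -- `r + 1` is twice an odd number
        exfalso
        have hco : IsCoprime (2 * l + 1) ((2 : ℤ) ^ n) :=
          IsCoprime.pow_right ⟨1, -l, by ring⟩
        obtain ⟨u, v, huv⟩ := hco
        refine hnone (-(t' * u)) ⟨2 * t' * v, ?_⟩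
        rw [hsum, hr', hl]
        push_cast
        linear_combination (-(2 * t')) * huv
      · -- `r - 1` is twice an odd number
        have hco : IsCoprime (2 * l + 1) ((2 : ℤ) ^ n) :=
          IsCoprime.pow_right ⟨1, -l, by ring⟩
        have hsplit : ((2 : ℕ) : ℤ) ^ n ∣ 4 * t' := by
          push_cast
          refine hco.symm.dvd_of_dvd_mul_left ?_
          push_cast at htr
          rw [hr', hl] at htr
          rwa [show (2 * l + 1) * (4 * t') = 2 * t' * (2 * (2 * l + 1) + 1 - 1) by ring]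
        by_cases hr1 : ((2 : ℕ) : ℤ) ^ n ∣ r + 1
        · have hn2 : 2 ≤ n := by
            by_contra hlt
            have hn1 : n = 1 := by omega
            refine hnd ?_
            rw [hn1, pow_one]
            exact ⟨k, hk⟩
          refine ⟨rfl, hr1, fun h1 => ?_, ?_, hn2⟩
          · refine hnone 0 ?_
            rw [zero_mul, zero_add, ← hn, orderOf_dvd_iff_zpow_eq_one, ht]
            exact h1
          · rw [← ht, ← zpow_natCast, ← zpow_mul, ← orderOf_dvd_iff_zpow_eq_one, hn]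
            push_cast
            push_cast at hsplit
            convert hsplit using 1; ring
        · exfalso
          -- `r + 1` is divisible by exactly `2 ^ (n - 1)`
          obtain ⟨m, rfl⟩ : ∃ m, n = m + 1 := ⟨n - 1, by omega⟩
          push_cast at hrp hsplit hr1
          have hm : (2 : ℤ) ^ m ∣ r + 1 := by
            have h1 : (2 : ℤ) * 2 ^ m ∣ 2 * ((r + 1) * (2 * l + 1)) := by
              rw [← pow_succ']
              convert hrp using 1
              rw [hr', hl]; ring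
            exact (IsCoprime.pow_left (m := m) (show IsCoprime (2 : ℤ) (2 * l + 1) from
              ⟨-l, 1, by ring⟩)).dvd_of_dvd_mul_right (Int.dvd_of_mul_dvd_mul_left (by norm_num) h1)
          obtain ⟨o, ho⟩ := hm
          have ho1 : ¬ (2 : ℤ) ∣ o := fun ⟨w, hw⟩ => hr1 ⟨w, by rw [ho, hw, pow_succ]; ring⟩
          obtain ⟨o', rfl⟩ : ∃ o', o = 2 * o' + 1 := by
            rcases Int.even_or_odd' o with ⟨w, hw | hw⟩
            · exact absurd ⟨w, hw⟩ ho1
            · exact ⟨w, hw⟩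
          obtain ⟨w, hw⟩ : (2 : ℤ) ^ m ∣ 2 * t' := by
            refine Int.dvd_of_mul_dvd_mul_left (a := 2) (by norm_num) ?_
            rw [← pow_succ']
            convert hsplit using 1; ring
          refine hnone (-w) ⟨-(w * o'), ?_⟩
          rw [hsum, ho]
          push_cast
          linear_combination hw
    · exfalso
      obtain ⟨s, hs, hps⟩ := geom_sum_modEq_of_dvd hp h2 hrp1
      obtain ⟨u, v, huv⟩ : IsCoprime s ((p : ℤ) ^ n) :=
        (((Nat.prime_iff_prime_int.mp hp).coprime_iff_not_dvd.mpr hps).symm).pow_right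
      refine hnone (-(t' * u)) ⟨(p : ℤ) * t' * v, ?_⟩
      rw [hs]
      push_cast
      linear_combination (-((p : ℤ) * t')) * huv
  -- some element outside `A`
  obtain ⟨h₀, hh₀⟩ : ∃ h : P, h ∉ A := by
    by_contra hc
    push Not at hc
    exact htop (eq_top_iff.mpr fun x _ => hc x)
  have hdesc : ∀ h : P, h ∉ A → ∃ j : ℕ, h ^ p ^ j ∉ A ∧ (h ^ p ^ j) ^ p ∈ A := fun h hh => by
    obtain ⟨k, hk⟩ := hP h
    exact exists_pow_prime_mem hh (hk ▸ A.one_mem)
  obtain ⟨j₀, hj₀, hj₀'⟩ := hdesc h₀ hh₀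
  obtain ⟨r₀, hr₀⟩ := hconj (h₀ ^ p ^ j₀)
  obtain ⟨rfl, hr₀', hne1, hsq, hn2⟩ := hmain _ hj₀ hj₀' r₀ hr₀
  refine Or.inr ⟨rfl, ?_⟩
  have hinv : ∀ h : P, h ∉ A → h * a * h⁻¹ = a⁻¹ := by
    intro h hh
    obtain ⟨j, hj, hj'⟩ := hdesc h hh
    obtain ⟨r, hr⟩ := hconj h
    have hrj := hmain _ hj hj' _ (conj_pow_of_conj_eq hr (2 ^ j))
    have hj0 : j = 0 := by
      by_contra hj0
      obtain ⟨j', rfl⟩ : ∃ j', j = j' + 1 := ⟨j - 1, by omega⟩
      obtain ⟨-, hd, -⟩ := hrj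
      obtain ⟨i, hi⟩ := hd
      have h4 : (4 : ℤ) ∣ (r ^ 2 ^ j') ^ 2 + 1 := by
        rw [← pow_mul, ← pow_succ, hi]
        refine Dvd.dvd.mul_right ?_ _
        push_cast
        exact ⟨2 ^ (n - 2), by rw [show (4 : ℤ) = 2 ^ 2 by norm_num, ← pow_add]; congr 1; omega⟩
      rcases Int.even_or_odd (r ^ 2 ^ j') with ⟨w, hw⟩ | ⟨w, hw⟩ <;> rw [hw] at h4
      · have : (4 : ℤ) ∣ 1 := by
          have h5 : (4 : ℤ) ∣ (w + w) ^ 2 := ⟨w ^ 2, by ring⟩
          simpa using Int.dvd_sub h4 h5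
        norm_num at this
      · have : (4 : ℤ) ∣ 2 := by
          have h5 : (4 : ℤ) ∣ (2 * w + 1) ^ 2 - 1 := ⟨w ^ 2 + w, by ring⟩
          have h6 := Int.dvd_sub h4 h5
          rwa [show (2 * w + 1) ^ 2 + 1 - ((2 * w + 1) ^ 2 - 1) = (2 : ℤ) by ring] at h6
        norm_num at this
    subst hj0
    obtain ⟨-, hd, -⟩ := hrj
    simp only [pow_zero, pow_one] at hd
    rw [hr]
    rw [← zpow_neg_one, ← mul_inv_eq_one, ← zpow_sub, ← orderOf_dvd_iff_zpow_eq_one, hn]
    push_cast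
    simpa using hd
  set g := h₀ ^ 2 ^ j₀ with hg
  have hcover : ∀ h : P, h ∈ A ∨ g * h ∈ A := by
    intro h
    by_cases hh : h ∈ A
    · exact Or.inl hh
    · refine Or.inr ?_
      rw [← hCA, Subgroup.mem_centralizer_singleton_iff]
      have h1 := hinv h hh
      have h2 := hinv g hj₀
      calc g * h * a = g * (h * a * h⁻¹) * h := by group
        _ = g * a⁻¹ * h := by rw [h1]
        _ = (g * a * g⁻¹)⁻¹ * (g * h) := by group
        _ = a * (g * h) := by rw [h2, inv_inv]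
  obtain ⟨m, rfl⟩ : ∃ m, n = m + 2 := ⟨n - 2, by omega⟩
  refine ⟨m, ?_⟩
  have hgA : g ^ 2 = a ^ (2 ^ (m + 1) : ℕ) := by
    obtain ⟨t, ht⟩ := Subgroup.mem_zpowers_iff.mp hj₀'
    rw [← ht] at hne1 hsq ⊢
    rw [← zpow_natCast, ← zpow_mul, ← orderOf_dvd_iff_zpow_eq_one, hn] at hsq
    have hne' : ¬ ((2 ^ (m + 2) : ℕ) : ℤ) ∣ t := fun h => hne1 (by
      rw [← orderOf_dvd_iff_zpow_eq_one, hn]; exact h)
    obtain ⟨w, hw⟩ : (2 : ℤ) ^ (m + 1) ∣ t := by
      have h := hsq
      push_cast at h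
      rw [pow_succ] at h
      exact Int.dvd_of_mul_dvd_mul_right (by norm_num) h
    rcases Int.even_or_odd' w with ⟨w', rfl | rfl⟩
    · exact absurd ⟨w', by rw [hw]; push_cast; ring⟩ hne'
    · rw [← zpow_natCast, ← mul_inv_eq_one, ← zpow_sub, ← orderOf_dvd_iff_zpow_eq_one, hn]
      exact ⟨w', by rw [hw]; push_cast; ring⟩
  haveI : NeZero (2 ^ (m + 1)) := ⟨pow_ne_zero _ (by norm_num)⟩
  refine mulEquiv_quaternionGroup_of_generators (c := a) (g := g) ?_ (hinv g hj₀) hgA hj₀ ?_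
  · rw [hn, pow_succ']
  · have hidx : A.index = 2 := by
      rw [Subgroup.index_eq_two_iff]
      refine ⟨g, fun b => ?_⟩
      rcases hcover b with hb | hb
      · refine Or.inr ⟨hb, fun h => hj₀ ?_⟩
        have := mul_mem (inv_mem hb) h
        rwa [inv_mul_cancel_left] at this
      · refine Or.inl ⟨?_, fun h => hj₀ ?_⟩
        · exact hAn.mem_comm hb
        · have := mul_mem hb (inv_mem h)
          rwa [mul_inv_cancel_right] at this
    rw [← A.card_mul_index, hidx, hA, Nat.card_zpowers, hn]; ring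

/-- A `p`-group, `p` odd, with a unique subgroup of order `p` is cyclic. -/
theorem isCyclic_of_unique_odd [Finite P] {p : ℕ} [Fact p.Prime] (hp2 : p ≠ 2) (hP : IsPGroup p P)
    (huniq : ∀ a b : P, orderOf a = p → orderOf b = p → a ∈ Subgroup.zpowers b) : IsCyclic P :=
  (isCyclic_or_quaternion_of_unique hP huniq).resolve_right fun h => hp2 h.1

/-- Subgroups of prime power order of fixed-point-free groups of automorphisms are cyclic or
generalized quaternion. -/
theorem isCyclic_or_quaternion_of_fixedPointFree {G A : Type*} [Group G] [Group A] [Finite G]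
    [Nontrivial G] [Finite A] (φ : A →* MulAut G)
    (hfpf : ∀ a : A, a ≠ 1 → ∀ g : G, φ a g = g → g = 1) {p : ℕ} [Fact p.Prime]
    (S : Subgroup A) (hS : IsPGroup p S) :
    IsCyclic S ∨ (p = 2 ∧ ∃ m : ℕ, Nonempty (S ≃* QuaternionGroup (2 ^ (m + 1)))) := by
  refine isCyclic_or_quaternion_of_unique hS fun a b ha hb => ?_
  rw [← zpowers_eq_of_orderOf_prime (φ.comp S.subtype)
    (fun x hx => hfpf _ fun h => hx (Subtype.ext h)) hS ha hb]
  exact Subgroup.mem_zpowers a

end Cfsg.Agent.Lib.Frobenius
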