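import Cfsg.Agent.Lib.Frobenius.Complement
import Cfsg.Agent.Lib.Characters.Induced
import Mathlib.GroupTheory.Complement

/-!
Frobenius' theorem: the kernel of a Frobenius complement is a normal complement.
-/

set_option autoImplicit false

namespace Cfsg.Agent.Lib.Frobenius

open Cfsg.Agent.Lib.Characters

variable {G : Type*} [Group G]

theorem mem_frobeniusKernel_iff {H : Subgroup G} {x : G} :
    x ∈ Cfsg.frobeniusKernel H ↔ x = 1 ∨ ∀ g : G, g⁻¹ * x * g ∉ H := by
  simp only [Cfsg.frobeniusKernel, Set.mem_ofPred_eq, mem_conj_smul]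

/-- A class function on a Frobenius complement vanishing at `1` is the restriction of the function
it induces. -/
theorem indFun_apply_of_mem [Fintype G] {H : Subgroup G} (hH : Cfsg.IsFrobeniusComplement H)
    {θ : H → ℂ} (hθ : IsClassFunction H θ) (h0 : θ 1 = 0) (h : H) :
    indFun H θ (h : G) = θ h := by
  classical
  by_cases h1 : h = 1
  · subst h1
    simp [indFun_one, h0]
  have hne : (h : G) ≠ 1 := fun e => h1 (Subtype.ext e)
  have key : ∀ x : G, extendByZero H θ (x⁻¹ * h * x) = if x ∈ H then θ h else 0 := by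
    intro x
    split_ifs with hx
    · have hm : x⁻¹ * (h : G) * x ∈ H := H.mul_mem (H.mul_mem (H.inv_mem hx) h.2) hx
      rw [extendByZero_of_mem H θ hm]
      have := hθ h ⟨x⁻¹, H.inv_mem hx⟩
      rw [← this]
      congr 1
      exact Subtype.ext (by simp)
    · refine extendByZero_of_not_mem H θ fun hm => hx ?_
      simpa using mem_of_conj_mem hH (g := x⁻¹) h.2 hne (by simpa using hm)
  rw [indFun_apply, Finset.sum_congr rfl fun x _ => key x, Finset.sum_ite, Finset.sum_const_zero,
    add_zero, Finset.sum_const, nsmul_eq_mul]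
  have hc : (Finset.univ.filter fun x : G => x ∈ H).card = Nat.card H := by
    rw [Nat.card_eq_fintype_card, Fintype.card_subtype]
  rw [hc, ← mul_assoc, inv_mul_cancel₀ (by exact_mod_cast Nat.card_pos.ne'), one_mul]

/-- Every irreducible character of a Frobenius complement extends to one of the group that is
constant on the kernel. -/
theorem exists_extension [Fintype G] {H : Subgroup G} (hH : Cfsg.IsFrobeniusComplement H)
    (φ : IrrCharacter H) :
    ∃ χ : IrrCharacter G, (∀ h : H, (χ : G → ℂ) h = (φ : H → ℂ) h) ∧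
      ∀ x ∈ Cfsg.frobeniusKernel H, (χ : G → ℂ) x = (χ : G → ℂ) 1 := by
  classical
  let _ : Fintype H := Fintype.ofFinite H
  set one : H → ℂ := fun _ => 1 with hone
  set oneG : G → ℂ := fun _ => 1 with honeG
  by_cases htriv : (φ : H → ℂ) = one
  · exact ⟨trivIrr G, fun h => by rw [htriv]; rfl, fun _ _ => rfl⟩
  obtain ⟨d, hd, hφ1⟩ := IsIrrCharacter.exists_apply_one φ.2
  set θ : H → ℂ := (φ : H → ℂ) - d • one with hθdef
  have hθg : IsGeneralizedCharacter H θ :=
    ⟨_, _, irr_isCharacter φ, IsCharacter.nsmul (G := H) isCharacter_one d, rfl⟩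
  have hθc : IsClassFunction H θ := IsGeneralizedCharacter.isClassFunction hθg
  have hθ0 : θ 1 = 0 := by simp [hθdef, hone, hφ1]
  set ψ : G → ℂ := indFun H θ + d • oneG with hψdef
  have hψg : IsGeneralizedCharacter G ψ :=
    IsGeneralizedCharacter.add (IsGeneralizedCharacter.indFun H hθg)
      (IsCharacter.isGeneralizedCharacter (IsCharacter.nsmul (G := G) isCharacter_one d))
  have hres : ∀ h : H, ψ h = (φ : H → ℂ) h := fun h => by
    rw [hψdef, Pi.add_apply, indFun_apply_of_mem hH hθc hθ0, hθdef]
    simp [hone, honeG]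
  have hindc : IsClassFunction G (indFun H θ) := isClassFunction_indFun H θ
  have honeGc : IsClassFunction G oneG := fun _ _ => rfl
  have e1 : classInner (φ : H → ℂ) one = 0 :=
    IsIrrCharacter.classInner_ne φ.2 isIrrCharacter_one htriv
  have e2 : classInner one one = 1 := IsIrrCharacter.classInner_self isIrrCharacter_one
  have e3 : classInner (φ : H → ℂ) φ = 1 := IsIrrCharacter.classInner_self φ.2
  have e4 : classInner oneG oneG = 1 := IsIrrCharacter.classInner_self isIrrCharacter_one
  have e5 : classInner one (φ : H → ℂ) = 0 := by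
    rw [← classInner_conj_symm, e1, map_zero]
  have hsm : ∀ (f : H → ℂ), d • f = (d : ℂ) • f := fun f => (Nat.cast_smul_eq_nsmul ℂ d f).symm
  have hθ1 : classInner θ one = -(d : ℂ) := by
    rw [hθdef, hsm, classInner_sub_left, classInner_smul_left, e1, e2]; ring
  have hA : classInner (indFun H θ) (indFun H θ) = 1 + (d : ℂ) * d := by
    rw [classInner_indFun H θ hindc]
    have : (fun h : H => indFun H θ h) = θ := funext (indFun_apply_of_mem hH hθc hθ0)
    rw [this]
    rw [hθdef, hsm, classInner_sub_left, classInner_sub_right, classInner_sub_right,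
      classInner_smul_left, classInner_smul_left, classInner_smul_right, classInner_smul_right,
      e1, e2, e3, e5, map_natCast]
    ring
  have hB : classInner (indFun H θ) oneG = -(d : ℂ) := by
    rw [classInner_indFun H θ honeGc]; exact hθ1
  have hB' : classInner oneG (indFun H θ) = -(d : ℂ) := by
    rw [← classInner_conj_symm, hB]; simp
  have hnorm : classInner ψ ψ = 1 := by
    rw [hψdef, ← Nat.cast_smul_eq_nsmul ℂ d oneG, classInner_add_left, classInner_add_right,
      classInner_add_right, classInner_smul_left, classInner_smul_left, classInner_smul_right,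
      classInner_smul_right, hA, hB, hB', e4, map_natCast]
    ring
  obtain ⟨χ, hχ⟩ := IsGeneralizedCharacter.eq_pm_irr hψg hnorm
  have hψ1 : ψ 1 = (d : ℂ) := by simpa [hφ1] using hres 1
  obtain ⟨e, he, hχ1⟩ := IsIrrCharacter.exists_apply_one χ.2
  have hχeq : ψ = (χ : G → ℂ) := by
    refine hχ.resolve_right fun h => ?_
    rw [h, Pi.neg_apply, hχ1] at hψ1
    have : ((e + d : ℕ) : ℂ) = 0 := by push_cast; rw [← hψ1]; ring
    have : e + d = 0 := by exact_mod_cast this
    omega
  refine ⟨χ, fun h => by rw [← hχeq]; exact hres h, fun x hx => ?_⟩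
  rcases mem_frobeniusKernel_iff.mp hx with rfl | hx
  · rfl
  · rw [← hχeq, hψ1, hψdef]
    simp [indFun_eq_zero H θ hx, honeG]

/-- Frobenius' theorem. -/
theorem exists_frobeniusKernel [Finite G] {H : Subgroup G} (hH : Cfsg.IsFrobeniusComplement H) :
    ∃ K : Subgroup G, K.Normal ∧ (K : Set G) = Cfsg.frobeniusKernel H ∧ K ⊓ H = ⊥ ∧ K ⊔ H = ⊤ ∧
      K ≠ ⊥ ∧ K.IsComplement' H ∧ Nat.card K = H.index := by
  classical
  let _ : Fintype G := Fintype.ofFinite G
  choose χ hres hker using fun φ : IrrCharacter H => exists_extension hH φ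
  let K : Subgroup G :=
    { carrier := {g | ∀ φ, (χ φ : G → ℂ) g = (χ φ : G → ℂ) 1}
      one_mem' := fun _ => rfl
      mul_mem' := fun {a b} ha hb φ => by
        obtain ⟨n, ρ, hρ⟩ := irr_isCharacter (χ φ)
        have h1 := ha φ
        have h2 := hb φ
        rw [← hρ, ρ.char_one] at h1 h2 ⊢
        rw [char_eq_finrank_iff] at h1 h2 ⊢
        rw [map_mul, h1, h2]; rfl
      inv_mem' := fun {a} ha φ => by
        obtain ⟨n, ρ, hρ⟩ := irr_isCharacter (χ φ)
        have h1 := ha φ
        rw [← hρ, ρ.char_one] at h1 ⊢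
        rw [char_eq_finrank_iff] at h1 ⊢
        calc ρ a⁻¹ = ρ a⁻¹ * ρ a := by rw [h1]; rfl
          _ = LinearMap.id := by rw [← map_mul, inv_mul_cancel, map_one]; rfl }
  have hmemK : ∀ g, g ∈ K ↔ ∀ φ, (χ φ : G → ℂ) g = (χ φ : G → ℂ) 1 := fun g => Iff.rfl
  have hKn : K.Normal := ⟨fun x hx g => (hmemK _).mpr fun φ => by
    rw [IsCharacter.conj_apply (irr_isCharacter (χ φ))]; exact (hmemK x).mp hx φ⟩
  have hdisj : K ⊓ H = ⊥ := by
    rw [Subgroup.eq_bot_iff_forall]
    rintro x ⟨hxK, hxH⟩
    have hc : IsConj (⟨x, hxH⟩ : H) 1 := by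
      rw [isConj_iff_forall_irr]
      intro φ
      rw [← hres φ, ← hres φ]
      exact (hmemK x).mp hxK φ
    have h1 : (⟨x, hxH⟩ : H) = 1 := isConj_one_left.mp hc
    exact congrArg Subtype.val h1
  have hset : (K : Set G) = Cfsg.frobeniusKernel H := by
    refine subset_antisymm (fun x hx => mem_frobeniusKernel_iff.mpr ?_)
      (fun x hx => (hmemK x).mpr fun φ => hker φ x hx)
    refine or_iff_not_imp_left.mpr fun hx1 g hg => hx1 ?_
    have : g⁻¹ * x * g ∈ K ⊓ H := Subgroup.mem_inf.mpr
      ⟨by simpa using hKn.conj_mem x hx g⁻¹, hg⟩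
    rw [hdisj, Subgroup.mem_bot] at this
    calc x = g * (g⁻¹ * x * g) * g⁻¹ := by group
      _ = 1 := by rw [this]; group
  have hinj : Function.Injective fun p : K × H => (p.1 : G) * p.2 := by
    refine fun p q hpq => ?_
    have hmem : (q.1 : G)⁻¹ * p.1 ∈ K ⊓ H := Subgroup.mem_inf.mpr
      ⟨K.mul_mem (K.inv_mem q.1.2) p.1.2, by
        have : (q.1 : G)⁻¹ * p.1 = (q.2 : G) * (p.2 : G)⁻¹ := by
          rw [eq_mul_inv_iff_mul_eq, mul_assoc, inv_mul_eq_iff_eq_mul]; exact hpq
        rw [this]; exact H.mul_mem q.2.2 (H.inv_mem p.2.2)⟩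
    rw [hdisj, Subgroup.mem_bot, inv_mul_eq_one] at hmem
    refine Prod.ext (Subtype.ext hmem.symm) (Subtype.ext ?_)
    have h := hpq
    simp only [hmem] at h
    exact mul_left_cancel h
  -- the kernel has at least `index` elements
  have hcard : H.index ≤ Nat.card K := by
    have hex : ∀ x : {x : G // x ∉ K}, ∃ c : G ⧸ H, c.out⁻¹ * x.1 * c.out ∈ H := by
      intro x
      obtain ⟨g, hg⟩ : ∃ g : G, g⁻¹ * x.1 * g ∈ H := by
        by_contra hc
        push Not at hc
        have hmem : x.1 ∈ Cfsg.frobeniusKernel H := mem_frobeniusKernel_iff.mpr (Or.inr hc)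
        rw [← hset] at hmem
        exact x.2 hmem
      obtain ⟨k, hk⟩ := QuotientGroup.mk_out_eq_mul H g
      refine ⟨(g : G ⧸ H), ?_⟩
      rw [hk, mul_inv_rev]
      simpa [mul_assoc] using H.mul_mem (H.mul_mem (H.inv_mem k.2) hg) k.2
    choose c hc using hex
    let f' : {x : G // x ∉ K} → (G ⧸ H) × {h : H // h ≠ 1} := fun x =>
      (c x, ⟨⟨_, hc x⟩, fun h => x.2 (by
        have h' : (c x).out⁻¹ * x.1 * (c x).out = 1 := congrArg Subtype.val h
        have : x.1 = 1 := by
          calc x.1 = (c x).out * ((c x).out⁻¹ * x.1 * (c x).out) * (c x).out⁻¹ := by group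
            _ = 1 := by rw [h']; group
        rw [this]; exact K.one_mem)⟩)
    have hf' : Function.Injective f' := by
      intro a b hab
      have h1 : c a = c b := congrArg Prod.fst hab
      have h2 : (c a).out⁻¹ * a.1 * (c a).out = (c b).out⁻¹ * b.1 * (c b).out :=
        congrArg (fun p : (G ⧸ H) × {h : H // h ≠ 1} => ((p.2.1 : H) : G)) hab
      rw [h1] at h2
      exact Subtype.ext (mul_left_cancel (mul_right_cancel h2))
    have hle := Nat.card_le_card_of_injective f' hf'
    rw [Nat.card_prod, ← Subgroup.index] at hle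
    have hH1 : Nat.card {h : H // h ≠ 1} + 1 = Nat.card H := by
      let _ : Fintype H := Fintype.ofFinite H
      rw [Nat.card_eq_fintype_card, Nat.card_eq_fintype_card, Fintype.card_subtype_compl,
        Fintype.card_subtype_eq]
      have : 0 < Fintype.card H := Fintype.card_pos
      omega
    have hG : Nat.card {x : G // x ∈ K} + Nat.card {x : G // x ∉ K} = Nat.card G := by
      rw [← Nat.card_sum]; exact Nat.card_congr (Equiv.sumCompl fun x => x ∈ K)
    have hGeq := H.index_mul_card
    rw [← hH1, mul_add, mul_one] at hGeq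
    have : Nat.card K = Nat.card {x : G // x ∈ K} := rfl
    omega
  have hle := Nat.card_le_card_of_injective _ hinj
  rw [Nat.card_prod] at hle
  have hGeq := H.index_mul_card
  have hKcard : Nat.card K = H.index := by
    refine le_antisymm (Nat.le_of_mul_le_mul_right ?_ (Nat.card_pos (α := H))) hcard
    omega
  have hcompl : K.IsComplement' H :=
    Subgroup.isComplement'_of_card_mul_and_disjoint (by rw [hKcard, hGeq])
      (disjoint_iff.mpr hdisj)
  refine ⟨K, hKn, hset, hdisj, hcompl.sup_eq_top, ?_, hcompl, hKcard⟩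
  intro h
  have h1 : H.index = 1 := by rw [← hKcard, h, Subgroup.card_bot]
  exact hH.2.1 (Subgroup.index_eq_one.mp h1)

/-- The kernel is characterized as the normal complement. -/
theorem frobeniusKernel_fixedPointFree [Finite G] {H : Subgroup G}
    (hH : Cfsg.IsFrobeniusComplement H) {K : Subgroup G}
    (hK : (K : Set G) = Cfsg.frobeniusKernel H) :
    ∀ h ∈ H, h ≠ 1 → ∀ n ∈ K, h * n = n * h → n = 1 := by
  obtain ⟨K', -, hK', hd, -⟩ := exists_frobeniusKernel hH
  have : K = K' := SetLike.coe_injective (hK.trans hK'.symm)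
  exact fixedPointFree_of_isFrobeniusComplement hH (this ▸ hd)

end Cfsg.Agent.Lib.Frobenius
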