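import Cfsg.Prelude.Def_Solvable
import Mathlib.GroupTheory.Index
import Mathlib.GroupTheory.GroupAction.Quotient
import Mathlib.GroupTheory.Sylow

/-!
Elementary facts on Frobenius complements `Cfsg.IsFrobeniusComplement` and on semidirect
decompositions `G = N ⋊ H` with `H` acting fixed-point-freely on `N`.
No character theory in this file.
-/

set_option autoImplicit false

namespace Cfsg.Agent.Lib.Frobenius

open scoped Pointwise

variable {G : Type*} [Group G]

theorem mem_conj_smul {H : Subgroup G} {g x : G} :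
    x ∈ MulAut.conj g • H ↔ g⁻¹ * x * g ∈ H := by
  rw [Subgroup.mem_pointwise_smul_iff_inv_smul_mem]
  simp [MulAut.smul_def]

theorem isFrobeniusComplement_iff {H : Subgroup G} :
    Cfsg.IsFrobeniusComplement H ↔
      H ≠ ⊥ ∧ H ≠ ⊤ ∧ ∀ g : G, g ∉ H → ∀ h ∈ H, g⁻¹ * h * g ∈ H → h = 1 := by
  simp only [Cfsg.IsFrobeniusComplement, Subgroup.eq_bot_iff_forall, Subgroup.mem_inf,
    mem_conj_smul, and_imp]

theorem mem_of_conj_mem {H : Subgroup G} (hH : Cfsg.IsFrobeniusComplement H) {g h : G}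
    (hh : h ∈ H) (h1 : h ≠ 1) (hconj : g * h * g⁻¹ ∈ H) : g ∈ H := by
  by_contra hg
  have := (isFrobeniusComplement_iff.mp hH).2.2 g⁻¹ (fun h' => hg (by simpa using H.inv_mem h'))
    h hh (by simpa using hconj)
  exact h1 this

theorem centralizer_le {H : Subgroup G} (hH : Cfsg.IsFrobeniusComplement H) {h : G}
    (hh : h ∈ H) (h1 : h ≠ 1) : Subgroup.centralizer ({h} : Set G) ≤ H := by
  intro g hg
  have : g * h = h * g := ((Subgroup.mem_centralizer_iff.mp hg) h rfl).symm
  exact mem_of_conj_mem hH hh h1 (by simpa [this] using hh)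

theorem normalizer_eq {H : Subgroup G} (hH : Cfsg.IsFrobeniusComplement H) :
    Subgroup.normalizer (H : Set G) = H := by
  refine le_antisymm (fun g hg => ?_) Subgroup.le_normalizer
  obtain ⟨h, hh, h1⟩ : ∃ h ∈ H, h ≠ 1 := by
    by_contra hc
    push Not at hc
    exact hH.1 ((Subgroup.eq_bot_iff_forall H).mpr hc)
  exact mem_of_conj_mem hH hh h1 ((Subgroup.mem_normalizer_iff.mp hg h).mp hh)

theorem map_mulEquiv {H : Subgroup G} (hH : Cfsg.IsFrobeniusComplement H) {G' : Type*} [Group G']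
    (e : G ≃* G') : Cfsg.IsFrobeniusComplement (H.map e.toMonoidHom) := by
  rw [isFrobeniusComplement_iff] at hH ⊢
  refine ⟨?_, ?_, ?_⟩
  · exact fun h => hH.1 ((Subgroup.map_eq_bot_iff_of_injective _ e.injective).mp h)
  · intro h
    apply hH.2.1
    rw [eq_top_iff]
    intro x _
    have : e x ∈ H.map e.toMonoidHom := h ▸ Subgroup.mem_top _
    obtain ⟨y, hy, hyx⟩ := this
    rwa [← e.injective hyx]
  · intro g hg h hh hconj
    obtain ⟨x, hx, rfl⟩ := hh
    obtain ⟨y, hy, hye⟩ := hconj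
    obtain ⟨g, rfl⟩ := e.surjective g
    have hg' : g ∉ H := fun h' => hg ⟨g, h', rfl⟩
    have hye' : y = g⁻¹ * x * g := e.injective (by simpa using hye)
    simp [hH.2.2 g hg' x hx (hye' ▸ hy)]

/-- The order of a Frobenius complement divides its index minus one. -/
theorem exists_index_eq [Finite G] {H : Subgroup G} (hH : Cfsg.IsFrobeniusComplement H) :
    ∃ k : ℕ, H.index = Nat.card H * k + 1 := by
  classical
  have hfix : ∀ c : G ⧸ H, c ≠ ((1 : G) : G ⧸ H) →
      MulAction.stabilizer H c = ⊥ := by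
    intro c hc
    induction c using Quotient.inductionOn' with
    | h g =>
      rw [Subgroup.eq_bot_iff_forall]
      intro h hh
      have hmem : g⁻¹ * ((h : G) * g) ∈ H := by
        have h' : ((g : G) : G ⧸ H) = (((h : G) * g : G) : G ⧸ H) :=
          (MulAction.mem_stabilizer_iff.mp hh).symm
        exact QuotientGroup.eq.mp h'
      have hg : g ∉ H := fun h' => hc (by
        apply QuotientGroup.eq.mpr
        simpa using H.inv_mem h')
      exact Subtype.ext ((isFrobeniusComplement_iff.mp hH).2.2 g hg h h.2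
        (by rwa [mul_assoc]))
  have hone : MulAction.orbit H ((1 : G) : G ⧸ H) = {((1 : G) : G ⧸ H)} := by
    ext c
    constructor
    · rintro ⟨h, rfl⟩
      exact QuotientGroup.eq.mpr (by simp)
    · rintro rfl
      exact MulAction.mem_orbit_self _
  set o : MulAction.orbitRel.Quotient H (G ⧸ H) :=
    Quotient.mk'' ((1 : G) : G ⧸ H) with ho
  have _ := Fintype.ofFinite (MulAction.orbitRel.Quotient H (G ⧸ H))
  refine ⟨(Finset.univ.erase o).card, ?_⟩
  have key : Nat.card (G ⧸ H) =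
      ∑ ω : MulAction.orbitRel.Quotient H (G ⧸ H), Nat.card ω.orbit := by
    rw [Nat.card_congr (MulAction.selfEquivSigmaOrbits' H (G ⧸ H)), Nat.card_sigma]
  have horb : ∀ ω ∈ Finset.univ.erase o, Nat.card ω.orbit = Nat.card H := by
    intro ω hω
    induction ω using Quotient.inductionOn' with
    | h c =>
      have hc : c ≠ ((1 : G) : G ⧸ H) := fun h => (Finset.mem_erase.mp hω).1 (by rw [h, ho])
      rw [show (MulAction.orbitRel.Quotient.orbit (Quotient.mk'' c : MulAction.orbitRel.Quotient H (G ⧸ H))) = MulAction.orbit H c from rfl]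
      rw [Nat.card_congr (MulAction.orbitEquivQuotientStabilizer H c), hfix c hc]
      exact Subgroup.index_bot
  have ho1 : Nat.card o.orbit = 1 := by
    rw [ho, show (MulAction.orbitRel.Quotient.orbit (Quotient.mk'' ((1 : G) : G ⧸ H) : MulAction.orbitRel.Quotient H (G ⧸ H))) = MulAction.orbit H ((1 : G) : G ⧸ H) from rfl, hone]
    simp
  rw [Subgroup.index, key, ← Finset.add_sum_erase _ _ (Finset.mem_univ o), ho1,
    Finset.sum_congr rfl horb, Finset.sum_const, smul_eq_mul, mul_comm, add_comm]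

theorem card_coprime_index [Finite G] {H : Subgroup G} (hH : Cfsg.IsFrobeniusComplement H) :
    (Nat.card H).Coprime H.index := by
  obtain ⟨k, hk⟩ := exists_index_eq hH
  rw [hk]
  simp

theorem ne_bot_of_mem {H : Subgroup G} {h : G} (hh : h ∈ H) (h1 : h ≠ 1) : H ≠ ⊥ :=
  fun hb => h1 (by simpa [hb] using hh)

/-- `G = N ⋊ H` with `H` fixed-point-free on `N` makes `H` a Frobenius complement. -/
theorem isFrobeniusComplement_of_fixedPointFree {N H : Subgroup G} [N.Normal]
    (hdisj : N ⊓ H = ⊥) (hsup : N ⊔ H = ⊤) (hN : N ≠ ⊥) (hH : H ≠ ⊥)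
    (hfpf : ∀ h ∈ H, h ≠ 1 → ∀ n ∈ N, h * n = n * h → n = 1) :
    Cfsg.IsFrobeniusComplement H := by
  refine isFrobeniusComplement_iff.mpr ⟨hH, ?_, ?_⟩
  · intro h
    apply hN
    rw [← hdisj, h, inf_top_eq]
  · intro g hg h hh hconj
    by_contra h1
    apply hg
    have hmem : g ∈ N ⊔ H := by rw [hsup]; trivial
    rw [← SetLike.mem_coe, Subgroup.normal_mul] at hmem
    obtain ⟨n, hn, k, hk, rfl⟩ := Set.mem_mul.mp hmem
    have h2 : n⁻¹ * h * n ∈ H := by
      have := H.mul_mem (H.mul_mem hk hconj) (H.inv_mem hk)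
      simpa [mul_assoc] using this
    have h3 : h⁻¹ * (n⁻¹ * h * n) ∈ N ⊓ H := by
      refine Subgroup.mem_inf.mpr ⟨?_, H.mul_mem (H.inv_mem hh) h2⟩
      have := N.mul_mem ((‹N.Normal›).conj_mem n⁻¹ (N.inv_mem hn) h⁻¹) hn
      simpa [mul_assoc] using this
    rw [hdisj, Subgroup.mem_bot] at h3
    have h4 : h * n = n * h := by
      have h5 : n⁻¹ * h * n = h := inv_mul_eq_one.mp h3 |>.symm
      calc h * n = n * (n⁻¹ * h * n) := by group
        _ = n * h := by rw [h5]
    rw [hfpf h hh h1 n hn h4, one_mul]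
    exact hk

theorem exists_conj_eq_of_fixedPointFree [Finite G] {N H : Subgroup G} [N.Normal]
    (hfpf : ∀ h ∈ H, h ≠ 1 → ∀ n ∈ N, h * n = n * h → n = 1)
    {h : G} (hh : h ∈ H) (h1 : h ≠ 1) {n : G} (hn : n ∈ N) :
    ∃ m ∈ N, m * h * m⁻¹ = n * h := by
  have hmem : ∀ m : N, (m : G) * h * (m : G)⁻¹ * h⁻¹ ∈ N := fun m => by
    have := N.mul_mem m.2 ((‹N.Normal›).conj_mem (m : G)⁻¹ (N.inv_mem m.2) h)
    simpa [mul_assoc] using this
  let f : N → N := fun m => ⟨(m : G) * h * (m : G)⁻¹ * h⁻¹, hmem m⟩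
  have hinj : Function.Injective f := by
    intro a b hab
    have hab' : (a : G) * h * (a : G)⁻¹ = (b : G) * h * (b : G)⁻¹ :=
      mul_right_cancel (congrArg Subtype.val hab)
    have hc : h * ((b : G)⁻¹ * a) = ((b : G)⁻¹ * a) * h := by
      calc h * ((b : G)⁻¹ * a) = (b : G)⁻¹ * ((b : G) * h * (b : G)⁻¹) * a := by group
        _ = ((b : G)⁻¹ * a) * h := by rw [← hab']; group
    exact Subtype.ext (inv_mul_eq_one.mp (hfpf h hh h1 _ (N.mul_mem (N.inv_mem b.2) a.2) hc)).symm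
  obtain ⟨m, hm⟩ := Finite.surjective_of_injective hinj ⟨n, hn⟩
  refine ⟨m, m.2, ?_⟩
  have : (m : G) * h * (m : G)⁻¹ * h⁻¹ = n := congrArg Subtype.val hm
  rw [← this]; group

/-- `G = N ⋊ H` with `H` fixed-point-free on `N` has Frobenius kernel `N`. -/
theorem frobeniusKernel_eq_of_fixedPointFree [Finite G] {N H : Subgroup G} [N.Normal]
    (hdisj : N ⊓ H = ⊥) (hsup : N ⊔ H = ⊤)
    (hfpf : ∀ h ∈ H, h ≠ 1 → ∀ n ∈ N, h * n = n * h → n = 1) :
    Cfsg.frobeniusKernel H = (N : Set G) := by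
  ext x
  simp only [Cfsg.frobeniusKernel, Set.mem_ofPred_eq, mem_conj_smul, SetLike.mem_coe]
  constructor
  · rintro (rfl | hx)
    · exact N.one_mem
    · have hmem : x ∈ N ⊔ H := by rw [hsup]; trivial
      rw [← SetLike.mem_coe, Subgroup.normal_mul] at hmem
      obtain ⟨n, hn, k, hk, rfl⟩ := Set.mem_mul.mp hmem
      by_cases hk1 : k = 1
      · simpa [hk1] using hn
      · obtain ⟨m, _, hm⟩ := exists_conj_eq_of_fixedPointFree hfpf hk hk1 hn
        exact absurd (show m⁻¹ * (n * k) * m ∈ H by rw [← hm]; simpa [mul_assoc] using hk) (hx m)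
  · intro hx
    by_cases hx1 : x = 1
    · exact Or.inl hx1
    · refine Or.inr fun g hg => hx1 ?_
      have h2 : g⁻¹ * x * g ∈ N ⊓ H := by
        refine Subgroup.mem_inf.mpr ⟨?_, hg⟩
        simpa using (‹N.Normal›).conj_mem x hx g⁻¹
      rw [hdisj, Subgroup.mem_bot] at h2
      calc x = g * (g⁻¹ * x * g) * g⁻¹ := by group
        _ = 1 := by rw [h2]; group

/-- The subgroup `N ⊔ H` version, for `N` normal in `G`. -/
theorem isFrobeniusComplement_subgroupOf_sup [Finite G] {N H : Subgroup G} [N.Normal]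
    (hdisj : N ⊓ H = ⊥) (hN : N ≠ ⊥) (hH : H ≠ ⊥)
    (hfpf : ∀ h ∈ H, h ≠ 1 → ∀ n ∈ N, h * n = n * h → n = 1) :
    Cfsg.IsFrobeniusComplement (H.subgroupOf (N ⊔ H)) ∧
      Cfsg.frobeniusKernel (H.subgroupOf (N ⊔ H)) = (N.subgroupOf (N ⊔ H) : Set ↥(N ⊔ H)) := by
  have hd : N.subgroupOf (N ⊔ H) ⊓ H.subgroupOf (N ⊔ H) = ⊥ := by
    rw [Subgroup.eq_bot_iff_forall]
    intro x hx
    apply Subtype.ext
    have : (x : G) ∈ N ⊓ H := Subgroup.mem_inf.mpr
      ⟨Subgroup.mem_subgroupOf.mp hx.1, Subgroup.mem_subgroupOf.mp hx.2⟩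
    simpa [hdisj] using this
  have hs : N.subgroupOf (N ⊔ H) ⊔ H.subgroupOf (N ⊔ H) = ⊤ := by
    rw [← Subgroup.subgroupOf_sup le_sup_left le_sup_right, Subgroup.subgroupOf_self]
  have hf : ∀ h ∈ H.subgroupOf (N ⊔ H), h ≠ 1 → ∀ n ∈ N.subgroupOf (N ⊔ H),
      h * n = n * h → n = 1 := fun h hh h1 n hn hc => Subtype.ext
    (hfpf h (Subgroup.mem_subgroupOf.mp hh) (fun e => h1 (Subtype.ext e)) n
      (Subgroup.mem_subgroupOf.mp hn) (congrArg Subtype.val hc))
  refine ⟨isFrobeniusComplement_of_fixedPointFree hd hs ?_ ?_ hf,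
    frobeniusKernel_eq_of_fixedPointFree hd hs hf⟩
  · intro h
    apply hN
    rw [Subgroup.subgroupOf_eq_bot] at h
    exact h.eq_bot_of_le le_sup_left
  · intro h
    apply hH
    rw [Subgroup.subgroupOf_eq_bot] at h
    exact h.eq_bot_of_le le_sup_right

/-- If the kernel of a Frobenius complement is a normal complement, the complement acts
fixed-point-freely on it. -/
theorem fixedPointFree_of_isFrobeniusComplement {N H : Subgroup G}
    (hH : Cfsg.IsFrobeniusComplement H) (hdisj : N ⊓ H = ⊥) :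
    ∀ h ∈ H, h ≠ 1 → ∀ n ∈ N, h * n = n * h → n = 1 := by
  intro h hh h1 n hn hc
  have hnH : n ∈ H := mem_of_conj_mem hH hh h1 (by rw [← hc]; simpa using hh)
  have : n ∈ N ⊓ H := Subgroup.mem_inf.mpr ⟨hn, hnH⟩
  simpa [hdisj] using this

end Cfsg.Agent.Lib.Frobenius
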