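import Cfsg.Agent.Lib.Frobenius.Action
import Mathlib.GroupTheory.Index
import Mathlib.GroupTheory.PGroup

/-!
Structure of groups `A` acting fixed-point-freely, `∀ a ≠ 1, ∀ g, φ a g = g → g = 1`:
abelian subgroups are cyclic, subgroups of order `p * q` are cyclic, Sylow subgroups have a unique
subgroup of prime order; Frobenius groups acting on abelian groups.
-/

set_option autoImplicit false

namespace Cfsg.Agent.Lib.Frobenius

variable {G : Type*} [Group G]

/-- A finite group with at most `p` solutions of `x ^ p = 1` for every prime `p`, and commutative,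
is cyclic. -/
theorem isCyclic_of_commute_of_prime_roots {B : Type*} [Group B] [Finite B]
    (hcomm : ∀ a b : B, a * b = b * a)
    (h : ∀ p : ℕ, p.Prime → Nat.card {x : B // x ^ p = 1} ≤ p) : IsCyclic B := by
  classical
  have := Fintype.ofFinite B
  have key : ∀ n : ℕ, 0 < n → Nat.card {x : B // x ^ n = 1} ≤ n := by
    intro n
    induction n using induction_on_primes with
    | zero => intro h0; exact absurd h0 (lt_irrefl 0)
    | one =>
      intro _
      have : Subsingleton {x : B // x ^ 1 = 1} :=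
        ⟨fun a b => Subtype.ext (by rw [show (a : B) = 1 by simpa using a.2,
          show (b : B) = 1 by simpa using b.2])⟩
      exact Finite.card_le_one_iff_subsingleton.mpr this
    | prime_mul p n hp ih =>
      intro hpn
      have hn : 0 < n := Nat.pos_of_mul_pos_left hpn
      let f : {x : B // x ^ (p * n) = 1} → {x : B // x ^ n = 1} :=
        fun x => ⟨x.1 ^ p, by rw [← pow_mul]; exact x.2⟩
      have hfib : ∀ y, Nat.card {x // f x = y} ≤ p := by
        intro y
        by_cases hy : Nonempty {x // f x = y}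
        · obtain ⟨x₀⟩ := hy
          refine le_trans (Nat.card_le_card_of_injective
            (fun x => (⟨x₀.1.1⁻¹ * x.1.1, ?_⟩ : {x : B // x ^ p = 1})) ?_) (h p hp)
          · have h1 : x.1.1 ^ p = y.1 := congrArg Subtype.val x.2
            have h0 : x₀.1.1 ^ p = y.1 := congrArg Subtype.val x₀.2
            have hc : Commute x₀.1.1⁻¹ x.1.1 := hcomm _ _
            rw [hc.mul_pow, inv_pow, h0, h1, inv_mul_cancel]
          · intro a b hab
            exact Subtype.ext (Subtype.ext (mul_left_cancel (congrArg Subtype.val hab)))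
        · have := not_nonempty_iff.mp hy
          simp
      calc Nat.card {x : B // x ^ (p * n) = 1}
          = ∑ y, Nat.card {x // f x = y} := by
            rw [Nat.card_congr (Equiv.sigmaFiberEquiv f).symm, Nat.card_sigma]
        _ ≤ ∑ _y : {x : B // x ^ n = 1}, p := Finset.sum_le_sum fun y _ => hfib y
        _ = Nat.card {x : B // x ^ n = 1} * p := by simp
        _ ≤ n * p := Nat.mul_le_mul_right p (ih hn)
        _ = p * n := mul_comm _ _
  refine isCyclic_of_card_pow_eq_one_le fun n hn => ?_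
  have := key n hn
  rwa [Nat.card_eq_fintype_card, Fintype.card_subtype] at this

theorem mem_zpowers_iff_eq_of_prime {B : Type*} [Group B] {p : ℕ} [Fact p.Prime] {a b : B}
    (hb : orderOf b = p) (ha1 : a ≠ 1) (ha : a ∈ Subgroup.zpowers b) :
    Subgroup.zpowers a = Subgroup.zpowers b := by
  have hle : Subgroup.zpowers a ≤ Subgroup.zpowers b := Subgroup.zpowers_le.mpr ha
  have hfin : Nat.card (Subgroup.zpowers b) = p := by rw [Nat.card_zpowers, hb]
  have : Finite (Subgroup.zpowers b) := Nat.finite_of_card_ne_zero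
    (by rw [hfin]; exact (Fact.out : p.Prime).pos.ne')
  refine Subgroup.eq_of_le_of_card_ge hle ?_
  have hd := Subgroup.card_dvd_of_le hle
  rw [hfin] at hd ⊢
  rcases (Fact.out : p.Prime).eq_one_or_self_of_dvd _ hd with h | h
  · rw [Nat.card_zpowers, orderOf_eq_one_iff] at h
    exact absurd h ha1
  · exact h.ge

variable {A : Type*} [Group A]

/-- The product of the conjugates of `v` under a fixed-point-free cyclic group is `1`. -/
theorem prod_zpowers_eq_one [Finite A] {V : Type*} [CommGroup V] (φ : A →* MulAut V) {b : A}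
    (hb : ∀ v, φ b v = v → v = 1) (v : V) [Fintype (Subgroup.zpowers b)] :
    ∏ x : Subgroup.zpowers b, φ x v = 1 := by
  refine hb _ ?_
  rw [map_prod]
  exact Fintype.prod_equiv (Equiv.mulLeft ⟨b, Subgroup.mem_zpowers b⟩) _ _ fun x => by simp

theorem prod_range_pow_eq_one [Finite A] {V : Type*} [CommGroup V] (φ : A →* MulAut V) {c : A}
    {n : ℕ} (hn : c ^ n = 1) (hc : ∀ v, φ c v = v → v = 1) (v : V) :
    ∏ j ∈ Finset.range n, φ (c ^ j) v = 1 := by
  refine hc _ ?_
  rw [map_prod]
  have h1 := Finset.prod_range_succ' (fun j => φ (c ^ j) v) n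
  rw [Finset.prod_range_succ, hn, pow_zero] at h1
  rw [mul_right_cancel h1]
  refine Finset.prod_congr rfl fun j _ => ?_
  rw [pow_succ', map_mul, MulAut.mul_apply]

/-- Core computation: if `u x` are `|⟨b⟩|` elements of period `n` whose `j`-th powers run through
`a ^ j * ⟨b⟩` for all `0 < j < n`, then the abelian group acted on is killed by `|⟨b⟩|`. -/
theorem pow_card_zpowers_eq_one [Finite A] {V : Type*} [CommGroup V] (φ : A →* MulAut V)
    {a b : A} {n : ℕ} (hn0 : 0 < n) (hb : ∀ v, φ b v = v → v = 1)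
    (u : Subgroup.zpowers b → A) (hun : ∀ x, u x ^ n = 1)
    (hu : ∀ x v, φ (u x) v = v → v = 1)
    (f : ℕ → Subgroup.zpowers b → Subgroup.zpowers b)
    (hf : ∀ j, 0 < j → j < n → Function.Injective (f j))
    (huf : ∀ j, 0 < j → j < n → ∀ x, u x ^ j = a ^ j * (f j x : A)) (v : V) :
    v ^ orderOf b = 1 := by
  classical
  have := Fintype.ofFinite (Subgroup.zpowers b)
  have h1 : ∏ x : Subgroup.zpowers b, ∏ j ∈ Finset.range n, φ (u x ^ j) v = 1 :=
    Finset.prod_eq_one fun x _ => prod_range_pow_eq_one φ (hun x) (hu x) v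
  rw [Finset.prod_comm, Finset.prod_eq_single 0] at h1
  · simpa [← Nat.card_eq_fintype_card, Nat.card_zpowers] using h1
  · intro j hj hj0
    have hj' : 0 < j := Nat.pos_of_ne_zero hj0
    have hlt : j < n := Finset.mem_range.mp hj
    have he : ∏ x : Subgroup.zpowers b, φ (u x ^ j) v =
        ∏ x : Subgroup.zpowers b, φ (a ^ j) (φ x v) :=
      Fintype.prod_bijective (f j) (Finite.injective_iff_bijective.mp (hf j hj' hlt)) _ _
        fun x => by rw [huf j hj' hlt x, map_mul, MulAut.mul_apply]
    rw [he, ← map_prod, prod_zpowers_eq_one φ hb, map_one]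
  · intro h; exact absurd (Finset.mem_range.mpr hn0) h

/-- A fixed-point-free group of automorphisms of a nontrivial group has no elements `a`, `b` of
prime order with `a ∉ ⟨b⟩` normalizing `⟨b⟩` and satisfying the hypotheses of the core lemma. -/
theorem false_of_core [Finite G] [Nontrivial G] [Finite A] (φ : A →* MulAut G)
    (hfpf : ∀ a : A, a ≠ 1 → ∀ g : G, φ a g = g → g = 1)
    {a b : A} {n : ℕ} (hn0 : 0 < n) (hb1 : b ≠ 1)
    (hnorm : a ∈ Subgroup.normalizer (Subgroup.zpowers b : Set A))
    (u : Subgroup.zpowers b → A) (huN : ∀ x, u x ∈ Subgroup.normalizer (Subgroup.zpowers b : Set A))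
    (hun : ∀ x, u x ^ n = 1) (hu1 : ∀ x, u x ≠ 1)
    (f : ℕ → Subgroup.zpowers b → Subgroup.zpowers b)
    (hf : ∀ j, 0 < j → j < n → Function.Injective (f j))
    (huf : ∀ j, 0 < j → j < n → ∀ x, u x ^ j = a ^ j * (f j x : A)) : False := by
  set N := Subgroup.normalizer (Subgroup.zpowers b : Set A) with hN
  have hbN : b ∈ N := Subgroup.le_normalizer (Subgroup.mem_zpowers b)
  have hnormal : (Subgroup.zpowers (⟨b, hbN⟩ : N)).Normal := by
    have h := Subgroup.normal_in_normalizer (H := Subgroup.zpowers b)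
    have he : Subgroup.zpowers (⟨b, hbN⟩ : N) = (Subgroup.zpowers b).subgroupOf N := by
      ext x
      simp only [Subgroup.mem_subgroupOf, Subgroup.mem_zpowers_iff, Subtype.ext_iff,
        SubgroupClass.coe_zpow]
    rw [he]
    exact h
  obtain ⟨V, hV, hVab, hVinv⟩ := exists_invariant_abelian (φ.comp N.subtype) hnormal
    (hfpf b hb1)
  have : IsMulCommutative V := hVab
  let _ : CommGroup V := open scoped IsMulCommutative in inferInstance
  let ψ : N →* MulAut V :=
    { toFun := fun x =>
        { toFun := fun v => ⟨φ x v, hVinv x v v.2⟩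
          invFun := fun v => ⟨φ (x : A)⁻¹ v, by simpa using hVinv x⁻¹ v v.2⟩
          left_inv := fun v => Subtype.ext (by simp)
          right_inv := fun v => Subtype.ext (by simp)
          map_mul' := fun v w => Subtype.ext (map_mul (φ x) (v : G) (w : G)) }
      map_one' := by ext; simp
      map_mul' := fun x y => by ext; simp }
  have hψ : ∀ (x : N) (v : V), (x : A) ≠ 1 → ψ x v = v → v = 1 := fun x v hx h =>
    Subtype.ext (hfpf x hx v (congrArg Subtype.val h))
  have hzb : ∀ x : Subgroup.zpowers (⟨b, hbN⟩ : N), ((x : N) : A) ∈ Subgroup.zpowers b := by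
    intro x
    obtain ⟨z, hz⟩ := Subgroup.mem_zpowers_iff.mp x.2
    exact Subgroup.mem_zpowers_iff.mpr ⟨z, by rw [← hz]; simp⟩
  have hzb' : ∀ x : Subgroup.zpowers b, (⟨x, Subgroup.le_normalizer x.2⟩ : N) ∈
      Subgroup.zpowers (⟨b, hbN⟩ : N) := by
    intro x
    obtain ⟨z, hz⟩ := Subgroup.mem_zpowers_iff.mp x.2
    exact Subgroup.mem_zpowers_iff.mpr ⟨z, Subtype.ext (by rw [← hz]; simp)⟩
  have hkill : ∀ v : V, v ^ orderOf (⟨b, hbN⟩ : N) = 1 :=
    pow_card_zpowers_eq_one ψ (a := ⟨a, hnorm⟩) hn0 (fun v h => hψ _ v hb1 h)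
      (fun x => ⟨u ⟨_, hzb x⟩, huN _⟩) (fun x => Subtype.ext (by simpa using hun ⟨_, hzb x⟩))
      (fun x v h => hψ _ v (hu1 _) h)
      (fun j x => ⟨_, hzb' (f j ⟨_, hzb x⟩)⟩)
      (fun j hj hjn x y h => by
        have h' := hf j hj hjn (Subtype.ext (congrArg (fun w : Subgroup.zpowers (⟨b, hbN⟩ : N) =>
          ((w : N) : A)) h))
        exact Subtype.ext (Subtype.ext (congrArg (fun w : Subgroup.zpowers b => (w : A)) h')))
      (fun j hj hjn x => Subtype.ext (by simpa using huf j hj hjn ⟨_, hzb x⟩))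
  obtain ⟨v, hv, hv1⟩ := V.bot_or_exists_ne_one.resolve_left hV
  refine hv1 (congrArg Subtype.val (eq_one_of_pow_eq_one_of_coprime (n := orderOf b) ?_
    (g := (⟨v, hv⟩ : V)) ?_))
  · exact Nat.Coprime.coprime_dvd_right (Subgroup.card_subgroup_dvd_card V)
      (Nat.Coprime.coprime_dvd_left (orderOf_dvd_natCard b) (card_coprime φ hfpf))
  · have := hkill ⟨v, hv⟩
    rwa [← Subgroup.orderOf_coe] at this

/-- In a fixed-point-free group of automorphisms, commuting elements of the same prime order
generate the same cyclic group. -/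
theorem mem_zpowers_of_commute [Finite G] [Nontrivial G] [Finite A] (φ : A →* MulAut G)
    (hfpf : ∀ a : A, a ≠ 1 → ∀ g : G, φ a g = g → g = 1)
    {p : ℕ} (hp : p.Prime) {a b : A} (ha : orderOf a = p) (hb : orderOf b = p)
    (hab : a * b = b * a) : a ∈ Subgroup.zpowers b := by
  by_contra hnot
  have : Fact p.Prime := ⟨hp⟩
  have hb1 : b ≠ 1 := by rintro rfl; rw [orderOf_one] at hb; exact hp.ne_one hb.symm
  have hN : ∀ x, Commute x b → x ∈ Subgroup.normalizer (Subgroup.zpowers b : Set A) := by
    intro x hx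
    rw [Subgroup.mem_normalizer_iff]
    intro y
    refine ⟨fun hy => ?_, fun hy => ?_⟩
    · obtain ⟨z, rfl⟩ := Subgroup.mem_zpowers_iff.mp hy
      rw [(Commute.zpow_right hx z).eq, mul_inv_cancel_right]
      exact zpow_mem (Subgroup.mem_zpowers _) _
    · obtain ⟨z, hz⟩ := Subgroup.mem_zpowers_iff.mp hy
      have : y = b ^ z := by
        calc y = x⁻¹ * (x * y * x⁻¹) * x := by group
          _ = x⁻¹ * b ^ z * x := by rw [hz]
          _ = b ^ z := by rw [(Commute.zpow_right (Commute.inv_left hx) z).eq, inv_mul_cancel_right]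
      rw [this]
      exact zpow_mem (Subgroup.mem_zpowers _) _
  have hcx : ∀ x : Subgroup.zpowers b, Commute (x : A) b := fun x => by
    obtain ⟨z, hz⟩ := Subgroup.mem_zpowers_iff.mp x.2
    rw [← hz]; exact Commute.zpow_left (Commute.refl b) z
  have hax : ∀ x : Subgroup.zpowers b, Commute a (x : A) := fun x => by
    obtain ⟨z, hz⟩ := Subgroup.mem_zpowers_iff.mp x.2
    rw [← hz]; exact Commute.zpow_right hab z
  refine false_of_core φ hfpf hp.pos hb1 (hN a hab) (fun x => a * x)
    (fun x => hN _ ((show Commute a b from hab).mul_left (hcx x))) ?_ ?_ (fun j x => x ^ j) ?_ ?_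
  · intro x
    rw [(hax x).mul_pow, ← ha, pow_orderOf_eq_one, one_mul]
    have : orderOf (x : A) ∣ p := by
      rw [Subgroup.orderOf_coe]
      have h := orderOf_dvd_natCard x
      rwa [Nat.card_zpowers, hb] at h
    rw [ha]
    exact orderOf_dvd_iff_pow_eq_one.mp this
  · intro x h
    exact hnot (by rw [mul_eq_one_iff_eq_inv.mp h]; exact (Subgroup.zpowers b).inv_mem x.2)
  · intro j hj hjp x y h
    have hcop : (Nat.card (Subgroup.zpowers b)).Coprime j := by
      rw [Nat.card_zpowers, hb, hp.coprime_iff_not_dvd]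
      exact fun hd => absurd (Nat.le_of_dvd hj hd) (not_le.mpr hjp)
    exact (powCoprime hcop).injective h
  · intro j _ _ x
    rw [(hax x).mul_pow]; rfl

/-- In a fixed-point-free group of automorphisms, an element of prime order normalizing a cyclic
group of prime order centralizes it. -/
theorem commute_of_mem_normalizer [Finite G] [Nontrivial G] [Finite A] (φ : A →* MulAut G)
    (hfpf : ∀ a : A, a ≠ 1 → ∀ g : G, φ a g = g → g = 1)
    {a b : A} (ha : (orderOf a).Prime) (hb : (orderOf b).Prime)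
    (hnorm : a ∈ Subgroup.normalizer (Subgroup.zpowers b : Set A)) : a * b = b * a := by
  by_contra hnc
  have : Fact (orderOf b).Prime := ⟨hb⟩
  have hb1 : b ≠ 1 := by rintro rfl; simp [orderOf_one, Nat.not_prime_one] at hb
  set N := Subgroup.normalizer (Subgroup.zpowers b : Set A) with hN
  have hxN : ∀ x : Subgroup.zpowers b, (x : A) ∈ N := fun x => Subgroup.le_normalizer x.2
  have hmem : ∀ (j : ℕ) (x : Subgroup.zpowers b),
      (a ^ j)⁻¹ * (x * a ^ j * (x : A)⁻¹) ∈ Subgroup.zpowers b := by
    intro j x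
    have h := (Subgroup.mem_normalizer_iff.mp (N.inv_mem (N.pow_mem hnorm j)) x).mp x.2
    rw [inv_inv] at h
    rw [← mul_assoc, ← mul_assoc]
    exact mul_mem h (inv_mem x.2)
  refine false_of_core φ hfpf ha.pos hb1 hnorm (fun x => x * a * (x : A)⁻¹)
    (fun x => N.mul_mem (N.mul_mem (hxN x) hnorm) (N.inv_mem (hxN x))) ?_ ?_
    (fun j x => ⟨_, hmem j x⟩) ?_ ?_
  · intro x; rw [conj_pow, pow_orderOf_eq_one]; group
  · intro x h
    rw [mul_inv_eq_one, mul_eq_left] at h
    rw [h] at ha; simp [orderOf_one, Nat.not_prime_one] at ha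
  · intro j hj hja x y h
    have h' : (x : A) * a ^ j * (x : A)⁻¹ = y * a ^ j * (y : A)⁻¹ :=
      mul_left_cancel (congrArg Subtype.val h)
    by_contra hxy
    have hcd : ((y : A)⁻¹ * x) * a ^ j = a ^ j * ((y : A)⁻¹ * x) := by
      calc ((y : A)⁻¹ * x) * a ^ j = (y : A)⁻¹ * ((x : A) * a ^ j * (x : A)⁻¹) * x := by group
        _ = a ^ j * ((y : A)⁻¹ * x) := by rw [h']; group
    have hd : (y : A)⁻¹ * x ≠ 1 := fun e => hxy (Subtype.ext (inv_mul_eq_one.mp e).symm)
    have hz := mem_zpowers_iff_eq_of_prime (b := b) rfl hd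
      (mul_mem (inv_mem y.2) x.2)
    have hb' : Commute (a ^ j) b := by
      have hbm : b ∈ Subgroup.zpowers ((y : A)⁻¹ * x) := by rw [hz]; exact Subgroup.mem_zpowers b
      obtain ⟨z, hz'⟩ := Subgroup.mem_zpowers_iff.mp hbm
      rw [← hz']
      exact Commute.zpow_right hcd.symm z
    have : Fact (orderOf a).Prime := ⟨ha⟩
    have hja1 : a ^ j ≠ 1 := pow_ne_one_of_lt_orderOf hj.ne' hja
    have haz := mem_zpowers_iff_eq_of_prime (b := a) rfl hja1
      (Subgroup.pow_mem _ (Subgroup.mem_zpowers a) j)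
    have ham : a ∈ Subgroup.zpowers (a ^ j) := by rw [haz]; exact Subgroup.mem_zpowers a
    obtain ⟨z, hz'⟩ := Subgroup.mem_zpowers_iff.mp ham
    exact hnc (by rw [← hz']; exact (Commute.zpow_left hb' z).eq)
  · intro j _ _ x
    rw [conj_pow]; group

/-- Commutative subgroups of fixed-point-free groups of automorphisms are cyclic. -/
theorem isCyclic_of_commutative [Finite G] [Nontrivial G] [Finite A] (φ : A →* MulAut G)
    (hfpf : ∀ a : A, a ≠ 1 → ∀ g : G, φ a g = g → g = 1)
    (B : Subgroup A) (hB : ∀ a ∈ B, ∀ b ∈ B, a * b = b * a) : IsCyclic B := by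
  refine isCyclic_of_commute_of_prime_roots
    (fun a b => Subtype.ext (hB a a.2 b b.2)) fun p hp => ?_
  have : Fact p.Prime := ⟨hp⟩
  by_cases h : ∃ b : B, b ^ p = 1 ∧ b ≠ 1
  · obtain ⟨b, hb, hb1⟩ := h
    have hob : orderOf b = p := orderOf_eq_prime hb hb1
    calc Nat.card {x : B // x ^ p = 1} ≤ Nat.card (Subgroup.zpowers b) := by
          refine Nat.card_le_card_of_injective (fun x => ⟨x.1, ?_⟩)
            (fun x y h => Subtype.ext (congrArg (fun w : Subgroup.zpowers b => (w : B)) h))
          by_cases hx1 : x.1 = 1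
          · rw [hx1]; exact one_mem _
          · have hox : orderOf x.1 = p := orderOf_eq_prime x.2 hx1
            obtain ⟨z, hz⟩ := Subgroup.mem_zpowers_iff.mp (mem_zpowers_of_commute φ hfpf hp
              (a := (x.1 : A)) (b := (b : A)) (by rw [Subgroup.orderOf_coe, hox])
              (by rw [Subgroup.orderOf_coe, hob]) (hB _ x.1.2 _ b.2))
            exact Subgroup.mem_zpowers_iff.mpr ⟨z, Subtype.ext (by simpa using hz)⟩
      _ = p := by rw [Nat.card_zpowers, hob]
  · push Not at h
    have : Subsingleton {x : B // x ^ p = 1} :=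
      ⟨fun x y => Subtype.ext (by rw [h x.1 x.2, h y.1 y.2])⟩
    exact (Finite.card_le_one_iff_subsingleton.mpr this).trans hp.one_lt.le

/-- A `p`-group acting fixed-point-freely has a unique subgroup of order `p`. -/
theorem zpowers_eq_of_orderOf_prime [Finite G] [Nontrivial G] [Finite A] (φ : A →* MulAut G)
    (hfpf : ∀ a : A, a ≠ 1 → ∀ g : G, φ a g = g → g = 1)
    {p : ℕ} [Fact p.Prime] (hA : IsPGroup p A) {a b : A} (ha : orderOf a = p) (hb : orderOf b = p) :
    Subgroup.zpowers a = Subgroup.zpowers b := by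
  have ha1 : a ≠ 1 := by rintro rfl; rw [orderOf_one] at ha; exact (Fact.out : p.Prime).ne_one ha.symm
  have : Nontrivial A := nontrivial_of_ne a 1 ha1
  have hc := hA.center_nontrivial
  obtain ⟨⟨c, hc⟩, hc1⟩ := exists_ne (1 : Subgroup.center A)
  obtain ⟨k, hk⟩ := (Nat.dvd_prime_pow (Fact.out : p.Prime)).mp
    (show orderOf c ∣ p ^ (Classical.choose (hA c)) from
      orderOf_dvd_of_pow_eq_one (Classical.choose_spec (hA c)))
  obtain ⟨-, hk⟩ := hk
  have hk0 : k ≠ 0 := by
    rintro rfl
    rw [pow_zero, orderOf_eq_one_iff] at hk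
    exact hc1 (Subtype.ext hk)
  obtain ⟨z, hz, hzc⟩ : ∃ z, orderOf z = p ∧ z ∈ Subgroup.center A := by
    refine ⟨c ^ (orderOf c / p), ?_, Subgroup.pow_mem _ hc _⟩
    exact orderOf_pow_orderOf_div (orderOf_pos c).ne' (hk ▸ dvd_pow_self p hk0)
  have key : ∀ x : A, orderOf x = p → Subgroup.zpowers x = Subgroup.zpowers z := by
    intro x hx
    refine mem_zpowers_iff_eq_of_prime hz ?_ (mem_zpowers_of_commute φ hfpf Fact.out hx hz
      (Subgroup.mem_center_iff.mp hzc x))
    rintro rfl; rw [orderOf_one] at hx; exact (Fact.out : p.Prime).ne_one hx.symm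
  rw [key a ha, key b hb]

/-- If a finite group `A` has a normal subgroup `F` and a subgroup `H` whose conjugates by `F`
together with `F` partition `A \ {1}`, and `A` acts on an abelian group `V` of order prime to `|F|`
with neither `F` nor `H` having nontrivial fixed points, then `V` is trivial. -/
theorem eq_one_of_frobenius_partition [Finite A] {V : Type*} [CommGroup V] [Finite V]
    (φ : A →* MulAut V) (F H : Subgroup A) (hcop : (Nat.card F).Coprime (Nat.card V))
    (hcover : ∀ a : A, a ∉ F → ∃! f : F, (f : A)⁻¹ * a * f ∈ H) (hdisj : F ⊓ H = ⊥)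
    (hF : ∀ v, (∀ a ∈ F, φ a v = v) → v = 1) (hH : ∀ v, (∀ a ∈ H, φ a v = v) → v = 1)
    (v : V) : v = 1 := by
  classical
  have := Fintype.ofFinite F
  refine eq_one_of_pow_eq_one_of_coprime hcop (g := v) ?_
  have hcomap : ∀ (f : F) (a : A),
      a ∈ H.comap (MulAut.conj (f : A)⁻¹).toMonoidHom ↔ (f : A)⁻¹ * a * f ∈ H := by
    intro f a; simp
  have key := pow_card_eq_self_of_partition φ
    (fun i : Option F => i.elim F (fun f => H.comap (MulAut.conj (f : A)⁻¹).toMonoidHom))
    ?_ ?_ (fun w hw => hF w fun a _ => hw a) v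
  · rw [Fintype.card_option, pow_succ, mul_eq_right] at key
    rwa [Nat.card_eq_fintype_card]
  · intro a ha
    by_cases haF : a ∈ F
    · refine ⟨none, haF, ?_⟩
      rintro (_ | f) hf
      · rfl
      · have hf' : (f : A)⁻¹ * a * f ∈ F ⊓ H := Subgroup.mem_inf.mpr
          ⟨F.mul_mem (F.mul_mem (F.inv_mem f.2) haF) f.2, (hcomap f a).mp hf⟩
        rw [hdisj, Subgroup.mem_bot] at hf'
        refine absurd ?_ ha
        calc a = (f : A) * ((f : A)⁻¹ * a * f) * (f : A)⁻¹ := by group
          _ = 1 := by rw [hf']; group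
    · obtain ⟨f, hf, huniq⟩ := hcover a haF
      refine ⟨some f, (hcomap f a).mpr hf, ?_⟩
      rintro (_ | g) hg
      · exact absurd hg haF
      · rw [huniq g ((hcomap g a).mp hg)]
  · rintro (_ | f) w hw
    · exact hF w hw
    · have h1 : φ (f : A)⁻¹ w = 1 := hH _ fun a ha => by
        have := hw ((f : A) * a * (f : A)⁻¹) ((hcomap f _).mpr (by simpa [mul_assoc] using ha))
        rw [← MulAut.mul_apply, ← map_mul]
        conv_rhs => rw [← this]
        rw [← MulAut.mul_apply, ← map_mul]
        congr 2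
        group
      exact (φ (f : A)⁻¹).injective (h1.trans (map_one _).symm)

end Cfsg.Agent.Lib.Frobenius
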