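import Mathlib.GroupTheory.FixedPointFree
import Mathlib.GroupTheory.Sylow
import Mathlib.GroupTheory.SpecificGroups.Cyclic
import Mathlib.GroupTheory.Abelianization.Defs
import Mathlib.Algebra.BigOperators.Group.Finset.Basic
import Mathlib.Algebra.Group.End

/-!
Fixed-point-free automorphisms and fixed-point-free actions `φ : A →* MulAut G`,
the latter spelled `∀ a ≠ 1, ∀ g, φ a g = g → g = 1`.
-/

set_option autoImplicit false

namespace Cfsg.Agent.Lib.Frobenius

variable {G : Type*} [Group G]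

/-- Equivariance of `MulEquiv` on Sylow subgroups, elementwise. -/
theorem sylow_map_mulAut [Finite G] {p : ℕ} [Fact p.Prime] (σ : MulAut G) (P : Sylow p G) :
    ∃ Q : Sylow p G, (Q : Subgroup G) = (P : Subgroup G).map σ.toMonoidHom :=
  ⟨σ • P, rfl⟩

/-- A fixed-point-free automorphism leaves invariant a Sylow subgroup. -/
theorem exists_invariant_sylow [Finite G] (p : ℕ) [Fact p.Prime] (σ : MulAut G)
    (hσ : ∀ g, σ g = g → g = 1) :
    ∃ P : Sylow p G, ∀ x ∈ (P : Subgroup G), σ x ∈ (P : Subgroup G) := by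
  obtain ⟨P₀⟩ : Nonempty (Sylow p G) := inferInstance
  obtain ⟨Q, hQ⟩ := sylow_map_mulAut σ P₀
  obtain ⟨g, hg⟩ := MulAction.exists_smul_eq G P₀ Q
  have hσ' : MonoidHom.FixedPointFree σ := hσ
  obtain ⟨m, hm⟩ := hσ'.commutatorMap_surjective g⁻¹
  refine ⟨m⁻¹ • P₀, fun x hx => ?_⟩
  rw [Sylow.coe_subgroup_smul, Subgroup.mem_pointwise_smul_iff_inv_smul_mem] at hx ⊢
  simp only [map_inv, inv_inv, MulAut.smul_def, MulAut.conj_apply] at hx ⊢
  have h1 : σ (m * x * m⁻¹) ∈ (Q : Subgroup G) := by
    rw [hQ]; exact ⟨_, hx, rfl⟩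
  rw [← hg, Sylow.coe_subgroup_smul, Subgroup.mem_pointwise_smul_iff_inv_smul_mem] at h1
  simp only [MonoidHom.commutatorMap_apply] at hm
  rw [show g = σ m * m⁻¹ by rw [← inv_inv g, ← hm, div_eq_mul_inv, mul_inv_rev, inv_inv]] at h1
  simp only [MulAut.smul_def] at h1
  simpa [div_eq_mul_inv, mul_assoc] using h1

/-- The invariant Sylow subgroup of a fixed-point-free automorphism is unique. -/
theorem invariant_sylow_unique [Finite G] {p : ℕ} [Fact p.Prime] (σ : MulAut G)
    (hσ : ∀ g, σ g = g → g = 1) (P Q : Sylow p G)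
    (hP : ∀ x ∈ (P : Subgroup G), σ x ∈ (P : Subgroup G))
    (hQ : ∀ x ∈ (Q : Subgroup G), σ x ∈ (Q : Subgroup G)) : P = Q := by
  have hmap : ∀ R : Sylow p G, (∀ x ∈ (R : Subgroup G), σ x ∈ (R : Subgroup G)) →
      ∀ x, σ x ∈ (R : Subgroup G) ↔ x ∈ (R : Subgroup G) := by
    intro R hR x
    refine ⟨fun h => ?_, hR x⟩
    obtain ⟨y, hy⟩ := (Finite.surjective_of_injective
      (f := fun y : (R : Subgroup G) => (⟨σ y, hR y y.2⟩ : (R : Subgroup G)))
      (fun a b h => Subtype.ext (σ.injective (congrArg Subtype.val h)))) ⟨σ x, h⟩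
    rw [← σ.injective (congrArg Subtype.val hy : σ y = σ x)]
    exact y.2
  have hmemN : ∀ (R : Sylow p G) (g : G),
      g • R = R ↔ g ∈ Subgroup.normalizer ((R : Subgroup G) : Set G) := fun R g =>
    Sylow.smul_eq_iff_mem_normalizer
  obtain ⟨m, hm⟩ := MulAction.exists_smul_eq G P Q
  have hN : ∀ x ∈ Subgroup.normalizer ((P : Subgroup G) : Set G),
      σ x ∈ Subgroup.normalizer ((P : Subgroup G) : Set G) := by
    intro x hx
    rw [Subgroup.mem_normalizer_iff] at hx ⊢
    intro h
    obtain ⟨h, rfl⟩ := σ.surjective h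
    rw [← map_inv, ← map_mul, ← map_mul, hmap P hP, hmap P hP]
    exact hx h
  set N := Subgroup.normalizer ((P : Subgroup G) : Set G) with hNdef
  have hd : m⁻¹ * σ m ∈ N := by
    rw [hNdef, Subgroup.mem_normalizer_iff]
    intro h
    have hQ' : ∀ y, y ∈ (Q : Subgroup G) ↔ m⁻¹ * y * m ∈ (P : Subgroup G) := by
      intro y
      rw [← hm, Sylow.coe_subgroup_smul, Subgroup.mem_pointwise_smul_iff_inv_smul_mem]
      simp [MulAut.smul_def]
    obtain ⟨h, rfl⟩ := σ.surjective h
    rw [hmap P hP]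
    have e : σ m * σ h * (σ m)⁻¹ = σ (m * h * m⁻¹) := by simp
    have : m⁻¹ * σ m * σ h * (m⁻¹ * σ m)⁻¹ = m⁻¹ * (σ m * σ h * (σ m)⁻¹) * m := by group
    rw [this, ← hQ', e, hmap Q hQ, hQ']
    simp [mul_assoc]
  obtain ⟨n, hn⟩ := (Finite.surjective_of_injective
    (f := fun x : N => (⟨(x : G)⁻¹ * σ x, N.mul_mem (N.inv_mem x.2) (hN x x.2)⟩ : N))
    (fun a b h => by
      have h' : (a : G)⁻¹ * σ a = (b : G)⁻¹ * σ b := congrArg Subtype.val h
      refine Subtype.ext ?_
      have : σ ((a : G) * (b : G)⁻¹) = (a : G) * (b : G)⁻¹ := by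
        rw [map_mul, map_inv]
        have h2 : σ a = (a : G) * ((b : G)⁻¹ * σ b) := by rw [← h']; group
        rw [h2]; group
      exact mul_inv_eq_one.mp (hσ _ this))) ⟨m⁻¹ * σ m, hd⟩
  have hn' : (n : G)⁻¹ * σ n = m⁻¹ * σ m := congrArg Subtype.val hn
  have : σ (m * (n : G)⁻¹) = m * (n : G)⁻¹ := by
    rw [map_mul, map_inv]
    have h2 : σ m = m * ((n : G)⁻¹ * σ n) := by rw [hn']; group
    rw [h2]; group
  have hmn : m = n := mul_inv_eq_one.mp (hσ _ this)
  rw [← hm, eq_comm, hmn]
  exact (hmemN P n).mpr n.2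

/-- A fixed-point-free automorphism induces a fixed-point-free automorphism on the quotient. -/
theorem fixedPointFree_quotient [Finite G] (σ : MulAut G) (hσ : ∀ g, σ g = g → g = 1)
    (N : Subgroup G) (hN : ∀ n ∈ N, σ n ∈ N) {g : G} (hg : g⁻¹ * σ g ∈ N) : g ∈ N := by
  obtain ⟨n, hn⟩ := (Finite.surjective_of_injective
    (f := fun x : N => (⟨(x : G)⁻¹ * σ x, N.mul_mem (N.inv_mem x.2) (hN x x.2)⟩ : N))
    (fun a b h => by
      have h' : (a : G)⁻¹ * σ a = (b : G)⁻¹ * σ b := congrArg Subtype.val h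
      refine Subtype.ext ?_
      have : σ ((a : G) * (b : G)⁻¹) = (a : G) * (b : G)⁻¹ := by
        rw [map_mul, map_inv]
        have h2 : σ a = (a : G) * ((b : G)⁻¹ * σ b) := by rw [← h']; group
        rw [h2]; group
      exact mul_inv_eq_one.mp (hσ _ this))) ⟨g⁻¹ * σ g, hg⟩
  have hn' : (n : G)⁻¹ * σ n = g⁻¹ * σ g := congrArg Subtype.val hn
  have : σ (g * (n : G)⁻¹) = g * (n : G)⁻¹ := by
    rw [map_mul, map_inv]
    have h2 : σ g = g * ((n : G)⁻¹ * σ n) := by rw [hn']; group
    rw [h2]; group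
  rw [mul_inv_eq_one.mp (hσ _ this)]
  exact n.2

variable {A : Type*} [Group A]

/-- The order of a fixed-point-free group of automorphisms divides `|G| - 1`. -/
theorem exists_card_eq [Finite G] [Finite A] (φ : A →* MulAut G)
    (hfpf : ∀ a : A, a ≠ 1 → ∀ g : G, φ a g = g → g = 1) :
    ∃ k : ℕ, Nat.card G = Nat.card A * k + 1 := by
  classical
  let _inst : MulAction A G := MulAction.compHom G φ
  set o : MulAction.orbitRel.Quotient A G := Quotient.mk'' (1 : G) with ho
  have _ := Fintype.ofFinite (MulAction.orbitRel.Quotient A G)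
  refine ⟨(Finset.univ.erase o).card, ?_⟩
  have hsmul : ∀ (a : A) (g : G), a • g = φ a g := fun _ _ => rfl
  have key : Nat.card G = ∑ ω : MulAction.orbitRel.Quotient A G, Nat.card ω.orbit := by
    rw [Nat.card_congr (MulAction.selfEquivSigmaOrbits' A G), Nat.card_sigma]
  have ho1 : Nat.card o.orbit = 1 := by
    have : o.orbit = {(1 : G)} := by
      ext x
      rw [ho]
      constructor
      · rintro ⟨a, rfl⟩
        simp [hsmul]
      · rintro rfl
        exact MulAction.mem_orbit_self _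
    rw [this]; simp
  have horb : ∀ ω ∈ Finset.univ.erase o, Nat.card ω.orbit = Nat.card A := by
    intro ω hω
    induction ω using Quotient.inductionOn' with
    | h g =>
      have hg : g ≠ 1 := fun h => (Finset.mem_erase.mp hω).1 (by rw [h, ho])
      have hs : MulAction.stabilizer A g = ⊥ := by
        rw [Subgroup.eq_bot_iff_forall]
        intro a ha
        by_contra ha1
        exact hg (hfpf a ha1 g ha)
      rw [show (MulAction.orbitRel.Quotient.orbit (Quotient.mk'' g : MulAction.orbitRel.Quotient A G))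
        = MulAction.orbit A g from rfl]
      rw [Nat.card_congr (MulAction.orbitEquivQuotientStabilizer A g), hs]
      exact Subgroup.index_bot
  rw [key, ← Finset.add_sum_erase _ _ (Finset.mem_univ o), ho1,
    Finset.sum_congr rfl horb, Finset.sum_const, smul_eq_mul, mul_comm, add_comm]

theorem card_coprime [Finite G] [Finite A] (φ : A →* MulAut G)
    (hfpf : ∀ a : A, a ≠ 1 → ∀ g : G, φ a g = g → g = 1) :
    (Nat.card A).Coprime (Nat.card G) := by
  obtain ⟨k, hk⟩ := exists_card_eq φ hfpf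
  rw [hk]
  simp

/-- Partition lemma: if `A` acts on an abelian group `V` without fixed points, and is partitioned
by `m` subgroups each without fixed points, then `v ^ m = v` for all `v`. -/
theorem pow_card_eq_self_of_partition [Finite A] {V : Type*} [CommGroup V] (φ : A →* MulAut V)
    {ι : Type*} [Fintype ι] (S : ι → Subgroup A) (hcover : ∀ a : A, a ≠ 1 → ∃! i, a ∈ S i)
    (hS : ∀ i v, (∀ a ∈ S i, φ a v = v) → v = 1) (hA : ∀ v, (∀ a, φ a v = v) → v = 1) (v : V) :
    v ^ Fintype.card ι = v := by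
  classical
  have := Fintype.ofFinite A
  have hprod : ∀ T : Subgroup A, (∀ w, (∀ a ∈ T, φ a w = w) → w = 1) →
      ∏ a ∈ Finset.univ.filter (· ∈ T), φ a v = 1 := by
    intro T hT
    refine hT _ fun b hb => ?_
    rw [map_prod]
    refine Finset.prod_nbij' (fun a => b * a) (fun a => b⁻¹ * a) ?_ ?_ ?_ ?_ ?_
    · intro a ha; simp only [Finset.mem_filter, Finset.mem_univ, true_and] at ha ⊢
      exact T.mul_mem hb ha
    · intro a ha; simp only [Finset.mem_filter, Finset.mem_univ, true_and] at ha ⊢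
      exact T.mul_mem (T.inv_mem hb) ha
    · intro a _; simp
    · intro a _; simp
    · intro a _; simp
  have htot : ∏ a : A, φ a v = 1 := by
    have := hprod ⊤ (fun w hw => hA w fun a => hw a trivial)
    simpa using this
  have hline : ∀ i, ∏ a ∈ Finset.univ.filter (fun a => a ∈ S i ∧ a ≠ 1), φ a v = v⁻¹ := by
    intro i
    have h := hprod (S i) (hS i)
    have heq : Finset.univ.filter (fun a => a ∈ S i) =
        insert 1 (Finset.univ.filter (fun a => a ∈ S i ∧ a ≠ 1)) := by
      ext a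
      by_cases ha : a = 1 <;> simp [ha]
    rw [heq, Finset.prod_insert (by simp)] at h
    simp only [map_one, MulAut.one_apply] at h
    exact eq_inv_of_mul_eq_one_right h
  have hsplit : ∏ a ∈ Finset.univ.filter (fun a : A => a ≠ 1), φ a v =
      ∏ i, ∏ a ∈ Finset.univ.filter (fun a => a ∈ S i ∧ a ≠ 1), φ a v := by
    simp only [Finset.prod_filter]
    rw [Finset.prod_comm]
    refine Finset.prod_congr rfl fun a _ => ?_
    by_cases ha : a = 1
    · simp [ha]
    · obtain ⟨i, hi, huniq⟩ := hcover a ha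
      rw [Finset.prod_eq_single i]
      · simp [ha, hi]
      · intro j _ hj
        rw [if_neg]
        exact fun h => hj (huniq j h.1)
      · simp
  have h1 : Finset.univ = insert (1 : A) (Finset.univ.filter (fun a : A => a ≠ 1)) := by
    ext a
    by_cases ha : a = 1 <;> simp [ha]
  rw [h1, Finset.prod_insert (by simp), hsplit, Finset.prod_congr rfl (fun i _ => hline i),
    Finset.prod_const, Finset.card_univ, map_one, MulAut.one_apply, inv_pow,
    mul_inv_eq_one] at htot
  exact htot.symm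

theorem eq_one_of_pow_eq_one_of_coprime [Finite G] {n : ℕ} (hn : n.Coprime (Nat.card G)) {g : G}
    (hg : g ^ n = 1) : g = 1 := by
  have h := Nat.dvd_gcd (orderOf_dvd_of_pow_eq_one hg) (orderOf_dvd_natCard g)
  rw [Nat.Coprime] at hn
  rw [hn, Nat.dvd_one] at h
  exact orderOf_eq_one_iff.mp h

/-- Two involutions of a fixed-point-free group of automorphisms of a nontrivial group are equal. -/
theorem eq_of_orderOf_eq_two [Finite G] [Nontrivial G] (φ : A →* MulAut G)
    (hfpf : ∀ a : A, a ≠ 1 → ∀ g : G, φ a g = g → g = 1)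
    {s t : A} (hs : orderOf s = 2) (ht : orderOf t = 2) : s = t := by
  have hinv : ∀ a : A, orderOf a = 2 → ∀ g : G, φ a g = g⁻¹ := by
    intro a ha g
    have hfix : MonoidHom.FixedPointFree (φ a) := hfpf a (by intro h; simp [h] at ha)
    have h2 : a * a = 1 := by
      have := pow_orderOf_eq_one a
      rwa [ha, sq] at this
    have hinvol : Function.Involutive (φ a) := fun x => by
      rw [← MulAut.mul_apply, ← map_mul, h2, map_one, MulAut.one_apply]
    exact congrFun (hfix.coe_eq_inv_of_involutive hinvol) g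
  have hst : s⁻¹ * t = 1 := by
    by_contra h
    obtain ⟨g, hg⟩ := exists_ne (1 : G)
    refine hg (hfpf _ h g ?_)
    rw [map_mul, MulAut.mul_apply, hinv t ht, hinv s⁻¹ (by rwa [orderOf_inv]), inv_inv]
  exact inv_mul_eq_one.mp hst

/-- An even-order fixed-point-free group of automorphisms forces `G` abelian. -/
theorem isMulCommutative_of_two_dvd [Finite G] [Finite A] (φ : A →* MulAut G)
    (hfpf : ∀ a : A, a ≠ 1 → ∀ g : G, φ a g = g → g = 1) (h2 : 2 ∣ Nat.card A) :
    IsMulCommutative G := by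
  obtain ⟨a, ha⟩ := exists_prime_orderOf_dvd_card' 2 h2
  have hfix : MonoidHom.FixedPointFree (φ a) := hfpf a (by intro h; simp [h] at ha)
  have h2 : a * a = 1 := by
    have := pow_orderOf_eq_one a
    rwa [ha, sq] at this
  have hinvol : Function.Involutive (φ a) := fun x => by
    rw [← MulAut.mul_apply, ← map_mul, h2, map_one, MulAut.one_apply]
  exact ⟨⟨fun g h => hfix.commute_all_of_involutive hinvol g h⟩⟩

/-- A nontrivial abelian subgroup invariant under `A`, when `A` has a nontrivial cyclic normal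
subgroup acting fixed-point-freely. -/
theorem exists_invariant_abelian [Finite G] [Nontrivial G] (φ : A →* MulAut G) {b : A}
    (hb : (Subgroup.zpowers b).Normal) (hfix : ∀ g : G, φ b g = g → g = 1) :
    ∃ V : Subgroup G, V ≠ ⊥ ∧ IsMulCommutative V ∧ ∀ a : A, ∀ v ∈ V, φ a v ∈ V := by
  obtain ⟨p, hp, hpG⟩ := Nat.exists_prime_and_dvd (n := Nat.card G)
    (Finite.one_lt_card (α := G)).ne'
  have : Fact p.Prime := ⟨hp⟩
  obtain ⟨P, hP⟩ := exists_invariant_sylow p (φ b) hfix
  have hPz : ∀ z : ℤ, ∀ x ∈ (P : Subgroup G), φ (b ^ z) x ∈ (P : Subgroup G) := by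
    intro z
    induction z using Int.induction_on with
    | zero => intro x hx; simpa using hx
    | succ n ih => intro x hx; rw [zpow_add_one, map_mul, MulAut.mul_apply]; exact ih _ (hP x hx)
    | pred n ih =>
      intro x hx
      rw [zpow_sub_one, map_mul, MulAut.mul_apply]
      refine ih _ ?_
      obtain ⟨y, hy⟩ := (Finite.surjective_of_injective
        (f := fun y : (P : Subgroup G) => (⟨φ b y, hP y y.2⟩ : (P : Subgroup G)))
        (fun a c h => Subtype.ext ((φ b).injective (congrArg Subtype.val h)))) ⟨x, hx⟩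
      have hy' : φ b y = x := congrArg Subtype.val hy
      rw [← hy', ← MulAut.mul_apply, ← map_mul, inv_mul_cancel, map_one, MulAut.one_apply]
      exact y.2
  have hA : ∀ a : A, ∀ x ∈ (P : Subgroup G), φ a x ∈ (P : Subgroup G) := by
    intro a
    obtain ⟨Q, hQ⟩ := sylow_map_mulAut (φ a) P
    have hQinv : ∀ x ∈ (Q : Subgroup G), φ b x ∈ (Q : Subgroup G) := by
      rw [hQ]
      rintro x ⟨y, hy, rfl⟩
      obtain ⟨z, hz⟩ := Subgroup.mem_zpowers_iff.mp (hb.conj_mem b (Subgroup.mem_zpowers b) a⁻¹)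
      refine ⟨φ (b ^ z) y, hPz z y hy, ?_⟩
      change φ a (φ (b ^ z) y) = φ b (φ a y)
      rw [← MulAut.mul_apply, ← MulAut.mul_apply, ← map_mul, ← map_mul, hz]
      congr 2
      group
    rw [← invariant_sylow_unique (φ b) hfix P Q hP hQinv] at hQ
    intro x hx
    rw [hQ]
    exact ⟨x, hx, rfl⟩
  have hPne : (P : Subgroup G) ≠ ⊥ := P.ne_bot_of_dvd_card hpG
  have : Nontrivial (P : Subgroup G) := (Subgroup.nontrivial_iff_ne_bot _).mpr hPne
  refine ⟨(Subgroup.center (P : Subgroup G)).map (P : Subgroup G).subtype, ?_, ?_, ?_⟩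
  · intro h
    have hc := P.isPGroup'.center_nontrivial
    rw [Subgroup.nontrivial_iff_ne_bot] at hc
    exact hc ((Subgroup.map_eq_bot_iff_of_injective _ Subtype.coe_injective).mp h)
  · exact Subgroup.map_isMulCommutative _ _
  · rintro a _ ⟨z, hz, rfl⟩
    refine ⟨⟨φ a z, hA a z z.2⟩, ?_, rfl⟩
    rw [SetLike.mem_coe, Subgroup.mem_center_iff] at hz ⊢
    intro y
    apply Subtype.ext
    have h := congrArg (fun w : (P : Subgroup G) => φ a w)
      (hz ⟨φ a⁻¹ y, hA a⁻¹ y y.2⟩)
    simpa using h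

end Cfsg.Agent.Lib.Frobenius
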