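import Cfsg.Agent.Lib.Transfer.Frobenius
import Cfsg.Agent.Lib.Transfer.PFrattini
import Cfsg.Agent.Lib.PGroups.Subnormal
import Mathlib.GroupTheory.FiniteAbelian.Duality
import Mathlib.RingTheory.RootsOfUnity.AlgebraicallyClosed
import Mathlib.Analysis.Complex.Polynomial.Basic

/-!
Class sizes not divisible by `p²` for the smallest prime `p`.

If `p` is the smallest prime divisor of `|G|` and no class size is divisible by `p²`, then `G` has a
normal `p`-complement. The proof is a count of the elements lying over centralisers of nontrivial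
`p`-elements and over centralisers of subgroups of index `p` in Sylow subgroups.
-/

set_option autoImplicit false
set_option linter.style.haveILetI false
set_option linter.unusedSectionVars false

namespace Cfsg.Agent.Lib.Frobenius.ClassSizes

open Cfsg.Agent.Lib
open scoped Pointwise

variable {G : Type*} [Group G] [Finite G] {p : ℕ} [hp : Fact p.Prime]

/-- Every centraliser of an element contains a subgroup of index at most `p` in a Sylow subgroup. -/
def Hyp (p : ℕ) (G : Type*) [Group G] : Prop :=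
  ∀ (P : Sylow p G) (g : G), Nat.card P ∣ p * Nat.card (Subgroup.centralizer ({g} : Set G))

theorem exists_ne_one_of_ne_bot (H : Subgroup G) (h : H ≠ ⊥) : ∃ s ∈ H, s ≠ 1 := by
  by_contra hno
  push Not at hno
  exact h ((Subgroup.eq_bot_iff_forall _).mpr hno)

theorem hyp_of_index (h : ∀ g : G, ¬ p ^ 2 ∣ (Subgroup.centralizer ({g} : Set G)).index) : Hyp p G := by
  intro P g
  set C := Subgroup.centralizer ({g} : Set G)
  have hC : Nat.card C ≠ 0 := Nat.card_pos.ne'
  have hi : C.index ≠ 0 := Subgroup.index_ne_zero_of_finite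
  rw [P.card_eq_multiplicity, hp.out.pow_dvd_iff_le_factorization (mul_ne_zero hp.out.ne_zero hC),
    ← C.index_mul_card, Nat.factorization_mul hi hC, Nat.factorization_mul hp.out.ne_zero hC,
    Finsupp.add_apply, Finsupp.add_apply, hp.out.factorization_self]
  have : ¬ 2 ≤ C.index.factorization p := fun h2 =>
    h g ((hp.out.pow_dvd_iff_le_factorization hi).mpr h2)
  omega

/-- An element of order prime to `p` and `p - 1` normalising an abelian `p`-group and centralising a
subgroup of index `p` centralises it. -/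
theorem fix_of_index {P M : Subgroup G} (hP : IsPGroup p P) (hab : ∀ a ∈ P, ∀ b ∈ P, a * b = b * a)
    (hMP : M ≤ P) (hM : Nat.card M * p = Nat.card P) {x : G} (hx1 : (orderOf x).Coprime p)
    (hx2 : (orderOf x).Coprime (p - 1)) (hn : ∀ y ∈ P, x * y * x⁻¹ ∈ P)
    (hfix : ∀ m ∈ M, x * m = m * x) : ∀ y ∈ P, x * y = y * x := by
  intro y hy
  by_cases hyM : y ∈ M
  · exact hfix y hyM
  set M' := M.subgroupOf P
  haveI : M'.Normal := ⟨fun n hn g => by
    have : g * n * g⁻¹ = n := Subtype.ext (by
      show (g : G) * n * (g : G)⁻¹ = n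
      rw [hab g g.2 n n.2, mul_inv_cancel_right])
    rwa [this]⟩
  have hidx : M'.index = p := by
    have h1 := M'.index_mul_card
    rw [Nat.card_congr (Subgroup.subgroupOfEquivOfLe hMP).toEquiv, ← hM, mul_comm] at h1
    exact Nat.eq_of_mul_eq_mul_left Nat.card_pos h1
  let q : P →* P ⧸ M' := QuotientGroup.mk' M'
  have hq : ∀ z : P, q z = 1 ↔ (z : G) ∈ M := fun z => QuotientGroup.eq_one_iff z
  have hcard : Nat.card (P ⧸ M') = p := hidx
  haveI : IsCyclic (P ⧸ M') := isCyclic_of_prime_card hcard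
  set yb := q ⟨y, hy⟩
  have hyb : orderOf yb = p :=
    ((Nat.dvd_prime hp.out).mp (hcard ▸ orderOf_dvd_natCard yb)).resolve_left fun h =>
      hyM ((hq _).mp (orderOf_eq_one_iff.mp h))
  have hgen : q ⟨x * y * x⁻¹, hn y hy⟩ ∈ Subgroup.zpowers yb := by
    rw [Subgroup.eq_top_of_card_eq (Subgroup.zpowers yb) (by rw [Nat.card_zpowers, hyb, hcard])]
    exact Subgroup.mem_top _
  obtain ⟨a, ha⟩ := mem_powers_iff_mem_zpowers.mpr hgen
  set m1 : G := (y ^ a)⁻¹ * (x * y * x⁻¹)
  have hm1 : m1 ∈ M := by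
    have : q ((⟨y, hy⟩ : P) ^ a)⁻¹ * q ⟨x * y * x⁻¹, hn y hy⟩ = 1 := by
      rw [map_inv, map_pow, ← show (fun k => yb ^ k) a = q ⟨x * y * x⁻¹, hn y hy⟩ from ha]
      exact inv_mul_cancel _
    rw [← map_mul] at this
    simpa [m1] using (hq _).mp this
  have hxy : x * y * x⁻¹ = y ^ a * m1 := by simp [m1]
  have hiter : ∀ k : ℕ, ∃ m ∈ M, x ^ k * y * (x ^ k)⁻¹ = y ^ (a ^ k) * m := by
    intro k
    induction k with
    | zero => exact ⟨1, one_mem _, by simp⟩
    | succ k ih =>
      obtain ⟨m, hm, he⟩ := ih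
      refine ⟨m1 ^ (a ^ k) * m, mul_mem (pow_mem hm1 _) hm, ?_⟩
      calc x ^ (k + 1) * y * (x ^ (k + 1))⁻¹ = x * (x ^ k * y * (x ^ k)⁻¹) * x⁻¹ := by
            rw [pow_succ']; group
        _ = (x * y * x⁻¹) ^ (a ^ k) * (x * m * x⁻¹) := by
            rw [he, conj_pow]; group
        _ = y ^ (a ^ (k + 1)) * (m1 ^ (a ^ k) * m) := by
            rw [hxy, hfix m hm, mul_inv_cancel_right,
              (show Commute (y ^ a) m1 from hab _ (pow_mem hy a) _ (hMP hm1)).mul_pow, ← pow_mul,
              ← pow_succ', mul_assoc]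
  obtain ⟨m, hm, he⟩ := hiter (orderOf x)
  rw [pow_orderOf_eq_one, one_mul, inv_one, mul_one] at he
  have hpa : (a : ZMod p) ^ orderOf x = 1 := by
    have h1 : yb ^ (a ^ orderOf x) = yb ^ 1 := by
      rw [pow_one]
      conv_rhs => rw [show yb = q (⟨y, hy⟩ ^ (a ^ orderOf x) * ⟨m, hMP hm⟩) from
        congrArg q (Subtype.ext (by simpa using he))]
      rw [map_mul, map_pow, (hq ⟨m, hMP hm⟩).mpr hm, mul_one]
    rw [pow_eq_pow_iff_modEq, hyb] at h1
    have := (ZMod.natCast_eq_natCast_iff _ _ _).mpr h1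
    push_cast at this
    exact this
  have ha0 : (a : ZMod p) ≠ 0 := fun h => by
    rw [h, zero_pow (orderOf_pos x).ne'] at hpa
    exact zero_ne_one hpa
  have ha1 : (a : ZMod p) = 1 := by
    have := pow_gcd_eq_one.mpr ⟨hpa, ZMod.pow_card_sub_one_eq_one ha0⟩
    rwa [hx2, pow_one] at this
  obtain ⟨m2, hm2, hxy2⟩ : ∃ m2 ∈ M, x * y * x⁻¹ = y * m2 := by
    refine ⟨y⁻¹ * (y ^ a * m1), ?_, by rw [hxy]; group⟩
    have h1 : yb ^ a = yb ^ 1 := by
      rw [pow_eq_pow_iff_modEq, hyb]
      exact (ZMod.natCast_eq_natCast_iff _ _ _).mp (by simpa using ha1)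
    have h2 : q ((⟨y, hy⟩ : P)⁻¹ * ((⟨y, hy⟩ : P) ^ a * ⟨m1, hMP hm1⟩)) = 1 := by
      rw [map_mul, map_mul, map_inv, map_pow, (hq ⟨m1, hMP hm1⟩).mpr hm1, mul_one]
      show yb⁻¹ * yb ^ a = 1
      rw [h1, pow_one, inv_mul_cancel]
    exact (hq _).mp h2
  have hit2 : ∀ k : ℕ, x ^ k * y * (x ^ k)⁻¹ = y * m2 ^ k := by
    intro k
    induction k with
    | zero => simp
    | succ k ih =>
      calc x ^ (k + 1) * y * (x ^ (k + 1))⁻¹ = x * (x ^ k * y * (x ^ k)⁻¹) * x⁻¹ := by
            rw [pow_succ']; group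
        _ = (x * y * x⁻¹) * (x * m2 ^ k * x⁻¹) := by rw [ih]; group
        _ = y * m2 ^ (k + 1) := by
            rw [hxy2, hfix _ (pow_mem hm2 k), mul_inv_cancel_right, pow_succ', mul_assoc]
  have hm21 : m2 = 1 := by
    have h := hit2 (orderOf x)
    rw [pow_orderOf_eq_one, one_mul, inv_one, mul_one, left_eq_mul] at h
    obtain ⟨j, hj⟩ := hP ⟨m2, hMP hm2⟩
    have hj' : m2 ^ p ^ j = 1 := congrArg Subtype.val hj
    have := pow_gcd_eq_one.mpr ⟨h, hj'⟩
    rwa [Nat.Coprime.gcd_eq_one (hx1.pow_right j), pow_one] at this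
  rw [hm21, mul_one] at hxy2
  exact mul_inv_eq_iff_eq_mul.mp hxy2

theorem coprime_pred (hmin : ∀ r : ℕ, r.Prime → r ∣ Nat.card G → p ≤ r) (x : G) :
    (orderOf x).Coprime (p - 1) := by
  refine Nat.coprime_of_dvd fun r hr h1 h2 => ?_
  have h3 := hmin r hr (h1.trans (orderOf_dvd_natCard x))
  have h5 := hp.out.two_le
  have h4 := Nat.le_of_dvd (by omega) h2
  omega

theorem hmin_subgroup (hmin : ∀ r : ℕ, r.Prime → r ∣ Nat.card G → p ≤ r) (H : Subgroup G) :
    ∀ r : ℕ, r.Prime → r ∣ Nat.card H → p ≤ r :=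
  fun r hr hd => hmin r hr (hd.trans (Subgroup.card_subgroup_dvd_card H))

section Counting

variable [Fintype G]

open scoped Classical in
/-- The elements of order prime to `p` in a subgroup. -/
noncomputable def pp (p : ℕ) (H : Subgroup G) : Finset G :=
  Finset.univ.filter fun g => g ∈ H ∧ (orderOf g).Coprime p

theorem mem_pp {H : Subgroup G} {g : G} : g ∈ pp p H ↔ g ∈ H ∧ (orderOf g).Coprime p := by
  simp [pp]

theorem pp_spec {H : Subgroup G} (h : Cfsg.HasNormalPComplement p H) :
    (∀ a ∈ pp p H, ∀ b ∈ pp p H, a * b⁻¹ ∈ pp p H) ∧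
      ∀ Q : Sylow p G, (Q : Subgroup G) ≤ H → (pp p H).card * Nat.card Q = Nat.card H := by
  classical
  obtain ⟨P, N, hN, hc⟩ := h
  have hmem : ∀ g, g ∈ pp p H ↔ g ∈ N.map H.subtype := by
    intro g
    rw [mem_pp]
    constructor
    · rintro ⟨hg, hcop⟩
      exact ⟨⟨g, hg⟩, (Transfer.mem_iff_coprime hc _).mpr (by rwa [Subgroup.orderOf_mk]), rfl⟩
    · rintro ⟨⟨g, hg⟩, hgN, rfl⟩
      exact ⟨hg, by simpa [Subgroup.orderOf_mk] using (Transfer.mem_iff_coprime hc _).mp hgN⟩
  refine ⟨fun a ha b hb => (hmem _).mpr (mul_mem ((hmem _).mp ha) (inv_mem ((hmem _).mp hb))),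
    fun Q hQ => ?_⟩
  have h1 : (pp p H).card = Nat.card N := by
    rw [← Subgroup.card_map_of_injective H.subtype_injective, ← Nat.card_eq_finsetCard]
    exact Nat.card_congr (Equiv.subtypeEquivRight hmem)
  have h2 : Nat.card (Q.subtype hQ) = Nat.card P := (Sylow.card_eq_multiplicity _).trans P.card_eq_multiplicity.symm
  rw [h1, ← hc.card_mul, ← h2]
  congr 1
  exact (Nat.card_congr (Subgroup.subgroupOfEquivOfLe hQ).toEquiv).symm

open scoped Classical in
theorem fibre_bound (S : Finset G) (hS : ∀ a ∈ S, ∀ b ∈ S, a * b⁻¹ ∈ S) (Q0 : Sylow p G)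
    (T : Finset (Sylow p G)) (hT : ∀ g ∈ S, g • Q0 ∈ T) :
    S.card ≤ ∑ Q ∈ T, (S.filter fun g => g ∈ Subgroup.normalizer ((Q : Subgroup G) : Set G)).card := by
  rw [Finset.card_eq_sum_card_fiberwise hT]
  refine Finset.sum_le_sum fun Q _ => ?_
  rcases (S.filter fun g => g • Q0 = Q).eq_empty_or_nonempty with h | ⟨g0, hg0⟩
  · rw [h]; simp
  obtain ⟨hg0S, hg0Q⟩ := Finset.mem_filter.mp hg0
  refine Finset.card_le_card_of_injOn (fun g => g * g0⁻¹) (fun g hg => ?_)
    fun a _ b _ h => mul_right_cancel h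
  obtain ⟨hgS, hgQ⟩ := Finset.mem_filter.mp hg
  simp only [Finset.coe_filter, Set.mem_setOf_eq]
  refine ⟨hS g hgS g0 hg0S, Sylow.smul_eq_iff_mem_normalizer.mp ?_⟩
  rw [mul_smul, show g0⁻¹ • Q = Q0 by rw [← hg0Q, inv_smul_smul], hgQ]

theorem card_index_subgroups_le (Q : Sylow p G) (hab : IsMulCommutative Q) (S : Finset (Subgroup G))
    (hS : ∀ M ∈ S, M ≤ (Q : Subgroup G) ∧ Nat.card M * p = Nat.card Q) : S.card ≤ Nat.card Q := by
  classical
  letI : CommGroup Q := { (inferInstance : Group Q) with mul_comm := hab.is_comm.comm }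
  have hcard : Nat.card ((Q : Subgroup G) →* ℂˣ) = Nat.card Q :=
    CommGroup.card_monoidHom_of_hasEnoughRootsOfUnity (Q : Subgroup G) ℂ
  haveI : Finite ((Q : Subgroup G) →* ℂˣ) := Nat.finite_of_card_ne_zero (hcard.symm ▸ Nat.card_pos.ne')
  haveI := Fintype.ofFinite ((Q : Subgroup G) →* ℂˣ)
  calc S.card ≤ (Finset.univ.image fun χ : (Q : Subgroup G) →* ℂˣ => χ.ker.map (Q : Subgroup G).subtype).card := by
        refine Finset.card_le_card fun M hM => ?_
        obtain ⟨hMQ, hMc⟩ := hS M hM
        set M' := M.subgroupOf (Q : Subgroup G)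
        have hidx : M'.index = p := by
          have h1 := M'.index_mul_card
          rw [Nat.card_congr (Subgroup.subgroupOfEquivOfLe hMQ).toEquiv, ← hMc, mul_comm] at h1
          exact Nat.eq_of_mul_eq_mul_left Nat.card_pos h1
        haveI : Nontrivial ((Q : Subgroup G) ⧸ M') := Finite.one_lt_card_iff_nontrivial.mp (by
          rw [← Subgroup.index_eq_card, hidx]; exact hp.out.one_lt)
        obtain ⟨a, ha⟩ := exists_ne (1 : (Q : Subgroup G) ⧸ M')
        obtain ⟨ψ, hψ⟩ := CommGroup.exists_apply_ne_one_of_hasEnoughRootsOfUnity ((Q : Subgroup G) ⧸ M') ℂ ha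
        set χ := ψ.comp (QuotientGroup.mk' M')
        have hle : M' ≤ χ.ker := fun z hz => by
          rw [MonoidHom.mem_ker, MonoidHom.comp_apply, show QuotientGroup.mk' M' z = 1 from
            (QuotientGroup.eq_one_iff z).mpr hz, map_one]
        have hne : χ.ker ≠ ⊤ := fun h => hψ (by
          obtain ⟨z, rfl⟩ := QuotientGroup.mk'_surjective M' a
          exact (h ▸ Subgroup.mem_top z : z ∈ χ.ker))
        have hker : M' = χ.ker := by
          refine Subgroup.eq_of_le_of_card_ge hle ?_
          have hd := Subgroup.index_dvd_of_le hle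
          rw [hidx] at hd
          have hi : χ.ker.index = p := ((Nat.dvd_prime hp.out).mp hd).resolve_left
            fun h => hne (Subgroup.index_eq_one.mp h)
          have h1 := M'.index_mul_card
          have h2 := χ.ker.index_mul_card
          rw [hidx] at h1; rw [hi, ← h1] at h2
          exact (Nat.eq_of_mul_eq_mul_left hp.out.pos h2).le
        refine Finset.mem_image.mpr ⟨χ, Finset.mem_univ _, ?_⟩
        rw [← hker, Subgroup.map_subgroupOf_eq_of_le hMQ]
    _ ≤ Finset.univ.card := Finset.card_image_le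
    _ = Nat.card Q := by rw [Finset.card_univ, ← Nat.card_eq_fintype_card, hcard]

open scoped Classical in
/-- The elements lying over a subgroup of index `p`. -/
theorem card_over_index (hmin : ∀ r : ℕ, r.Prime → r ∣ Nat.card G → p ≤ r)
    (hab : ∀ P : Sylow p G, IsMulCommutative P)
    (hpc : ∀ s : G, s ≠ 1 → (∃ k, orderOf s = p ^ k) →
      Cfsg.HasNormalPComplement p (Subgroup.centralizer ({s} : Set G)))
    (hnt : ∀ Q : Sylow p G, p ^ 2 ∣ Nat.card Q) (hy : Finset (Subgroup G))
    (hhy : ∀ M ∈ hy, ∃ Q : Sylow p G, M ≤ (Q : Subgroup G) ∧ Nat.card M * p = Nat.card Q) :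
    (hy.biUnion fun M => pp p (Subgroup.centralizer (M : Set G))).card ≤
      ∑ Q : Sylow p G, Nat.card (Subgroup.centralizer ((Q : Subgroup G) : Set G)) := by
  have hpcs : ∀ (M : Subgroup G) (Q : Sylow p G), M ≤ (Q : Subgroup G) → Nat.card M * p = Nat.card Q →
      Cfsg.HasNormalPComplement p (Subgroup.centralizer (M : Set G)) := by
    intro M Q hMQ hM
    obtain ⟨c, hc⟩ := hnt Q
    have hne : M ≠ ⊥ := fun h => by
      rw [h, Subgroup.card_bot, one_mul, hc] at hM
      have h4 : p * (p * c) = p * 1 := by rw [← mul_assoc, ← pow_two, ← hM, mul_one]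
      have h5 := (Nat.eq_of_mul_eq_mul_left hp.out.pos h4)
      exact hp.out.ne_one (Nat.eq_one_of_mul_eq_one_right h5)
    obtain ⟨s, hs, hs1⟩ := exists_ne_one_of_ne_bot M hne
    obtain ⟨j, hj⟩ := Q.2 ⟨s, hMQ hs⟩
    have hj' : s ^ p ^ j = 1 := congrArg Subtype.val hj
    obtain ⟨i, -, hi⟩ := (Nat.dvd_prime_pow hp.out).mp (orderOf_dvd_of_pow_eq_one hj')
    refine Transfer.hasNormalPComplement_of_le ?_ (hpc s hs1 ⟨i, hi⟩)
    exact Subgroup.centralizer_le (Set.singleton_subset_iff.mpr hs)
  have hQself : ∀ Q : Sylow p G, (Q : Subgroup G) ≤ Subgroup.centralizer ((Q : Subgroup G) : Set G) :=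
    fun Q x hx y hy => congrArg Subtype.val ((hab Q).is_comm.comm ⟨y, hy⟩ ⟨x, hx⟩)
  refine Finset.card_biUnion_le.trans ?_
  calc ∑ M ∈ hy, (pp p (Subgroup.centralizer (M : Set G))).card
      ≤ ∑ M ∈ hy, ∑ Q ∈ (Finset.univ : Finset (Sylow p G)).filter fun Q : Sylow p G =>
          M ≤ (Q : Subgroup G) ∧ Nat.card M * p = Nat.card Q,
          (pp p (Subgroup.centralizer ((Q : Subgroup G) : Set G))).card := by
        refine Finset.sum_le_sum fun M hM => ?_
        obtain ⟨Q0, hMQ, hMc⟩ := hhy M hM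
        refine (fibre_bound _ (pp_spec (hpcs M Q0 hMQ hMc)).1 Q0
          (Finset.univ.filter fun Q : Sylow p G =>
            M ≤ (Q : Subgroup G) ∧ Nat.card M * p = Nat.card Q) fun g hg => ?_).trans ?_
        · refine Finset.mem_filter.mpr ⟨Finset.mem_univ _, fun m hm => ?_, ?_⟩
          · have hgm : g * m * g⁻¹ = m := by
              rw [← (mem_pp.mp hg).1 m hm, mul_inv_cancel_right]
            rw [← hgm, Sylow.coe_subgroup_smul]
            exact Subgroup.smul_mem_pointwise_smul m (MulAut.conj g) _ (hMQ hm)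
          · rw [hMc, Q0.card_eq_multiplicity, (g • Q0).card_eq_multiplicity]
        · refine Finset.sum_le_sum fun Q hQ => Finset.card_le_card fun x hx => ?_
          obtain ⟨-, hMQ', hMc'⟩ := Finset.mem_filter.mp hQ
          obtain ⟨hxM, hxN⟩ := Finset.mem_filter.mp hx
          obtain ⟨hxC, hxc⟩ := mem_pp.mp hxM
          refine mem_pp.mpr ⟨fun y hy => (fix_of_index Q.2
            (fun a ha b hb => congrArg Subtype.val ((hab Q).is_comm.comm ⟨a, ha⟩ ⟨b, hb⟩)) hMQ' hMc' hxc
            (coprime_pred hmin x) (fun y hy => (Subgroup.mem_normalizer_iff.mp hxN y).mp hy)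
            (fun m hm => (hxC m hm).symm) y hy).symm, hxc⟩
    _ = ∑ Q : Sylow p G, ∑ M ∈ hy.filter fun M : Subgroup G =>
          M ≤ (Q : Subgroup G) ∧ Nat.card M * p = Nat.card Q,
          (pp p (Subgroup.centralizer ((Q : Subgroup G) : Set G))).card := by
        simp only [Finset.sum_filter]
        rw [Finset.sum_comm]
    _ ≤ _ := by
        refine Finset.sum_le_sum fun Q _ => ?_
        rw [Finset.sum_const, smul_eq_mul]
        obtain ⟨c, hc⟩ := hnt Q
        have hQne : (Q : Subgroup G) ≠ ⊥ := fun h => by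
          have h1 : Nat.card Q = 1 := Subgroup.card_eq_one.mpr h
          rw [h1] at hc
          have := Nat.le_of_dvd one_pos (Dvd.intro c hc.symm)
          have := hp.out.two_le
          nlinarith
        obtain ⟨s, hs, hs1⟩ := exists_ne_one_of_ne_bot _ hQne
        obtain ⟨j, hj⟩ := Q.2 ⟨s, hs⟩
        have hj' : s ^ p ^ j = 1 := congrArg Subtype.val hj
        obtain ⟨i, -, hi⟩ := (Nat.dvd_prime_pow hp.out).mp (orderOf_dvd_of_pow_eq_one hj')
        have hC := Transfer.hasNormalPComplement_of_le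
          (Subgroup.centralizer_le (Set.singleton_subset_iff.mpr hs)) (hpc s hs1 ⟨i, hi⟩)
        rw [← (pp_spec hC).2 Q (hQself Q), mul_comm _ (Nat.card Q)]
        exact Nat.mul_le_mul_right _ (card_index_subgroups_le Q (hab Q) _ fun M hM => (Finset.mem_filter.mp hM).2)

open scoped Classical in
/-- The elements with nontrivial `p`-part, counted with multiplicity `|P|`. -/
theorem card_singular (hab : ∀ P : Sylow p G, IsMulCommutative P)
    (hpc : ∀ s : G, s ≠ 1 → (∃ k, orderOf s = p ^ k) →
      Cfsg.HasNormalPComplement p (Subgroup.centralizer ({s} : Set G)))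
    {q : ℕ} (hq : ∀ Q : Sylow p G, Nat.card Q = q) (U : Finset G)
    (hU : ∀ u ∈ U, u ≠ 1 ∧ ∃ k, orderOf u = p ^ k) :
    q * (U.biUnion fun u => (pp p (Subgroup.centralizer ({u} : Set G))).image (u * ·)).card ≤
      ∑ Q : Sylow p G, ∑ x ∈ Finset.univ.filter (fun x => x ∈ Subgroup.normalizer ((Q : Subgroup G) : Set G)),
        (Finset.univ.filter fun u => u ∈ (Q : Subgroup G) ∧ u ≠ 1 ∧ x * u = u * x).card := by
  refine (Nat.mul_le_mul_left q Finset.card_biUnion_le).trans ?_
  rw [Finset.mul_sum]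
  calc ∑ u ∈ U, q * ((pp p (Subgroup.centralizer ({u} : Set G))).image (u * ·)).card
      ≤ ∑ u ∈ U, ∑ Q ∈ (Finset.univ : Finset (Sylow p G)).filter fun Q : Sylow p G => u ∈ (Q : Subgroup G),
          (Finset.univ.filter fun x =>
            x ∈ Subgroup.normalizer ((Q : Subgroup G) : Set G) ∧ x * u = u * x).card := by
        refine Finset.sum_le_sum fun u hu => ?_
        obtain ⟨hu1, k, hk⟩ := hU u hu
        obtain ⟨Q0, hQ0⟩ := (IsPGroup.of_card (p := p) (G := Subgroup.zpowers u) (n := k)
          (by rw [Nat.card_zpowers, hk])).exists_le_sylow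
        have huQ : u ∈ (Q0 : Subgroup G) := hQ0 (Subgroup.mem_zpowers u)
        have hQC : (Q0 : Subgroup G) ≤ Subgroup.centralizer ({u} : Set G) := fun x hx =>
          Subgroup.mem_centralizer_singleton_iff.mpr
            (congrArg Subtype.val ((hab Q0).is_comm.comm ⟨x, hx⟩ ⟨u, huQ⟩))
        refine (Nat.mul_le_mul_left q Finset.card_image_le).trans ?_
        rw [mul_comm, ← hq Q0, (pp_spec (hpc u hu1 ⟨k, hk⟩)).2 Q0 hQC, Nat.card_eq_fintype_card,
          Fintype.card_subtype]
        refine (fibre_bound _ (fun a ha b hb => ?_) Q0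
          (Finset.univ.filter fun Q : Sylow p G => u ∈ (Q : Subgroup G)) fun g hg => ?_).trans ?_
        · simp only [Finset.mem_filter, Finset.mem_univ, true_and] at ha hb ⊢
          exact mul_mem ha (inv_mem hb)
        · simp only [Finset.mem_filter, Finset.mem_univ, true_and] at hg ⊢
          have hgu : g * u * g⁻¹ = u := by
            rw [Subgroup.mem_centralizer_singleton_iff.mp hg, mul_inv_cancel_right]
          rw [← hgu, Sylow.coe_subgroup_smul]
          exact Subgroup.smul_mem_pointwise_smul u (MulAut.conj g) _ huQ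
        · refine Finset.sum_le_sum fun Q _ => Finset.card_le_card fun x hx => ?_
          simp only [Finset.mem_filter, Finset.mem_univ, true_and] at hx ⊢
          exact ⟨hx.2, Subgroup.mem_centralizer_singleton_iff.mp hx.1⟩
    _ ≤ _ := by
        simp only [Finset.sum_filter, Finset.card_filter]
        rw [Finset.sum_comm]
        refine Finset.sum_le_sum fun Q _ => ?_
        rw [← Finset.sum_filter]
        conv_lhs => rw [Finset.sum_comm]
        refine Finset.sum_le_sum fun x _ => ?_
        rw [Finset.sum_filter]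
        split_ifs with hx
        · refine Finset.sum_le_sum_of_subset_of_nonneg (Finset.subset_univ U) (fun _ _ _ => Nat.zero_le _) |>.trans'
            (Finset.sum_le_sum fun u hu => ?_)
          have := (hU u hu).1
          split_ifs <;> simp_all
        · refine le_of_eq (Finset.sum_eq_zero fun u _ => ?_)
          split_ifs <;> simp_all

open scoped Classical in
/-- The counting contradiction. -/
theorem count_contra (hmin : ∀ r : ℕ, r.Prime → r ∣ Nat.card G → p ≤ r)
    (hab : ∀ P : Sylow p G, IsMulCommutative P) (h : Hyp p G)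
    (hpc : ∀ s : G, s ≠ 1 → (∃ k, orderOf s = p ^ k) →
      Cfsg.HasNormalPComplement p (Subgroup.centralizer ({s} : Set G)))
    (hN : ∀ Q : Sylow p G, ¬ Subgroup.normalizer ((Q : Subgroup G) : Set G) ≤
      Subgroup.centralizer ((Q : Subgroup G) : Set G)) : False := by
  obtain ⟨P⟩ : Nonempty (Sylow p G) := inferInstance
  set q := Nat.card P with hqdef
  have hq : ∀ Q : Sylow p G, Nat.card Q = q := fun Q => by
    rw [hqdef, Q.card_eq_multiplicity, P.card_eq_multiplicity]
  have habQ : ∀ (Q : Sylow p G) {a b : G}, a ∈ (Q : Subgroup G) → b ∈ (Q : Subgroup G) → a * b = b * a :=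
    fun Q a b ha hb => congrArg Subtype.val ((hab Q).is_comm.comm ⟨a, ha⟩ ⟨b, hb⟩)
  have hCN : ∀ Q : Sylow p G, (Q : Subgroup G) ≤ Subgroup.centralizer ((Q : Subgroup G) : Set G) :=
    fun Q x hx y hy => habQ Q hy hx
  -- the automiser has order at least three
  have h3 : ∀ Q : Sylow p G, 3 * Nat.card (Subgroup.centralizer ((Q : Subgroup G) : Set G)) ≤
      Nat.card (Subgroup.normalizer ((Q : Subgroup G) : Set G)) := by
    intro Q
    set C := Subgroup.centralizer ((Q : Subgroup G) : Set G)
    set N := Subgroup.normalizer ((Q : Subgroup G) : Set G)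
    have hle : C ≤ N := Subgroup.centralizer_le_normalizer _
    have h1 : C.relIndex N * Nat.card C = Nat.card N := by
      rw [← Nat.card_congr (Subgroup.subgroupOfEquivOfLe hle).toEquiv]
      exact (C.subgroupOf N).index_mul_card
    have h2 : C.relIndex N ≠ 1 := fun e => hN Q (Subgroup.relIndex_eq_one.mp e)
    obtain ⟨r, hr, hrd⟩ := Nat.exists_prime_and_dvd h2
    have hpd : ¬ p ∣ C.relIndex N := fun hd => Q.not_dvd_index
      (hd.trans ((Subgroup.relIndex_dvd_of_le_left N (hCN Q)).trans
        (Subgroup.relIndex_dvd_index_of_le Subgroup.le_normalizer)))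
    have hr3 : 3 ≤ r := by
      have := hmin r hr (hrd.trans ((Dvd.intro _ h1).trans (Subgroup.card_subgroup_dvd_card N)))
      have : r ≠ p := fun e => hpd (e ▸ hrd)
      have := hp.out.two_le
      omega
    have hpos : 0 < C.relIndex N := Nat.pos_of_ne_zero fun e => by
      rw [e, zero_mul] at h1; exact Nat.card_pos.ne h1
    calc 3 * Nat.card C ≤ C.relIndex N * Nat.card C :=
          Nat.mul_le_mul_right _ (hr3.trans (Nat.le_of_dvd hpos hrd))
      _ = Nat.card N := h1
  -- Sylow subgroups are not of prime order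
  have hq2 : p ^ 2 ∣ q := by
    obtain ⟨k, hk⟩ := IsPGroup.iff_card.mp P.2
    rw [hqdef, hk]
    refine pow_dvd_pow p ?_
    by_contra hk2
    apply hN P
    intro x hx
    obtain ⟨a, b, ha, hb, hac, ⟨j, hj⟩, rfl⟩ := Transfer.exists_pPart_decomp (p := p) x
    refine mul_mem ?_ (hCN P (Transfer.mem_of_isPGroup_zpowers_of_mem_normalizer P hj (Subgroup.zpowers_le.mpr hx hb)))
    have hax := Subgroup.zpowers_le.mpr hx ha
    rcases (show k = 0 ∨ k = 1 by omega) with rfl | rfl
    · intro y hy
      have : (P : Subgroup G) = ⊥ := Subgroup.card_eq_one.mp (by rw [pow_zero] at hk; exact hk)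
      rw [SetLike.mem_coe, this, Subgroup.mem_bot] at hy
      simp [hy]
    · intro y hy
      exact (fix_of_index P.2 (fun a ha b hb => habQ P ha hb) (bot_le) (by rw [Subgroup.card_bot, one_mul, hk, pow_one])
        hac (coprime_pred hmin a) (fun y hy => (Subgroup.mem_normalizer_iff.mp hax y).mp hy)
        (fun m hm => by rw [Subgroup.mem_bot.mp hm, mul_one, one_mul]) y hy).symm
  haveI := Fintype.ofFinite (Subgroup G)
  set hy := (Finset.univ : Finset (Subgroup G)).filter fun M =>
    ∃ Q : Sylow p G, M ≤ (Q : Subgroup G) ∧ Nat.card M * p = Nat.card Q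
  set U := (Finset.univ : Finset G).filter fun u => u ≠ 1 ∧ ∃ k, orderOf u = p ^ k
  set A := hy.biUnion fun M => pp p (Subgroup.centralizer (M : Set G))
  set B := U.biUnion fun u => (pp p (Subgroup.centralizer ({u} : Set G))).image (u * ·)
  have hcover : (Finset.univ : Finset G) ⊆ A ∪ B := by
    intro g _
    obtain ⟨a, b, ha, hb, hac, ⟨j, hj⟩, hgab⟩ := Transfer.exists_pPart_decomp (p := p) g
    by_cases hb1 : b = 1
    · refine Finset.mem_union_left _ ?_
      rw [hb1, mul_one] at hgab
      subst hgab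
      set C := Subgroup.centralizer ({g} : Set G)
      obtain ⟨T⟩ : Nonempty (Sylow p C) := inferInstance
      obtain ⟨Q, hQ⟩ := (T.2.map C.subtype).exists_le_sylow
      obtain ⟨k, hk⟩ := IsPGroup.iff_card.mp Q.2
      have hk2 : 2 ≤ k := by
        by_contra hlt
        have h' := hq2
        rw [← hq Q, hk] at h'
        exact absurd ((Nat.pow_dvd_pow_iff_le_right hp.out.one_lt).mp h') hlt
      have hT : p ^ (k - 1) ∣ Nat.card T := by
        rw [T.card_eq_multiplicity]
        refine pow_dvd_pow p ?_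
        have : Nat.card Q ∣ p * Nat.card C := h Q g
        rw [hk, hp.out.pow_dvd_iff_le_factorization (mul_ne_zero hp.out.ne_zero Nat.card_pos.ne'),
          Nat.factorization_mul hp.out.ne_zero Nat.card_pos.ne', Finsupp.add_apply, hp.out.factorization_self] at this
        omega
      obtain ⟨M0, hM0⟩ := Sylow.exists_subgroup_card_pow_prime p hT
      set M := (M0.map (T : Subgroup C).subtype).map C.subtype
      have hMQ : M ≤ (Q : Subgroup G) := (Subgroup.map_mono (Subgroup.map_subtype_le M0)).trans hQ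
      refine Finset.mem_biUnion.mpr ⟨M, Finset.mem_filter.mpr ⟨Finset.mem_univ _, Q, hMQ, ?_⟩,
        mem_pp.mpr ⟨?_, hac⟩⟩
      · rw [Subgroup.card_map_of_injective C.subtype_injective,
          Subgroup.card_map_of_injective (T : Subgroup C).subtype_injective, hM0, hk, ← pow_succ]
        congr 1
        omega
      · intro m hm
        obtain ⟨c, -, rfl⟩ := hm
        exact Subgroup.mem_centralizer_singleton_iff.mp c.2
    · refine Finset.mem_union_right _ (Finset.mem_biUnion.mpr ⟨b, Finset.mem_filter.mpr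
        ⟨Finset.mem_univ _, hb1, j, hj⟩, Finset.mem_image.mpr ⟨a, mem_pp.mpr ⟨?_, hac⟩, ?_⟩⟩)
      · rw [Subgroup.mem_centralizer_singleton_iff]
        obtain ⟨i, rfl⟩ := Subgroup.mem_zpowers_iff.mp ha
        obtain ⟨i', rfl⟩ := Subgroup.mem_zpowers_iff.mp hb
        exact (Commute.zpow_zpow_self g i i').eq
      · obtain ⟨i, hi⟩ := Subgroup.mem_zpowers_iff.mp ha
        obtain ⟨i', hi'⟩ := Subgroup.mem_zpowers_iff.mp hb
        show b * a = g
        rw [← hi, ← hi', (Commute.zpow_zpow_self g i' i).eq, hi, hi', ← hgab]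
  have hA := card_over_index hmin hab hpc (fun Q => hq Q ▸ hq2) hy fun M hM => (Finset.mem_filter.mp hM).2
  have hB := card_singular hab hpc hq U fun u hu => (Finset.mem_filter.mp hu).2
  -- the pairs at one Sylow subgroup
  have hpairs : ∀ Q : Sylow p G,
      3 * (∑ x ∈ Finset.univ.filter (fun x => x ∈ Subgroup.normalizer ((Q : Subgroup G) : Set G)),
        (Finset.univ.filter fun u => u ∈ (Q : Subgroup G) ∧ u ≠ 1 ∧ x * u = u * x).card) +
      3 * Nat.card (Subgroup.normalizer ((Q : Subgroup G) : Set G)) ≤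
        2 * q * Nat.card (Subgroup.normalizer ((Q : Subgroup G) : Set G)) := by
    intro Q
    set C := Subgroup.centralizer ((Q : Subgroup G) : Set G)
    set N := Subgroup.normalizer ((Q : Subgroup G) : Set G)
    set Ns := Finset.univ.filter fun x => x ∈ N
    have hNs : Ns.card = Nat.card N := by rw [Nat.card_eq_fintype_card, Fintype.card_subtype]
    have hCs : (Ns.filter fun x => x ∈ C).card = Nat.card C := by
      rw [Nat.card_eq_fintype_card, Fintype.card_subtype, Finset.filter_filter]
      refine congrArg Finset.card (Finset.filter_congr fun x _ => ⟨fun h => h.2, fun h => ⟨Subgroup.centralizer_le_normalizer _ h, h⟩⟩)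
    have hx : ∀ x ∈ Ns, 2 * ((Finset.univ.filter fun u => u ∈ (Q : Subgroup G) ∧ u ≠ 1 ∧ x * u = u * x).card + 1)
        ≤ q + if x ∈ C then q else 0 := by
      intro x _
      set R := (Q : Subgroup G) ⊓ Subgroup.centralizer ({x} : Set G)
      have hR : (Finset.univ.filter fun u => u ∈ (Q : Subgroup G) ∧ u ≠ 1 ∧ x * u = u * x).card + 1 = Nat.card R := by
        rw [Nat.card_eq_fintype_card, Fintype.card_subtype]
        have e : (Finset.univ.filter fun u => u ∈ (Q : Subgroup G) ∧ u ≠ 1 ∧ x * u = u * x) =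
            (Finset.univ.filter fun u => u ∈ R).erase 1 := by
          ext u
          simp only [Finset.mem_filter, Finset.mem_univ, true_and, Finset.mem_erase, R, Subgroup.mem_inf,
            Subgroup.mem_centralizer_singleton_iff]
          exact ⟨fun ⟨h1, h2, h3⟩ => ⟨h2, h1, h3.symm⟩, fun ⟨h2, h1, h3⟩ => ⟨h1, h2, h3.symm⟩⟩
        rw [e, Finset.card_erase_add_one (by simp [one_mem])]
      rw [hR]
      split_ifs with hxC
      · have : Nat.card R ≤ Nat.card (Q : Subgroup G) := Nat.le_of_dvd Nat.card_pos (Subgroup.card_dvd_of_le inf_le_left)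
        rw [hq Q] at this; omega
      · have hlt : R ≠ (Q : Subgroup G) := fun e => hxC fun y hy =>
          Subgroup.mem_centralizer_singleton_iff.mp (e.ge hy).2
        obtain ⟨c, hc⟩ := Subgroup.card_dvd_of_le (inf_le_left : R ≤ (Q : Subgroup G))
        rw [hq Q] at hc
        rcases c with _ | _ | c
        · rw [mul_zero] at hc; rw [hc] at hq2
          exact absurd (hq P) (by rw [hc]; exact Nat.card_pos.ne')
        · exact absurd (Subgroup.eq_of_le_of_card_ge inf_le_left (by rw [hq Q, hc, zero_add, mul_one])) hlt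
        · rw [add_zero]
          calc 2 * Nat.card R ≤ Nat.card R * (c + 1 + 1) := by rw [mul_comm]; exact Nat.mul_le_mul_left _ (by omega)
            _ = q := hc.symm
    have hsum := Finset.sum_le_sum hx
    rw [← Finset.mul_sum, Finset.sum_add_distrib, Finset.sum_add_distrib, Finset.sum_const, Finset.sum_const,
      smul_eq_mul, smul_eq_mul, mul_one, ← Finset.sum_filter, Finset.sum_const, smul_eq_mul, hNs, hCs] at hsum
    have := Nat.mul_le_mul_right q (h3 Q)
    nlinarith
  have hG : ∑ Q : Sylow p G, Nat.card (Subgroup.normalizer ((Q : Subgroup G) : Set G)) =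
      Nat.card (Sylow p G) * Nat.card (Subgroup.normalizer ((P : Subgroup G) : Set G)) ∧
      Nat.card (Sylow p G) * Nat.card (Subgroup.normalizer ((P : Subgroup G) : Set G)) = Nat.card G := by
    have hmul : ∀ Q : Sylow p G,
        Nat.card (Sylow p G) * Nat.card (Subgroup.normalizer ((Q : Subgroup G) : Set G)) = Nat.card G := fun Q => by
      rw [Q.card_eq_index_normalizer, Q.coe_coe]
      exact Subgroup.index_mul_card _
    refine ⟨?_, hmul P⟩
    rw [Finset.sum_congr rfl fun Q _ => Nat.eq_of_mul_eq_mul_left Nat.card_pos ((hmul Q).trans (hmul P).symm),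
      Finset.sum_const, Finset.card_univ, smul_eq_mul, ← Nat.card_eq_fintype_card]
  have h1 := Finset.card_le_card hcover
  rw [Finset.card_univ, ← Nat.card_eq_fintype_card] at h1
  have h2 := h1.trans (Finset.card_union_le A B)
  have h4 := Finset.sum_le_sum fun (Q : Sylow p G) (_ : Q ∈ Finset.univ) => hpairs Q
  rw [Finset.sum_add_distrib, ← Finset.mul_sum, ← Finset.mul_sum, ← Finset.mul_sum, hG.1, hG.2] at h4
  have h5 := Finset.sum_le_sum fun (Q : Sylow p G) (_ : Q ∈ Finset.univ) => h3 Q
  rw [← Finset.mul_sum, hG.1, hG.2] at h5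
  have hGpos : 0 < Nat.card G := Nat.card_pos
  have hA' := Nat.mul_le_mul_left q hA
  have h6 := Nat.mul_le_mul_left q h2
  have h7 := Nat.mul_le_mul_left q h5
  nlinarith

end Counting

/-- In a perfect group an abelian Sylow subgroup meets the centre trivially. -/
theorem eq_one_of_central (hG : commutator G = ⊤) (P : Sylow p G) (hab : IsMulCommutative P) {z : G}
    (hz : z ∈ Subgroup.center G) (hzP : z ∈ (P : Subgroup G)) : z = 1 := by
  letI : CommGroup (P : Subgroup G) := { (inferInstance : Group (P : Subgroup G)) with mul_comm := hab.is_comm.comm }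
  let τ : G →* (P : Subgroup G) := MonoidHom.transfer (MonoidHom.id (P : Subgroup G))
  have hτ : τ z = 1 := Abelianization.commutator_subset_ker τ (hG ▸ Subgroup.mem_top z)
  have key : ∀ (k : ℕ) (g₀ : G), g₀⁻¹ * z ^ k * g₀ ∈ (P : Subgroup G) → g₀⁻¹ * z ^ k * g₀ = z ^ k := by
    intro k g₀ _
    rw [mul_assoc, ← Subgroup.mem_center_iff.mp (pow_mem hz k) g₀, inv_mul_cancel_left]
  rw [show τ z = _ from MonoidHom.transfer_eq_pow _ z key] at hτ
  have hpow : z ^ (P : Subgroup G).index = 1 := congrArg Subtype.val hτ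
  obtain ⟨j, hj⟩ := P.2 ⟨z, hzP⟩
  have hj' : z ^ p ^ j = 1 := congrArg Subtype.val hj
  have := pow_gcd_eq_one.mpr ⟨hj', hpow⟩
  rwa [Nat.Coprime.gcd_eq_one ((hp.out.coprime_iff_not_dvd.mpr P.not_dvd_index).pow_left j), pow_one] at this

theorem normalizer_le_centralizer_of_quotient (K : Subgroup G) [K.Normal]
    (hK : (Nat.card K).Coprime p) (P : Sylow p G) (hab : IsMulCommutative P)
    (hmin : ∀ r : ℕ, r.Prime → r ∣ Nat.card G → p ≤ r) (h : Hyp p G)
    (hn : ((P : Subgroup G).map (QuotientGroup.mk' K)).Normal) :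
    Subgroup.normalizer ((P : Subgroup G) : Set G) ≤ Subgroup.centralizer ((P : Subgroup G) : Set G) := by
  have habP : ∀ a ∈ (P : Subgroup G), ∀ b ∈ (P : Subgroup G), a * b = b * a := fun a ha b hb =>
    congrArg Subtype.val (hab.is_comm.comm ⟨a, ha⟩ ⟨b, hb⟩)
  intro g hg
  obtain ⟨x, b, hx, hb, hxc, ⟨j, hj⟩, rfl⟩ := Transfer.exists_pPart_decomp (p := p) g
  refine mul_mem ?_ (fun y hy => habP y hy b
    (Transfer.mem_of_isPGroup_zpowers_of_mem_normalizer P hj (Subgroup.zpowers_le.mpr hg hb)))
  have hxN := Subgroup.zpowers_le.mpr hg hx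
  set π := QuotientGroup.mk' K
  set R := (P : Subgroup G) ⊓ Subgroup.centralizer ({x} : Set G)
  obtain ⟨T⟩ : Nonempty (Sylow p (Subgroup.centralizer ({x} : Set G))) := inferInstance
  set T' := (T : Subgroup (Subgroup.centralizer ({x} : Set G))).map (Subgroup.centralizer ({x} : Set G)).subtype
  have hT'P : IsPGroup p T' := T.2.map _
  -- the image of the Sylow subgroup is unique
  let Pb : Sylow p (G ⧸ K) := P.mapSurjective (f := π) (QuotientGroup.mk'_surjective K)
  have hPb : (Pb : Subgroup (G ⧸ K)) = (P : Subgroup G).map π := rfl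
  haveI : (Pb : Subgroup (G ⧸ K)).Normal := hPb ▸ hn
  have himg : T'.map π ≤ (P : Subgroup G).map π := by
    obtain ⟨S, hS⟩ := (hT'P.map π).exists_le_sylow
    rw [← hPb]
    haveI := Sylow.unique_of_normal Pb inferInstance
    rwa [Subsingleton.elim Pb S]
  have hlift : ∀ t ∈ T', ∃ r ∈ R, π r = π t := by
    intro t ht
    obtain ⟨y, hy, hyt⟩ := himg ⟨t, ht, rfl⟩
    refine ⟨y, ⟨hy, Subgroup.mem_centralizer_singleton_iff.mpr ?_⟩, hyt⟩
    have hxy : x * y * x⁻¹ ∈ (P : Subgroup G) := (Subgroup.mem_normalizer_iff.mp hxN y).mp hy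
    obtain ⟨c, -, rfl⟩ := ht
    have hc : x * (c : G) * x⁻¹ = c := by
      rw [← Subgroup.mem_centralizer_singleton_iff.mp c.2, mul_inv_cancel_right]
    have hker : x * y * x⁻¹ * y⁻¹ ∈ K := by
      rw [← QuotientGroup.eq_one_iff]
      have hyt' : π y = π (c : G) := hyt
      show π (x * y * x⁻¹ * y⁻¹) = 1
      rw [map_mul, map_inv, map_mul, map_mul, map_inv, hyt', ← map_inv, ← map_mul, ← map_mul, hc]
      exact mul_inv_cancel _
    have := Transfer.eq_one_of_isPGroup_of_coprime P.2 (mul_mem hxy (inv_mem hy))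
      (Transfer.coprime_orderOf_of_mem hK hker)
    rw [mul_inv_eq_one, mul_inv_eq_iff_eq_mul] at this
    exact this.symm
  have hinj : ∀ a ∈ T', ∀ b ∈ T', π a = π b → a = b := by
    intro a ha b hb hab'
    have h1 : a⁻¹ * b ∈ K := QuotientGroup.eq.mp hab'
    have := Transfer.eq_one_of_isPGroup_of_coprime hT'P (mul_mem (inv_mem ha) hb)
      (Transfer.coprime_orderOf_of_mem hK h1)
    exact inv_mul_eq_one.mp this
  choose f hfR hf using hlift
  have hcardle : Nat.card T' ≤ Nat.card R := by
    refine Nat.card_le_card_of_injective (fun t : T' => (⟨f t.1 t.2, hfR t.1 t.2⟩ : R)) fun a b hab' => ?_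
    apply Subtype.ext
    refine hinj _ a.2 _ b.2 ?_
    rw [← hf a.1 a.2, ← hf b.1 b.2]
    exact congrArg π (congrArg Subtype.val hab')
  obtain ⟨i, hi⟩ := IsPGroup.iff_card.mp (P.2.to_le (inf_le_left : R ≤ _))
  obtain ⟨k, hk⟩ := IsPGroup.iff_card.mp P.2
  have hki : k ≤ i + 1 := by
    have h1 := h P x
    rw [hk, hp.out.pow_dvd_iff_le_factorization (mul_ne_zero hp.out.ne_zero Nat.card_pos.ne'),
      Nat.factorization_mul hp.out.ne_zero Nat.card_pos.ne', Finsupp.add_apply, hp.out.factorization_self] at h1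
    rw [Subgroup.card_map_of_injective (Subgroup.centralizer ({x} : Set G)).subtype_injective,
      T.card_eq_multiplicity, hi] at hcardle
    have := (Nat.pow_le_pow_iff_right hp.out.one_lt).mp hcardle
    omega
  rcases Nat.lt_or_ge i k with hlt | hge
  · intro y hy
    exact (fix_of_index P.2 habP inf_le_left (by
        rw [hi, hk, show k = i + 1 by omega, pow_succ]) hxc (coprime_pred hmin x)
      (fun y hy => (Subgroup.mem_normalizer_iff.mp hxN y).mp hy)
      (fun m hm => (Subgroup.mem_centralizer_singleton_iff.mp hm.2).symm) y hy).symm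
  · intro y hy
    have hRP : R = (P : Subgroup G) := Subgroup.eq_of_le_of_card_ge inf_le_left (by
      rw [hk, hi]; exact Nat.pow_le_pow_right hp.out.pos hge)
    exact (Subgroup.mem_centralizer_singleton_iff.mp (hRP.ge hy).2)

universe u

theorem abelian_aux : ∀ (n : ℕ) (G : Type u) [Group G] [Finite G], Nat.card G = n →
    (∀ P : Sylow p G, IsMulCommutative P) → (∀ r : ℕ, r.Prime → r ∣ Nat.card G → p ≤ r) →
    Hyp p G → Cfsg.HasNormalPComplement p G := by
  intro n
  induction n using Nat.strong_induction_on with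
  | _ n IH =>
    intro G _ _ hn hab hmin h
    by_contra hno
    have hN : ∀ Q : Sylow p G, ¬ Subgroup.normalizer ((Q : Subgroup G) : Set G) ≤
        Subgroup.centralizer ((Q : Subgroup G) : Set G) := fun Q hle =>
      hno (Transfer.hasNormalPComplement_of_normalizer_le_centralizer Q hle)
    have habH : ∀ (H : Subgroup G) (P : Sylow p H), IsMulCommutative P := by
      intro H P
      obtain ⟨Q, hQ⟩ := (P.2.map H.subtype).exists_le_sylow
      refine ⟨⟨fun a b => Subtype.ext (Subtype.ext ?_)⟩⟩
      exact congrArg (fun z : (Q : Subgroup G) => (z : G))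
        ((hab Q).is_comm.comm ⟨_, hQ ⟨a, a.2, rfl⟩⟩ ⟨_, hQ ⟨b, b.2, rfl⟩⟩)
    have hlt : ∀ H : Subgroup G, H ≠ ⊤ → Nat.card H < n := fun H hH => hn ▸ lt_of_le_of_ne
      (Subgroup.card_le_card_group H) fun e => hH (Subgroup.eq_top_of_card_eq H e)
    obtain ⟨P⟩ : Nonempty (Sylow p G) := inferInstance
    by_cases hperf : commutator G = ⊤
    · haveI := Fintype.ofFinite G
      refine count_contra hmin hab h (fun s hs ⟨k, hk⟩ => ?_) hN
      set C := Subgroup.centralizer ({s} : Set G)
      have hC : C ≠ ⊤ := fun e => by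
        obtain ⟨Q, hQ⟩ := (IsPGroup.of_card (p := p) (G := Subgroup.zpowers s) (n := k)
          (by rw [Nat.card_zpowers, hk])).exists_le_sylow
        refine hs (eq_one_of_central hperf Q (hab Q) (Subgroup.mem_center_iff.mpr fun g => ?_)
          (hQ (Subgroup.mem_zpowers s)))
        exact Subgroup.mem_centralizer_singleton_iff.mp (e.ge (Subgroup.mem_top g))
      refine IH _ (hlt C hC) C rfl (habH C) (hmin_subgroup hmin C) fun R g => ?_
      set D := Subgroup.centralizer ({(g : G)} : Set G)
      have hsD : s ∈ D := Subgroup.mem_centralizer_singleton_iff.mpr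
        (Subgroup.mem_centralizer_singleton_iff.mp g.2).symm
      obtain ⟨T, hT⟩ := (IsPGroup.of_card (p := p) (G := Subgroup.zpowers (⟨s, hsD⟩ : D)) (n := k)
        (by rw [Nat.card_zpowers, Subgroup.orderOf_mk, hk])).exists_le_sylow
      obtain ⟨Q, hQ⟩ := (T.2.map D.subtype).exists_le_sylow
      have hTC : (T : Subgroup D).map D.subtype ≤ C := fun t ht => Subgroup.mem_centralizer_singleton_iff.mpr
        (congrArg Subtype.val ((hab Q).is_comm.comm ⟨t, hQ ht⟩ ⟨s, hQ ⟨⟨s, hsD⟩, hT (Subgroup.mem_zpowers _), rfl⟩⟩))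
      obtain ⟨Q', hQ'⟩ := (R.2.map C.subtype).exists_le_sylow
      have h1 : Nat.card R ∣ Nat.card Q' := by
        rw [← Subgroup.card_map_of_injective C.subtype_injective]
        exact Subgroup.card_dvd_of_le hQ'
      refine h1.trans ?_
      -- pass to the Sylow subgroup of the centraliser
      have h2 : Nat.card Q' ∣ p * Nat.card T := by
        have h3 : Nat.card Q' ∣ p * Nat.card D := h Q' (g : G)
        rw [Q'.card_eq_multiplicity, hp.out.pow_dvd_iff_le_factorization (mul_ne_zero hp.out.ne_zero Nat.card_pos.ne'),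
          Nat.factorization_mul hp.out.ne_zero Nat.card_pos.ne', Finsupp.add_apply, hp.out.factorization_self] at h3
        rw [Q'.card_eq_multiplicity, T.card_eq_multiplicity, ← pow_succ']
        exact pow_dvd_pow p (by omega)
      refine h2.trans (mul_dvd_mul_left p ?_)
      set C' := Subgroup.centralizer ({g} : Set C)
      rw [← Subgroup.card_map_of_injective D.subtype_injective, ← Subgroup.card_map_of_injective (K := C') C.subtype_injective]
      refine Subgroup.card_dvd_of_le ?_
      intro t ht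
      have htC := hTC ht
      obtain ⟨t0, ht0, rfl⟩ := ht
      exact ⟨⟨_, htC⟩, Subgroup.mem_centralizer_singleton_iff.mpr
        (Subtype.ext (Subgroup.mem_centralizer_singleton_iff.mp t0.2)), rfl⟩
    · set L := commutator G
      have hL : Cfsg.HasNormalPComplement p L := by
        refine IH _ (hlt L hperf) L rfl (habH L) (hmin_subgroup hmin L) fun R g => ?_
        set D := Subgroup.centralizer ({(g : G)} : Set G)
        have hd : ((Subgroup.centralizer ({g} : Set L)).index) ∣ D.index := by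
          have e : Subgroup.centralizer ({g} : Set L) = D.subgroupOf L := by
            ext z
            rw [Subgroup.mem_subgroupOf, Subgroup.mem_centralizer_singleton_iff, Subgroup.mem_centralizer_singleton_iff]
            exact ⟨fun e => congrArg Subtype.val e, fun e => Subtype.ext e⟩
          rw [e]
          exact PGroups.relIndex_dvd_index_of_normal_right L D
        have h1 : D.index.factorization p ≤ 1 := by
          have h3 : Nat.card P ∣ p * Nat.card D := h P (g : G)
          rw [P.card_eq_multiplicity, hp.out.pow_dvd_iff_le_factorization (mul_ne_zero hp.out.ne_zero Nat.card_pos.ne'),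
            Nat.factorization_mul hp.out.ne_zero Nat.card_pos.ne', Finsupp.add_apply, hp.out.factorization_self,
            ← D.index_mul_card, Nat.factorization_mul Subgroup.index_ne_zero_of_finite Nat.card_pos.ne',
            Finsupp.add_apply] at h3
          omega
        have h2 := (Nat.factorization_le_iff_dvd Subgroup.index_ne_zero_of_finite Subgroup.index_ne_zero_of_finite).mpr hd p
        rw [R.card_eq_multiplicity, hp.out.pow_dvd_iff_le_factorization (mul_ne_zero hp.out.ne_zero Nat.card_pos.ne'),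
          Nat.factorization_mul hp.out.ne_zero Nat.card_pos.ne', Finsupp.add_apply, hp.out.factorization_self,
          ← (Subgroup.centralizer ({g} : Set L)).index_mul_card,
          Nat.factorization_mul Subgroup.index_ne_zero_of_finite Nat.card_pos.ne', Finsupp.add_apply]
        omega
      rw [Transfer.hasNormalPComplement_iff_coprime] at hL
      obtain ⟨k, hk⟩ := Transfer.exists_index_pResidual (G := L) (p := p)
      set K := (Cfsg.pResidual p L).map L.subtype with hKdef
      haveI hKn : K.Normal := by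
        refine ⟨fun x hx g => ?_⟩
        obtain ⟨y, hy, rfl⟩ := hx
        refine ⟨⟨g * y * g⁻¹, (inferInstance : L.Normal).conj_mem _ y.2 g⟩, ?_, rfl⟩
        have : orderOf (⟨g * (y : G) * g⁻¹, (inferInstance : L.Normal).conj_mem _ y.2 g⟩ : L) = orderOf y := by
          rw [Subgroup.orderOf_mk, ← MulAut.conj_apply, MulEquiv.orderOf_eq, Subgroup.orderOf_coe]
        exact Transfer.mem_pResidual_of_coprime (this ▸ Transfer.coprime_orderOf_of_mem hL hy)
      have hKc : (Nat.card K).Coprime p := by rwa [Subgroup.card_map_of_injective L.subtype_injective]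
      refine hN P (normalizer_le_centralizer_of_quotient K hKc P (hab P) hmin h ?_)
      -- the image contains the derived subgroup
      have hLP : L.map (QuotientGroup.mk' K) ≤ (P : Subgroup G).map (QuotientGroup.mk' K) := by
        have hpg : IsPGroup p (L.map (QuotientGroup.mk' K)) := by
          rintro ⟨z, l, hl, rfl⟩
          refine ⟨k, Subtype.ext ?_⟩
          show QuotientGroup.mk' K l ^ p ^ k = 1
          rw [← map_pow, QuotientGroup.mk'_apply, QuotientGroup.eq_one_iff, ← hk]
          exact ⟨(⟨l, hl⟩ : L) ^ (Cfsg.pResidual p L).index, Subgroup.pow_index_mem _ _, rfl⟩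
        let Pb : Sylow p (G ⧸ K) := P.mapSurjective (f := QuotientGroup.mk' K) (QuotientGroup.mk'_surjective K)
        haveI : (L.map (QuotientGroup.mk' K)).Normal :=
          (inferInstance : L.Normal).map _ (QuotientGroup.mk'_surjective K)
        obtain ⟨S, hS⟩ := hpg.exists_le_sylow
        obtain ⟨c, hc⟩ := MulAction.exists_smul_eq (G ⧸ K) S Pb
        show L.map (QuotientGroup.mk' K) ≤ (Pb : Subgroup (G ⧸ K))
        rw [← hc]
        intro z hz
        have h' : c⁻¹ * z * c⁻¹⁻¹ ∈ L.map (QuotientGroup.mk' K) := Subgroup.Normal.conj_mem inferInstance z hz c⁻¹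
        have := Subgroup.smul_mem_pointwise_smul _ (MulAut.conj c) _ (hS h')
        rw [Sylow.coe_subgroup_smul]
        convert this using 1
        simp [mul_assoc]
      refine ⟨fun a ha g => ?_⟩
      obtain ⟨g, rfl⟩ := QuotientGroup.mk'_surjective K g
      obtain ⟨a, haP, rfl⟩ := ha
      have hcomm : g * a * g⁻¹ * a⁻¹ ∈ L :=
        Subgroup.commutator_mem_commutator (Subgroup.mem_top g) (Subgroup.mem_top a)
      have h1 := hLP ⟨_, hcomm, rfl⟩
      have h2 := mul_mem h1 (⟨a, haP, rfl⟩ : QuotientGroup.mk' K a ∈ (P : Subgroup G).map (QuotientGroup.mk' K))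
      rw [← map_mul, inv_mul_cancel_right] at h2
      simpa only [map_mul, map_inv] using h2

/-- Class sizes not divisible by `p²`, `p` the smallest prime: normal `p`-complement. -/
theorem hasNormalPComplement (hmin : ∀ r : ℕ, r.Prime → r ∣ Nat.card G → p ≤ r)
    (h : ∀ g : G, ¬ p ^ 2 ∣ (Subgroup.centralizer ({g} : Set G)).index)
    (hjordan : ∀ H : Subgroup G, (∀ g : G, ∃ c : G, c⁻¹ * g * c ∈ H) → H = ⊤) :
    Cfsg.HasNormalPComplement p G := by
  classical
  obtain ⟨P⟩ : Nonempty (Sylow p G) := inferInstance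
  set Φ := (frattini (P : Subgroup G)).map (P : Subgroup G).subtype
  have hhyp := hyp_of_index h
  have hΦ : Φ ≤ Subgroup.center G := by
    have htop : Subgroup.centralizer (Φ : Set G) = ⊤ := by
      refine hjordan _ fun g => ?_
      set C := Subgroup.centralizer ({g} : Set G)
      obtain ⟨T⟩ : Nonempty (Sylow p C) := inferInstance
      obtain ⟨Q, hQ⟩ := (T.2.map C.subtype).exists_le_sylow
      obtain ⟨c, hc⟩ := MulAction.exists_smul_eq G Q P
      refine ⟨c⁻¹, ?_⟩
      rw [inv_inv]
      intro y hy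
      obtain ⟨z, hz, rfl⟩ := hy
      set T0 := ((T : Subgroup C).map C.subtype).map (MulAut.conj c).toMonoidHom
      have hT0P : T0 ≤ (P : Subgroup G) := by
        rintro _ ⟨w, hw, rfl⟩
        rw [← hc, Sylow.coe_subgroup_smul]
        exact Subgroup.smul_mem_pointwise_smul w (MulAut.conj c) _ (hQ hw)
      have hmem : (z : G) ∈ T0 := by
        by_contra hzn
        have hne : T0.subgroupOf (P : Subgroup G) ≠ ⊤ := fun e => hzn (e.ge (Subgroup.mem_top z))
        obtain ⟨M, hM, hle⟩ := (eq_top_or_exists_le_coatom (T0.subgroupOf (P : Subgroup G))).resolve_left hne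
        have hidx := (Transfer.index_eq_of_isCoatom P.2 hM).2
        have h1 : Nat.card T0 = Nat.card T := by
          rw [Subgroup.card_map_of_injective (MulEquiv.injective _), Subgroup.card_map_of_injective C.subtype_injective]
        have h2 := M.index_mul_card
        rw [hidx] at h2
        have h3 : Nat.card T0 ∣ Nat.card M := by
          rw [← Nat.card_congr (Subgroup.subgroupOfEquivOfLe hT0P).toEquiv]
          exact Subgroup.card_dvd_of_le hle
        have h4 : Nat.card M ∣ Nat.card T0 := by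
          have h5 := hhyp P g
          rw [← h2] at h5
          have h6 := Nat.dvd_of_mul_dvd_mul_left hp.out.pos h5
          obtain ⟨i, hi⟩ := IsPGroup.iff_card.mp (P.2.to_subgroup M)
          rw [hi, hp.out.pow_dvd_iff_le_factorization Nat.card_pos.ne'] at h6
          rw [h1, T.card_eq_multiplicity, hi]
          exact pow_dvd_pow p h6
        have hTM : T0.subgroupOf (P : Subgroup G) = M := Subgroup.eq_of_le_of_card_ge hle (by
          rw [Nat.card_congr (Subgroup.subgroupOfEquivOfLe hT0P).toEquiv]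
          exact Nat.le_of_dvd Nat.card_pos h4)
        exact hzn (hTM.ge (frattini_le_coatom hM hz))
      obtain ⟨w, ⟨w', -, rfl⟩, hwz⟩ := hmem
      show (z : G) * (c * g * c⁻¹) = c * g * c⁻¹ * z
      rw [← show c * (w' : G) * c⁻¹ = (z : G) from hwz]
      have hw : (w' : G) * g = g * w' := Subgroup.mem_centralizer_singleton_iff.mp w'.2
      calc c * (w' : G) * c⁻¹ * (c * g * c⁻¹) = c * ((w' : G) * g) * c⁻¹ := by group
        _ = c * (g * w') * c⁻¹ := by rw [hw]
        _ = _ := by group
    intro z hz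
    exact Subgroup.mem_center_iff.mpr fun g => (htop.ge (Subgroup.mem_top g) z hz).symm
  haveI hΦn : Φ.Normal := ⟨fun n hn g => by rwa [Subgroup.mem_center_iff.mp (hΦ hn) g, mul_inv_cancel_right]⟩
  set π := QuotientGroup.mk' Φ
  have hπ := QuotientGroup.mk'_surjective Φ
  have habq : ∀ R : Sylow p (G ⧸ Φ), IsMulCommutative R := by
    intro R
    let Pb : Sylow p (G ⧸ Φ) := P.mapSurjective (f := π) hπ
    have hcomm : ∀ a ∈ (P : Subgroup G), ∀ b ∈ (P : Subgroup G), π (a * b) = π (b * a) := by
      intro a ha b hb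
      refine QuotientGroup.eq.mpr ?_
      have hmem : (⟨a, ha⟩ * ⟨b, hb⟩ : (P : Subgroup G))⁻¹ * (⟨b, hb⟩ * ⟨a, ha⟩) ∈ frattini (P : Subgroup G) := by
        apply Transfer.mem_frattini_of_forall_hom P.2
        intro A _ hA δ
        haveI : IsCyclic A := isCyclic_of_prime_card hA.out
        letI := IsCyclic.commGroup (α := A)
        rw [map_mul, map_inv, map_mul, map_mul, mul_comm (δ ⟨b, hb⟩), inv_mul_cancel]
      exact ⟨_, hmem, rfl⟩
    refine ⟨⟨fun x y => Subtype.ext ?_⟩⟩
    obtain ⟨c, hc⟩ := MulAction.exists_smul_eq (G ⧸ Φ) R Pb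
    have hm : ∀ z : R, c * (z : G ⧸ Φ) * c⁻¹ ∈ (P : Subgroup G).map π := fun z => by
      show _ ∈ (Pb : Subgroup (G ⧸ Φ))
      rw [← hc, Sylow.coe_subgroup_smul]
      exact Subgroup.smul_mem_pointwise_smul (z : G ⧸ Φ) (MulAut.conj c) _ z.2
    obtain ⟨a, ha, hax⟩ := hm x
    obtain ⟨b, hb, hby⟩ := hm y
    have he : c * ((x : G ⧸ Φ) * y) * c⁻¹ = c * ((y : G ⧸ Φ) * x) * c⁻¹ := by
      calc c * ((x : G ⧸ Φ) * y) * c⁻¹ = c * x * c⁻¹ * (c * y * c⁻¹) := by group
        _ = c * y * c⁻¹ * (c * x * c⁻¹) := by rw [← hax, ← hby, ← map_mul, ← map_mul, hcomm a ha b hb]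
        _ = _ := by group
    exact mul_left_cancel (mul_right_cancel he)
  have hq : Cfsg.HasNormalPComplement p (G ⧸ Φ) := by
    refine abelian_aux _ (G ⧸ Φ) rfl habq (fun r hr hd => hmin r hr (hd.trans (Φ.card_quotient_dvd_card)))
      (hyp_of_index fun gb => ?_)
    obtain ⟨g, rfl⟩ := hπ gb
    intro hd
    apply h g
    refine hd.trans ((Subgroup.index_dvd_of_le ?_).trans
      (Subgroup.index_map_dvd (Subgroup.centralizer ({g} : Set G)) hπ))
    rintro _ ⟨z, hz, rfl⟩
    rw [Subgroup.mem_centralizer_singleton_iff, ← map_mul, ← map_mul, Subgroup.mem_centralizer_singleton_iff.mp hz]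
  -- the preimage of the complement has central Sylow subgroups
  rw [Transfer.hasNormalPComplement_iff_inf_eq_bot P, eq_bot_iff]
  rintro y ⟨hyP, hyK⟩
  set L := (Cfsg.pResidual p (G ⧸ Φ)).comap π with hLdef
  have hres : Cfsg.pResidual p G ≤ L := Subgroup.map_le_iff_le_comap.mp (Transfer.map_pResidual_le π)
  have hΦp : IsPGroup p Φ := IsPGroup.map (P.2.to_subgroup _) _
  have hLp : Cfsg.HasNormalPComplement p L := by
    obtain ⟨S⟩ : Nonempty (Sylow p L) := inferInstance
    refine Transfer.hasNormalPComplement_of_normalizer_le_centralizer S fun x _ z hz => Subtype.ext ?_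
    obtain ⟨j, hj⟩ := S.2 ⟨z, hz⟩
    have hzΦ : (z : G) ∈ Φ := by
      rw [← QuotientGroup.eq_one_iff]
      have hz' : π (z : G) ∈ Cfsg.pResidual p (G ⧸ Φ) := z.2
      have hc := Transfer.coprime_orderOf_of_mem (Transfer.hasNormalPComplement_iff_coprime.mp hq) hz'
      have h1 : π (z : G) ^ p ^ j = 1 := by
        rw [← map_pow, ← map_one π]
        exact congrArg π (congrArg Subtype.val (congrArg Subtype.val hj))
      have h2 := pow_gcd_eq_one.mpr ⟨pow_orderOf_eq_one (π (z : G)), h1⟩
      rwa [Nat.Coprime.gcd_eq_one (hc.pow_right j), pow_one] at h2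
    exact (Subgroup.mem_center_iff.mp (hΦ hzΦ) (x : G)).symm
  rw [Subgroup.mem_bot]
  have hc : Cfsg.pResidual p G ≤ (Cfsg.pResidual p L).map L.subtype := by
    rw [Cfsg.pResidual, Subgroup.closure_le]
    intro x hx
    exact ⟨⟨x, hres (Transfer.mem_pResidual_of_coprime hx)⟩,
      Transfer.mem_pResidual_of_coprime (by rw [Subgroup.orderOf_mk]; exact hx), rfl⟩
  obtain ⟨l, hl, rfl⟩ := hc hyK
  refine Transfer.eq_one_of_isPGroup_of_coprime P.2 hyP ?_
  show (orderOf (l : G)).Coprime p
  rw [Subgroup.orderOf_coe]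
  exact Transfer.coprime_orderOf_of_mem (Transfer.hasNormalPComplement_iff_coprime.mp hLp) hl

end Cfsg.Agent.Lib.Frobenius.ClassSizes
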