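import Cfsg.Agent.Lib.Characters.Burnside
import Cfsg.Agent.Lib.Coprime.Hall
import Cfsg.Agent.Lib.Cores.Basic
import Cfsg.Agent.Lib.Frobenius.Complement
import Cfsg.Agent.Lib.Frobenius.Structure
import Cfsg.Agent.Lib.SylowCounting.ConjClass
import Mathlib.GroupTheory.Transfer
import Mathlib.GroupTheory.Nilpotent
import Mathlib.Algebra.Group.ConjFinite
import Mathlib.Tactic

/-!
# Groups all of whose non-identity elements have prime order, transitively permuted
-/

set_option autoImplicit false

namespace Cfsg.Agent.Lib.Frobenius.FourOrbits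

open scoped Pointwise

section General

variable {G : Type*} [Group G] [Finite G]

/-- The number of elements of a given order. -/
noncomputable def orderCount (G : Type*) [Group G] (r : ℕ) : ℕ := Nat.card {x : G // orderOf x = r}

theorem isSolvable_of_two_primes {K : Type*} [Group K] [Finite K] {a b : ℕ} (ha : a.Prime) (hb : b.Prime)
    (h : ∀ q : ℕ, q.Prime → q ∣ Nat.card K → q = a ∨ q = b) : Group.IsSolvable K := by
  by_cases hab : a = b
  · subst hab
    haveI := Fact.mk ha
    have hpow := Nat.eq_prime_pow_of_unique_prime_dvd (p := a) Nat.card_pos.ne'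
      (fun {d} hd hdd => (h d hd hdd).elim id id) (n := Nat.card K)
    haveI := (IsPGroup.of_card hpow).isNilpotent
    infer_instance
  refine Cfsg.Agent.Lib.Characters.isSolvable_of_card_eq_pow_mul_pow ha hb
    (a := (Nat.card K).factorization a) (b := (Nat.card K).factorization b) ?_
  refine Nat.eq_of_factorization_eq Nat.card_pos.ne'
    (mul_ne_zero (pow_ne_zero _ ha.ne_zero) (pow_ne_zero _ hb.ne_zero)) fun r => ?_
  rw [Nat.factorization_mul (pow_ne_zero _ ha.ne_zero) (pow_ne_zero _ hb.ne_zero),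
    ha.factorization_pow, hb.factorization_pow, Finsupp.add_apply]
  by_cases hra : r = a
  · subst hra; rw [Finsupp.single_eq_same, Finsupp.single_eq_of_ne hab, add_zero]
  by_cases hrb : r = b
  · subst hrb; rw [Finsupp.single_eq_same, Finsupp.single_eq_of_ne hra, zero_add]
  rw [Finsupp.single_eq_of_ne hra, Finsupp.single_eq_of_ne hrb, add_zero]
  by_cases hr : r.Prime
  · exact Nat.factorization_eq_zero_of_not_dvd fun hd => (h r hr hd).elim hra hrb
  · exact Nat.factorization_eq_zero_of_not_prime _ hr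

theorem isSolvable_of_normal_of_quotient (N : Subgroup G) [N.Normal] (h1 : Group.IsSolvable N)
    (h2 : Group.IsSolvable (G ⧸ N)) : Group.IsSolvable G := by
  haveI := h1
  haveI := h2
  exact Group.isSolvable_of_ker_le_range N.subtype (QuotientGroup.mk' N)
    (by rw [QuotientGroup.ker_mk', Subgroup.range_subtype])

theorem pow_eq_one_of_orderOf_eq {x : G} {r : ℕ} (h : orderOf x = r) : x ^ r = 1 :=
  orderOf_dvd_iff_pow_eq_one.mp h.dvd

theorem ne_one_of_orderOf_prime {x : G} {r : ℕ} (hr : r.Prime) (hx : orderOf x = r) : x ≠ 1 := by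
  rintro rfl
  rw [orderOf_one] at hx
  exact hr.one_lt.ne hx

variable (hord : ∀ g : G, g ≠ 1 → (orderOf g).Prime)
include hord

theorem orderOf_of_mem_pGroup {r : ℕ} [Fact r.Prime] {H : Subgroup G} (hH : IsPGroup r H) {x : G}
    (hx : x ∈ H) (hx1 : x ≠ 1) : orderOf x = r := by
  obtain ⟨k, hk⟩ := IsPGroup.iff_orderOf.mp hH ⟨x, hx⟩
  rw [Subgroup.orderOf_mk] at hk
  exact (Nat.prime_dvd_prime_iff_eq (hord x hx1) Fact.out).mp ((hord x hx1).dvd_of_dvd_pow (n := k) (by rw [← hk]))

theorem isPGroup_centralizer {r : ℕ} [hr : Fact r.Prime] {x : G} (hx : orderOf x = r) :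
    IsPGroup r (Subgroup.centralizer ({x} : Set G)) := by
  rw [IsPGroup.iff_orderOf]
  rintro ⟨w, hw⟩
  rw [Subgroup.orderOf_mk]
  by_cases hw1 : w = 1
  · exact ⟨0, by rw [hw1, orderOf_one, pow_zero]⟩
  refine ⟨1, ?_⟩
  rw [pow_one]
  by_contra hne
  have hc : Commute w x := Subgroup.mem_centralizer_singleton_iff.mp hw
  have hp := hord w hw1
  have h1 := hc.orderOf_mul_eq_mul_orderOf_of_coprime (by rw [hx]; exact (Nat.coprime_primes hp hr.out).mpr hne)
  have hwx : w * x ≠ 1 := fun h0 => by
    rw [h0, orderOf_one, hx] at h1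
    have := hp.two_le
    have := hr.out.two_le
    nlinarith
  have h2 := hord _ hwx
  rw [h1, hx] at h2
  exact Nat.not_prime_mul hp.one_lt.ne' hr.out.one_lt.ne' h2

variable (horb : ∀ a b : G, orderOf a = orderOf b → ∃ φ : MulAut G, φ a = b)
include horb

theorem exists_sylow_eq_centralizer {r : ℕ} [hr : Fact r.Prime] {x : G} (hx : orderOf x = r) :
    ∃ Q : Sylow r G, Subgroup.centralizer ({x} : Set G) = (Q : Subgroup G) := by
  obtain ⟨P⟩ : Nonempty (Sylow r G) := inferInstance
  have hne : (P : Subgroup G) ≠ ⊥ := P.ne_bot_of_dvd_card (hx ▸ orderOf_dvd_natCard x)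
  haveI : Nontrivial (P : Subgroup G) := (Subgroup.nontrivial_iff_ne_bot _).mpr hne
  haveI := P.isPGroup'.center_nontrivial
  obtain ⟨⟨z, hz⟩, hz1⟩ := exists_ne (1 : Subgroup.center (P : Subgroup G))
  have hzo : orderOf (z : G) = r := orderOf_of_mem_pGroup hord P.isPGroup' z.2
    (fun h => hz1 (Subtype.ext (Subtype.ext h)))
  obtain ⟨φ, hφ⟩ := horb (z : G) x (hzo.trans hx.symm)
  let Q : Sylow r G := Sylow.ofCard ((P : Subgroup G).map (φ : G ≃* G).toMonoidHom) (by
    rw [← Nat.card_congr (Subgroup.equivMapOfInjective _ _ (φ : G ≃* G).injective).toEquiv, P.card_eq_multiplicity])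
  refine ⟨Q, Q.is_maximal' (isPGroup_centralizer hord hx) ?_⟩
  rintro _ ⟨w, hw, rfl⟩
  rw [Subgroup.mem_centralizer_singleton_iff, ← hφ]
  show φ w * φ z = φ z * φ w
  rw [← map_mul, ← map_mul]
  exact congrArg φ (congrArg Subtype.val (Subgroup.mem_center_iff.mp hz ⟨w, hw⟩))

theorem sylow_eq_centralizer_of_central {r : ℕ} [hr : Fact r.Prime] {Q : Sylow r G}
    {c : (Q : Subgroup G)} (hc : c ∈ Subgroup.center (Q : Subgroup G)) (hc1 : c ≠ 1) :
    Subgroup.centralizer ({(c : G)} : Set G) = (Q : Subgroup G) := by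
  refine Q.is_maximal' (isPGroup_centralizer hord
    (orderOf_of_mem_pGroup hord Q.isPGroup' c.2 (fun h => hc1 (Subtype.ext h)))) fun w hw => ?_
  exact Subgroup.mem_centralizer_singleton_iff.mpr
    (congrArg Subtype.val (Subgroup.mem_center_iff.mp hc ⟨w, hw⟩))

/-- The number of elements of order `r`. -/
theorem orderCount_mul {r : ℕ} [hr : Fact r.Prime] (P : Sylow r G) :
    orderCount G r * (Nat.card (P : Subgroup G) *
        (P : Subgroup G).relIndex (Subgroup.normalizer ((P : Subgroup G) : Set G))) =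
      Nat.card G * (Nat.card (Subgroup.center (P : Subgroup G)) - 1) := by
  classical
  haveI := Fintype.ofFinite (Sylow r G)
  let F : (Σ Q : Sylow r G, {c : Subgroup.center (Q : Subgroup G) // c ≠ 1}) → {x : G // orderOf x = r} :=
    fun s => ⟨((s.2.1 : (s.1 : Subgroup G)) : G), orderOf_of_mem_pGroup hord s.1.isPGroup' (s.2.1 : (s.1 : Subgroup G)).2
      (fun h => s.2.2 (Subtype.ext (Subtype.ext h)))⟩
  have hbij : Function.Bijective F := by
    constructor
    · rintro ⟨Q, c⟩ ⟨Q', c'⟩ h
      have hval : ((c.1 : (Q : Subgroup G)) : G) = ((c'.1 : (Q' : Subgroup G)) : G) := congrArg Subtype.val h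
      have h1 := sylow_eq_centralizer_of_central hord horb c.1.2 (fun h => c.2 (Subtype.ext h))
      have h2 := sylow_eq_centralizer_of_central hord horb c'.1.2 (fun h => c'.2 (Subtype.ext h))
      rw [hval] at h1
      obtain rfl : Q = Q' := Sylow.ext (h1.symm.trans h2)
      exact Sigma.ext rfl (heq_of_eq (Subtype.ext (Subtype.ext (Subtype.ext hval))))
    · rintro ⟨x, hx⟩
      obtain ⟨Q, hQ⟩ := exists_sylow_eq_centralizer hord horb hx
      have hxQ : x ∈ (Q : Subgroup G) := hQ ▸ Subgroup.mem_centralizer_singleton_iff.mpr rfl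
      have hxc : (⟨x, hxQ⟩ : (Q : Subgroup G)) ∈ Subgroup.center (Q : Subgroup G) :=
        Subgroup.mem_center_iff.mpr fun w => Subtype.ext
          (Subgroup.mem_centralizer_singleton_iff.mp (hQ.symm ▸ w.2))
      exact ⟨⟨Q, ⟨⟨⟨x, hxQ⟩, hxc⟩, fun h => ne_one_of_orderOf_prime hr.out hx
        (congrArg (fun c : Subgroup.center (Q : Subgroup G) => ((c : (Q : Subgroup G)) : G)) h)⟩⟩, rfl⟩
  have hz : ∀ Q : Sylow r G, Nat.card {c : Subgroup.center (Q : Subgroup G) // c ≠ 1} =
      Nat.card (Subgroup.center (P : Subgroup G)) - 1 := by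
    intro Q
    obtain ⟨g, rfl⟩ := MulAction.exists_smul_eq G P Q
    rw [← Nat.card_congr (Subgroup.centerCongr (Sylow.equivSMul P g)).symm.toEquiv]
    haveI := Fintype.ofFinite (Subgroup.center ((g • P : Sylow r G) : Subgroup G))
    rw [Nat.card_eq_fintype_card, Nat.card_eq_fintype_card, Fintype.card_subtype_compl,
      Fintype.card_subtype_eq]
  unfold orderCount
  rw [← Nat.card_eq_of_bijective F hbij, Nat.card_sigma, Finset.sum_congr rfl fun Q _ => hz Q,
    Finset.sum_const, smul_eq_mul, Finset.card_univ, ← Nat.card_eq_fintype_card, P.card_eq_index_normalizer]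
  have h1 := Subgroup.card_mul_index (Subgroup.normalizer ((P : Subgroup G) : Set G))
  have h2 : Nat.card ((P : Subgroup G).subgroupOf (Subgroup.normalizer ((P : Subgroup G) : Set G))) *
      (P : Subgroup G).relIndex (Subgroup.normalizer ((P : Subgroup G) : Set G)) =
      Nat.card (Subgroup.normalizer ((P : Subgroup G) : Set G)) := Subgroup.card_mul_index _
  rw [Nat.card_congr (Subgroup.subgroupOfEquivOfLe Subgroup.le_normalizer).toEquiv] at h2
  rw [h2]
  show (Subgroup.normalizer ((P : Subgroup G) : Set G)).index * _ * _ = _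
  rw [← h1]
  ring

theorem classSize_dvd_orderCount {r : ℕ} [hr : Fact r.Prime] (P : Sylow r G) :
    Nat.card G ∣ orderCount G r * Nat.card (P : Subgroup G) := by
  classical
  haveI := Fintype.ofFinite (ConjClasses G)
  let f : {x : G // orderOf x = r} → ConjClasses G := fun x => ConjClasses.mk x.1
  unfold orderCount
  rw [← Nat.card_congr (Equiv.sigmaFiberEquiv f), Nat.card_sigma, Finset.sum_mul]
  refine Finset.dvd_sum fun c _ => ?_
  rcases isEmpty_or_nonempty {x // f x = c} with h | ⟨⟨⟨x, hx⟩, hxc⟩⟩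
  · haveI := h
    simp
  · have e : Nat.card {y // f y = c} = Nat.card {g : G // IsConj x g} := by
      refine Nat.card_congr
        { toFun := fun y => ⟨y.1.1, ConjClasses.mk_eq_mk_iff_isConj.mp (hxc.trans y.2.symm)⟩
          invFun := fun g => ⟨⟨g.1, ?_⟩, ?_⟩
          left_inv := fun y => rfl
          right_inv := fun g => rfl }
      · obtain ⟨u, hu⟩ := isConj_iff.mp g.2
        rw [← hu, ← MulAut.conj_apply, MulEquiv.orderOf_eq, hx]
      · rw [← hxc]
        exact (ConjClasses.mk_eq_mk_iff_isConj.mpr g.2).symm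
    obtain ⟨Q, hQ⟩ := exists_sylow_eq_centralizer hord horb hx
    have h1 := Cfsg.Agent.Lib.SylowCounting.card_conjClass_mul_card_centralizer x
    rw [hQ, Q.card_eq_multiplicity, ← P.card_eq_multiplicity] at h1
    rw [e, h1]

variable {a b c : ℕ} (ha : a.Prime) (hb : b.Prime) (hc : c.Prime)
  (hthree : ∀ q : ℕ, q.Prime → q ∣ Nat.card G → q = a ∨ q = b ∨ q = c)
  (hns : ¬ Group.IsSolvable G)
include ha hb hc hthree hns

theorem relIndex_ne_one {r : ℕ} [hr : Fact r.Prime] (hrabc : r = a ∨ r = b ∨ r = c) (P : Sylow r G)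
    (hab : IsMulCommutative (P : Subgroup G)) :
    (P : Subgroup G).relIndex (Subgroup.normalizer ((P : Subgroup G) : Set G)) ≠ 1 := by
  intro h
  have hNP : Subgroup.normalizer ((P : Subgroup G) : Set G) ≤ Subgroup.centralizer ((P : Subgroup G) : Set G) := by
    intro g hg
    rw [Subgroup.mem_centralizer_iff]
    intro w hw
    exact congrArg Subtype.val (hab.is_comm.comm ⟨w, hw⟩ ⟨g, Subgroup.relIndex_eq_one.mp h hg⟩)
  have hc' := MonoidHom.ker_transferSylow_isComplement' P hNP
  set K := (MonoidHom.transferSylow P hNP).ker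
  have hKr : ¬ r ∣ Nat.card K := by
    rw [← hc'.index_eq_card]
    exact P.not_dvd_index
  apply hns
  refine isSolvable_of_normal_of_quotient K ?_ ?_
  · have hsub : ∀ q : ℕ, q.Prime → q ∣ Nat.card K → q ≠ r ∧ (q = a ∨ q = b ∨ q = c) := fun q hq hd =>
      ⟨fun h => hKr (h ▸ hd), hthree q hq (hd.trans (Subgroup.card_subgroup_dvd_card K))⟩
    rcases hrabc with rfl | rfl | rfl
    · exact isSolvable_of_two_primes hb hc fun q hq hd => (hsub q hq hd).2.resolve_left (hsub q hq hd).1
    · exact isSolvable_of_two_primes ha hc fun q hq hd => by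
        rcases (hsub q hq hd).2 with h | h | h
        exacts [Or.inl h, absurd h (hsub q hq hd).1, Or.inr h]
    · exact isSolvable_of_two_primes ha hb fun q hq hd => by
        rcases (hsub q hq hd).2 with h | h | h
        exacts [Or.inl h, Or.inr h, absurd h (hsub q hq hd).1]
  · have hcard : Nat.card (G ⧸ K) = r ^ (Nat.card G).factorization r := by
      rw [← Subgroup.index_eq_card, hc'.symm.index_eq_card, P.card_eq_multiplicity]
    haveI := (IsPGroup.of_card hcard).isNilpotent
    infer_instance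

/-- Bounds on the number of elements of odd prime order. -/
theorem orderCount_cases {r : ℕ} [hr : Fact r.Prime] (hr2 : r ≠ 2) (hrabc : r = a ∨ r = b ∨ r = c) (P : Sylow r G) :
    (IsMulCommutative (P : Subgroup G) ∧
      ∃ e, 2 ≤ e ∧ e ∣ Nat.card (P : Subgroup G) - 1 ∧ e ∣ Nat.card G ∧
        orderCount G r * e * Nat.card (P : Subgroup G) = Nat.card G * (Nat.card (P : Subgroup G) - 1)) ∨
    9 * orderCount G r ≤ Nat.card G := by
  have hmain := orderCount_mul hord horb P
  set R := Nat.card (P : Subgroup G) with hR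
  set e := (P : Subgroup G).relIndex (Subgroup.normalizer ((P : Subgroup G) : Set G)) with he
  have he0 : 0 < e := Nat.pos_of_ne_zero Subgroup.index_ne_zero_of_finite
  by_cases hab : IsMulCommutative (P : Subgroup G)
  · left
    have hz : Nat.card (Subgroup.center (P : Subgroup G)) = R := by
      rw [show Subgroup.center (P : Subgroup G) = ⊤ from eq_top_iff.mpr fun w _ =>
        Subgroup.mem_center_iff.mpr fun v => hab.is_comm.comm v w, Subgroup.card_top]
    rw [hz] at hmain
    refine ⟨hab, e, ?_, ?_, ?_, by rw [← hmain]; ring⟩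
    · have := relIndex_ne_one hord horb ha hb hc hthree hns hrabc P hab
      omega
    · obtain ⟨j, hj⟩ := classSize_dvd_orderCount hord horb P
      refine ⟨j, ?_⟩
      refine (Nat.eq_of_mul_eq_mul_left (Nat.card_pos (α := G)) ?_).symm
      rw [← hmain]
      calc Nat.card G * (e * j) = e * (Nat.card G * j) := by ring
        _ = e * (orderCount G r * R) := by rw [← hj]
        _ = _ := by ring
    · exact (Subgroup.relIndex_dvd_index_of_le Subgroup.le_normalizer).trans (Subgroup.index_dvd_card _)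
  · right
    set Z := Subgroup.center (P : Subgroup G)
    have hidx : r ^ 2 ≤ Z.index := by
      obtain ⟨m, -, hm⟩ := (Nat.dvd_prime_pow hr.out).mp
        ((Subgroup.index_dvd_card Z).trans P.card_eq_multiplicity.dvd)
      rw [hm]
      refine Nat.pow_le_pow_right hr.out.pos ?_
      by_contra hlt
      push Not at hlt
      apply hab
      haveI : IsCyclic ((P : Subgroup G) ⧸ Z) := by
        interval_cases m
        · haveI : Subsingleton ((P : Subgroup G) ⧸ Z) := by
            refine (Nat.card_eq_one_iff_unique.mp ?_).1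
            rw [← Subgroup.index_eq_card, hm, pow_zero]
          infer_instance
        · exact isCyclic_of_prime_card (p := r) (by rw [← Subgroup.index_eq_card, hm, pow_one])
      exact (QuotientGroup.mk' Z).isMulCommutative_of_isCyclic_of_ker_le_center (by rw [QuotientGroup.ker_mk'])
    have h3 : 9 ≤ r ^ 2 := by
      have := hr.out.two_le
      have : 3 ≤ r := by omega
      nlinarith
    have hcard := Subgroup.card_mul_index Z
    have hz0 : 0 < Nat.card Z := Nat.card_pos
    have hle : 9 * Nat.card Z ≤ R := by rw [hR, ← hcard]; nlinarith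
    refine Nat.le_of_mul_le_mul_right ?_ (Nat.card_pos : 0 < Nat.card (P : Subgroup G))
    calc 9 * orderCount G r * R ≤ 9 * (orderCount G r * (R * e)) := by
          rw [mul_assoc]; exact Nat.mul_le_mul_left _ (Nat.mul_le_mul_left _ (Nat.le_mul_of_pos_right _ he0))
      _ = 9 * (Nat.card G * (Nat.card Z - 1)) := by rw [hmain]
      _ ≤ Nat.card G * R := by
          have : Nat.card Z - 1 ≤ Nat.card Z := Nat.sub_le _ _
          nlinarith

/-- The group has even order. -/
theorem two_mem_primes (hab : a ≠ b) (hac : a ≠ c) (hbc : b ≠ c)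
    (hdv : a ∣ Nat.card G ∧ b ∣ Nat.card G ∧ c ∣ Nat.card G)
    (hsum : Nat.card G = 1 + orderCount G a + orderCount G b + orderCount G c) :
    a = 2 ∨ b = 2 ∨ c = 2 := by
  by_contra h
  push Not at h
  have hodd : ¬ 2 ∣ Nat.card G := fun hd => by
    rcases hthree 2 Nat.prime_two hd with h' | h' | h'
    exacts [h.1 h'.symm, h.2.1 h'.symm, h.2.2 h'.symm]
  have key : ∀ r : ℕ, r.Prime → r ≠ 2 → (r = a ∨ r = b ∨ r = c) → 3 * orderCount G r + 3 ≤ Nat.card G := by
    intro r hr hr2 hrabc
    haveI := Fact.mk hr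
    obtain ⟨P⟩ : Nonempty (Sylow r G) := inferInstance
    have hG9 : 9 ≤ Nat.card G := by
      have h1 : a * b ∣ Nat.card G := ((Nat.coprime_primes ha hb).mpr hab).mul_dvd_of_dvd_of_dvd hdv.1 hdv.2.1
      have := Nat.le_of_dvd Nat.card_pos h1
      have := ha.two_le
      have := hb.two_le
      have : 3 ≤ a := by omega
      have : 3 ≤ b := by omega
      nlinarith
    rcases orderCount_cases hord horb ha hb hc hthree hns hr2 hrabc P with ⟨-, e, he2, -, heG, heq⟩ | h9
    · have he3 : 3 ≤ e := by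
        by_contra
        obtain rfl : e = 2 := by omega
        exact hodd heG
      set R := Nat.card (P : Subgroup G)
      have hidx : 3 ≤ (P : Subgroup G).index := by
        have h0 := Subgroup.index_ne_zero_of_finite (H := (P : Subgroup G))
        have h2 : (P : Subgroup G).index ≠ 2 := fun h2 => hodd (h2 ▸ Subgroup.index_dvd_card _)
        have h1 : (P : Subgroup G).index ≠ 1 := by
          intro h1
          obtain ⟨q, hqd, hq, hqr⟩ : ∃ q, q ∣ Nat.card G ∧ q.Prime ∧ q ≠ r := by
            by_cases hra : r = a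
            · exact ⟨b, hdv.2.1, hb, hra.symm ▸ hab.symm⟩
            · exact ⟨a, hdv.1, ha, fun h => hra h.symm⟩
          rw [← Subgroup.card_mul_index (P : Subgroup G), h1, mul_one, P.card_eq_multiplicity] at hqd
          exact hqr ((Nat.prime_dvd_prime_iff_eq hq hr).mp (hq.dvd_of_dvd_pow hqd))
        omega
      have hcard := Subgroup.card_mul_index (P : Subgroup G)
      have hR0 : 0 < R := Nat.card_pos
      obtain ⟨R', hR'⟩ : ∃ R', R = R' + 1 := ⟨R - 1, by omega⟩
      rw [hR', Nat.add_sub_cancel] at heq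
      have h5 : orderCount G r * 3 * (R' + 1) ≤ Nat.card G * R' :=
        heq ▸ Nat.mul_le_mul_right _ (Nat.mul_le_mul_left _ he3)
      have h6 : 3 * (R' + 1) ≤ Nat.card G := by
        rw [← hcard, ← hR']
        calc 3 * R = R * 3 := mul_comm _ _
          _ ≤ _ := Nat.mul_le_mul_left _ hidx
      nlinarith
    · omega
  have h1 := key a ha h.1 (Or.inl rfl)
  have h2 := key b hb h.2.1 (Or.inr (Or.inl rfl))
  have h3 := key c hc h.2.2 (Or.inr (Or.inr rfl))
  omega

end General

section Even

variable {G : Type*} [Group G] [Finite G] (hord : ∀ g : G, g ≠ 1 → (orderOf g).Prime)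
  (horb : ∀ a b : G, orderOf a = orderOf b → ∃ φ : MulAut G, φ a = b)
  {b c : ℕ} (hb : b.Prime) (hc : c.Prime)
  (hthree : ∀ q : ℕ, q.Prime → q ∣ Nat.card G → q = 2 ∨ q = b ∨ q = c)
  (hns : ¬ Group.IsSolvable G)

include hord in
theorem two_group_comm (S : Sylow 2 G) : IsMulCommutative (S : Subgroup G) := by
  refine ⟨⟨fun x y => ?_⟩⟩
  have hsq : ∀ w : (S : Subgroup G), w * w = 1 := by
    intro w
    by_cases hw : w = 1
    · rw [hw, mul_one]
    · refine Subtype.ext ?_
      have h := pow_eq_one_of_orderOf_eq (orderOf_of_mem_pGroup hord S.isPGroup' w.2 (fun h => hw (Subtype.ext h)))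
      rwa [pow_two] at h
  have hinv : ∀ w : (S : Subgroup G), w⁻¹ = w := fun w => inv_eq_of_mul_eq_one_right (hsq w)
  calc x * y = (x * y)⁻¹ := (hinv _).symm
    _ = y * x := by rw [mul_inv_rev, hinv, hinv]

include hord horb in
theorem centralizer_involution (S : Sylow 2 G) {s : G} (hs : s ∈ (S : Subgroup G)) (hs1 : s ≠ 1) :
    Subgroup.centralizer ({s} : Set G) = (S : Subgroup G) := by
  refine sylow_eq_centralizer_of_central hord horb (c := ⟨s, hs⟩) ?_ (fun h => hs1 (congrArg Subtype.val h))
  exact Subgroup.mem_center_iff.mpr fun w => (two_group_comm hord S).is_comm.comm w _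

include hord horb hb hc hthree hns in
theorem isConj_involutions {s t : G} (hs : orderOf s = 2) (ht : orderOf t = 2) : IsConj s t := by
  have hsq : ∀ {w : G}, orderOf w = 2 → w * w = 1 := fun {w} hw => by
    rw [← pow_two]; exact pow_eq_one_of_orderOf_eq hw
  have hdich : ∀ t' : G, orderOf t' = 2 → ¬ IsConj s t' → s * t' = t' * s := by
    intro t' ht' hnc
    by_cases h1 : s * t' = 1
    · exfalso; apply hnc
      rw [show t' = s by
        rw [← inv_eq_of_mul_eq_one_right h1]
        exact inv_eq_of_mul_eq_one_right (hsq hs)]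
    have hp := hord _ h1
    by_cases h2 : orderOf (s * t') = 2
    · have h3 : (s * t') * (s * t') = 1 := hsq h2
      calc s * t' = (s * t')⁻¹ := (inv_eq_of_mul_eq_one_right h3).symm
        _ = t' * s := by rw [mul_inv_rev, inv_eq_of_mul_eq_one_right (hsq ht'), inv_eq_of_mul_eq_one_right (hsq hs)]
    · exfalso; apply hnc
      obtain ⟨k, hk⟩ := hp.odd_of_ne_two h2
      set u := s * t' with hu
      have hsus : s * u * s⁻¹ = u⁻¹ := by
        rw [hu, mul_inv_rev, inv_eq_of_mul_eq_one_right (hsq hs), inv_eq_of_mul_eq_one_right (hsq ht'),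
          ← mul_assoc, hsq hs, one_mul]
      refine isConj_iff.mpr ⟨(u ^ (k + 1))⁻¹, ?_⟩
      have h4 : s * u ^ (k + 1) * s⁻¹ = (u ^ (k + 1))⁻¹ := by rw [← conj_pow, hsus, inv_pow]
      have h5 : u ^ (k + 1) * u ^ (k + 1) = u := by
        rw [← pow_add, show k + 1 + (k + 1) = (2 * k + 1) + 1 by ring, pow_succ, ← hk, pow_orderOf_eq_one, one_mul]
      calc (u ^ (k + 1))⁻¹ * s * (u ^ (k + 1))⁻¹⁻¹ = s * u ^ (k + 1) * s⁻¹ * s * u ^ (k + 1) := by rw [inv_inv, ← h4]
        _ = s * (u ^ (k + 1) * u ^ (k + 1)) := by group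
        _ = t' := by rw [h5, hu, ← mul_assoc, hsq hs, one_mul]
  by_contra hnc
  haveI := Fact.mk Nat.prime_two
  obtain ⟨S, hS⟩ := exists_sylow_eq_centralizer hord horb hs
  set M := Subgroup.normalClosure ({t} : Set G) with hM
  have hMS : M ≤ (S : Subgroup G) := by
    rw [hM, Subgroup.normalClosure, Subgroup.closure_le]
    intro w hw
    obtain ⟨t', rfl, hw'⟩ := Group.mem_conjugatesOfSet_iff.mp hw
    have hwo : orderOf w = 2 := by
      obtain ⟨u, hu⟩ := isConj_iff.mp hw'
      rw [← hu, ← MulAut.conj_apply, MulEquiv.orderOf_eq, ht]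
    rw [SetLike.mem_coe, ← hS, Subgroup.mem_centralizer_singleton_iff]
    exact (hdich w hwo fun h => hnc (h.trans hw'.symm)).symm
  have ht1 : t ≠ 1 := ne_one_of_orderOf_prime Nat.prime_two ht
  have htS : t ∈ (S : Subgroup G) := hMS (Subgroup.subset_normalClosure rfl)
  haveI hSn : (S : Subgroup G).Normal := by
    refine ⟨fun w hw g => ?_⟩
    have hgt : g * t * g⁻¹ ∈ (S : Subgroup G) :=
      hMS (Subgroup.normalClosure_normal.conj_mem t (Subgroup.subset_normalClosure (Set.mem_singleton t)) g)
    rw [← centralizer_involution hord horb S hgt (by simpa using ht1), Subgroup.mem_centralizer_singleton_iff]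
    have h1 : w * t = t * w := by
      rw [← centralizer_involution hord horb S htS ht1] at hw
      exact Subgroup.mem_centralizer_singleton_iff.mp hw
    rw [conj_mul, h1, ← conj_mul]
  apply hns
  refine isSolvable_of_normal_of_quotient (S : Subgroup G) ?_ (isSolvable_of_two_primes hb hc fun q hq hd => ?_)
  · haveI := S.isPGroup'.isNilpotent
    infer_instance
  · rcases hthree q hq (hd.trans (Subgroup.card_quotient_dvd_card _)) with h | h | h
    · exfalso
      rw [← Subgroup.index_eq_card, h] at hd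
      exact S.not_dvd_index hd
    · exact Or.inl h
    · exact Or.inr h

include hord horb hb hc hthree hns in
/-- The data at the prime two. -/
theorem two_data (S : Sylow 2 G) (h2 : 2 ∣ Nat.card G) :
    orderCount G 2 * Nat.card (S : Subgroup G) = Nat.card G ∧
    (S : Subgroup G).relIndex (Subgroup.normalizer ((S : Subgroup G) : Set G)) =
      Nat.card (S : Subgroup G) - 1 ∧ 4 ≤ Nat.card (S : Subgroup G) := by
  haveI := Fact.mk Nat.prime_two
  have hne : (S : Subgroup G) ≠ ⊥ := S.ne_bot_of_dvd_card h2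
  obtain ⟨s, hs, hs1⟩ := (Subgroup.bot_or_exists_ne_one _).resolve_left hne
  have hso := orderOf_of_mem_pGroup hord S.isPGroup' hs hs1
  have h1 : orderCount G 2 * Nat.card (S : Subgroup G) = Nat.card G := by
    have h := Cfsg.Agent.Lib.SylowCounting.card_conjClass_mul_card_centralizer s
    rw [centralizer_involution hord horb S hs hs1] at h
    refine Eq.trans ?_ h
    congr 1
    refine Nat.card_congr (Equiv.subtypeEquivRight fun g => ⟨fun hg => isConj_involutions hord horb hb hc hthree hns hso hg, fun hg => ?_⟩)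
    obtain ⟨u, hu⟩ := isConj_iff.mp hg
    rw [← hu, ← MulAut.conj_apply, MulEquiv.orderOf_eq, hso]
  have hab := two_group_comm hord S
  have hmain := orderCount_mul hord horb S
  rw [show Subgroup.center (S : Subgroup G) = ⊤ from eq_top_iff.mpr fun w _ =>
    Subgroup.mem_center_iff.mpr fun v => hab.is_comm.comm v w, Subgroup.card_top, ← mul_assoc, h1] at hmain
  have he := Nat.eq_of_mul_eq_mul_left Nat.card_pos hmain
  refine ⟨h1, he, ?_⟩
  have h3 := relIndex_ne_one hord horb Nat.prime_two hb hc hthree hns (Or.inl rfl) S hab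
  rw [he] at h3
  obtain ⟨k, hk⟩ := IsPGroup.iff_card.mp S.isPGroup'
  rcases k with _ | _ | k
  · exact absurd (Subgroup.eq_bot_of_card_eq _ hk) hne
  · exact absurd (by rw [hk]; rfl) h3
  · rw [hk, pow_succ, pow_succ]
    have : 0 < 2 ^ k := by positivity
    omega

include hord horb hb hc hthree hns in
/-- In the doubly dihedral case `2^n - 1` is prime. -/
theorem card_sub_one_prime (S : Sylow 2 G) (h2 : 2 ∣ Nat.card G) (hb2 : b ≠ 2) (hc2 : c ≠ 2)
    (habel : ∀ r : ℕ, (r = b ∨ r = c) → ∀ R : Sylow r G, IsMulCommutative (R : Subgroup G) ∧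
      (R : Subgroup G).relIndex (Subgroup.normalizer ((R : Subgroup G) : Set G)) = 2) :
    Nat.card (S : Subgroup G) - 1 = b ∨ Nat.card (S : Subgroup G) - 1 = c := by
  haveI := Fact.mk Nat.prime_two
  obtain ⟨-, he, h4⟩ := two_data hord horb hb hc hthree hns S h2
  set A := Nat.card (S : Subgroup G) with hA
  set N := Subgroup.normalizer ((S : Subgroup G) : Set G) with hN
  haveI : ((S : Subgroup G).subgroupOf N).Normal := Subgroup.normal_in_normalizer
  set S' := (S : Subgroup G).subgroupOf N
  have hS'card : Nat.card S' = A := Nat.card_congr (Subgroup.subgroupOfEquivOfLe Subgroup.le_normalizer).toEquiv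
  have hEcard : Nat.card (N ⧸ S') = A - 1 := by rw [← Subgroup.index_eq_card]; exact he
  have hAodd : ¬ 2 ∣ A - 1 := by
    obtain ⟨k, hk⟩ := IsPGroup.iff_card.mp S.isPGroup'
    rcases k with _ | k
    · omega
    · have : 2 ∣ A := by rw [hA, hk, pow_succ]; exact dvd_mul_left 2 _
      omega
  have hprimes : ∀ q : ℕ, q.Prime → q ∣ A - 1 → q = b ∨ q = c := by
    intro q hq hd
    rcases hthree q hq ((hEcard ▸ hd : q ∣ Nat.card (N ⧸ S')).trans
      ((Subgroup.card_quotient_dvd_card _).trans (Subgroup.card_subgroup_dvd_card N))) with h | h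
    · exact absurd (h ▸ hd) hAodd
    · exact h
  haveI : Group.IsSolvable (N ⧸ S') := isSolvable_of_two_primes hb hc fun q hq hd => hprimes q hq (hEcard ▸ hd)
  haveI : Nontrivial (N ⧸ S') := Finite.one_lt_card_iff_nontrivial.mp (by rw [hEcard]; omega)
  obtain ⟨r, Mb, hr, hMbn, hMb0, -, hMbp, -⟩ := Cfsg.Agent.Lib.Coprime.exists_normal_isPGroup_isMulCommutative (N ⧸ S')
  haveI := Fact.mk hr
  obtain ⟨m, hm0, hm⟩ := Cfsg.Agent.Lib.Coprime.exists_card_eq_prime_pow hr hMbp hMb0
  have hrd : r ∣ A - 1 := hEcard ▸ (hm ▸ dvd_pow_self r hm0.ne').trans (Subgroup.card_subgroup_dvd_card Mb)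
  have hr2 : r ≠ 2 := fun h => hAodd (h ▸ hrd)
  have hrbc := hprimes r hr hrd
  set L := Mb.comap (QuotientGroup.mk' S') with hL
  haveI : L.Normal := hMbn.comap _
  obtain ⟨R0⟩ : Nonempty (Sylow r L) := inferInstance
  have hLcard : Nat.card L = A * r ^ m := by
    rw [hL, Cfsg.Agent.Lib.Cores.card_comap_mk', hm, hS'card]
  have hR0 : Nat.card (R0 : Subgroup L) = r ^ m := by
    rw [R0.card_eq_multiplicity, hLcard]
    obtain ⟨k, hk⟩ := IsPGroup.iff_card.mp S.isPGroup'
    rw [hA, hk, Nat.factorization_mul (pow_ne_zero _ two_ne_zero) (pow_ne_zero _ hr.ne_zero), Finsupp.add_apply,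
      Nat.prime_two.factorization_pow, hr.factorization_pow, Finsupp.single_eq_same,
      Finsupp.single_eq_of_ne hr2, zero_add]
  set M' := (R0 : Subgroup L).map L.subtype with hM'
  set M := M'.map N.subtype with hMdef
  have hMp : IsPGroup r M := (R0.isPGroup'.map _).map _
  have hM'card : Nat.card M' = r ^ m := by rw [hM', Subgroup.card_subtype, hR0]
  have hMne : M ≠ ⊥ := fun h => by
    have h1 : Nat.card M = r ^ m := by rw [hMdef, Subgroup.card_subtype, hM'card]
    rw [h, Subgroup.card_bot] at h1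
    exact (Nat.one_lt_pow hm0.ne' hr.one_lt).ne h1
  obtain ⟨R, hMR⟩ := hMp.exists_le_sylow
  obtain ⟨hRab, hRe⟩ := habel r hrbc R
  obtain ⟨x, hxM, hx1⟩ := (Subgroup.bot_or_exists_ne_one M).resolve_left hMne
  have hCR : ∀ y ∈ (R : Subgroup G), y ≠ 1 → Subgroup.centralizer ({y} : Set G) = (R : Subgroup G) := fun y hy hy1 =>
    sylow_eq_centralizer_of_central hord horb (c := ⟨y, hy⟩)
      (Subgroup.mem_center_iff.mpr fun w => hRab.is_comm.comm w _) (fun h => hy1 (congrArg Subtype.val h))
  have hNM : Subgroup.normalizer (M : Set G) ≤ Subgroup.normalizer ((R : Subgroup G) : Set G) := by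
    intro g hg
    refine Subgroup.mem_normalizer_fintype fun w hw => ?_
    have hgx : g * x * g⁻¹ ∈ M := (Subgroup.mem_normalizer_iff.mp hg x).mp hxM
    show g * w * g⁻¹ ∈ (R : Subgroup G)
    rw [← hCR _ (hMR hgx) (by simpa using hx1), Subgroup.mem_centralizer_singleton_iff]
    have h1 : w * x = x * w := congrArg Subtype.val (hRab.is_comm.comm ⟨w, hw⟩ ⟨x, hMR hxM⟩)
    rw [conj_mul, h1, ← conj_mul]
  -- Frattini argument
  let W := (Subgroup.normalizer (M : Set G)).subgroupOf N
  have hsur : Function.Surjective ((QuotientGroup.mk' S').comp W.subtype) := by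
    have hfr := Sylow.normalizer_sup_eq_top R0
    have hM'W : Subgroup.normalizer (M' : Set N) ≤ W := by
      intro n hn
      rw [Subgroup.mem_subgroupOf]
      refine Subgroup.mem_normalizer_fintype fun w hw => ?_
      obtain ⟨w, hw, rfl⟩ := hw
      exact ⟨n * w * n⁻¹, (Subgroup.mem_normalizer_iff.mp hn w).mp hw, rfl⟩
    have hMbeq : ∀ l ∈ L, ∃ u ∈ M', QuotientGroup.mk' S' u = QuotientGroup.mk' S' l := by
      have h1 : M'.map (QuotientGroup.mk' S') = Mb := by
        have hle : M'.map (QuotientGroup.mk' S') ≤ Mb := by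
          rw [Subgroup.map_le_iff_le_comap]
          exact Subgroup.map_subtype_le _
        refine Subgroup.eq_of_le_of_card_ge hle ?_
        rw [hm]
        have h2 := Cfsg.Agent.Lib.Cores.card_map_mul_card_inf_ker (QuotientGroup.mk' S') M'
        rw [hM'card, QuotientGroup.ker_mk'] at h2
        have h3 : Nat.card ↥(M' ⊓ S') = 1 := by
          refine Nat.eq_one_of_dvd_coprimes (((Nat.coprime_primes hr Nat.prime_two).mpr hr2).pow m ((Nat.card G).factorization 2))
            (hM'card ▸ Subgroup.card_dvd_of_le inf_le_left) ?_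
          rw [← S.card_eq_multiplicity, ← hA, ← hS'card]
          exact Subgroup.card_dvd_of_le inf_le_right
        rw [h3, mul_one] at h2
        exact h2.ge
      intro l hl
      obtain ⟨u, hu, hul⟩ := (h1.symm ▸ (Subgroup.mem_comap.mp hl) : QuotientGroup.mk' S' l ∈ M'.map (QuotientGroup.mk' S'))
      exact ⟨u, hu, hul⟩
    intro e
    obtain ⟨n, rfl⟩ := QuotientGroup.mk'_surjective S' e
    obtain ⟨v, hv, l, hl, rfl⟩ := Subgroup.mem_sup_of_normal_right.mp (hfr ▸ Subgroup.mem_top n)
    obtain ⟨u, hu, hul⟩ := hMbeq l hl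
    refine ⟨⟨v * u, mul_mem (hM'W hv) (hM'W (Subgroup.le_normalizer hu))⟩, ?_⟩
    show QuotientGroup.mk' S' (v * u) = _
    rw [map_mul, map_mul, hul]
  have hdvd : A - 1 ∣ 2 * Nat.card (R : Subgroup G) := by
    rw [← hEcard]
    refine (Subgroup.card_dvd_of_surjective _ hsur).trans ?_
    refine Dvd.dvd.trans ?_ ((Subgroup.card_dvd_of_le hNM).trans (dvd_of_eq ?_))
    · show Nat.card ((Subgroup.normalizer (M : Set G)).subgroupOf N) ∣ _
      rw [← Subgroup.inf_subgroupOf_right, Nat.card_congr (Subgroup.subgroupOfEquivOfLe (inf_le_right :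
        Subgroup.normalizer (M : Set G) ⊓ N ≤ N)).toEquiv]
      exact Subgroup.card_dvd_of_le inf_le_left
    · have h5 : Nat.card ((R : Subgroup G).subgroupOf (Subgroup.normalizer ((R : Subgroup G) : Set G))) *
          (R : Subgroup G).relIndex (Subgroup.normalizer ((R : Subgroup G) : Set G)) =
          Nat.card (Subgroup.normalizer ((R : Subgroup G) : Set G)) := Subgroup.card_mul_index _
      rw [Nat.card_congr (Subgroup.subgroupOfEquivOfLe Subgroup.le_normalizer).toEquiv, hRe] at h5
      rw [← h5, mul_comm]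
  have hdvd' : A - 1 ∣ Nat.card (R : Subgroup G) :=
    Nat.Coprime.dvd_of_dvd_mul_left (Nat.prime_two.coprime_iff_not_dvd.mpr hAodd).symm hdvd
  obtain ⟨j, -, hj⟩ := (Nat.dvd_prime_pow hr).mp (R.card_eq_multiplicity ▸ hdvd')
  -- a Sylow subgroup of `N` acts without fixed points on `S`
  obtain ⟨T⟩ : Nonempty (Sylow r N) := inferInstance
  have hTcard : Nat.card (T : Subgroup N) = r ^ j := by
    rw [T.card_eq_multiplicity, ← Subgroup.card_mul_index S', hS'card, Subgroup.index_eq_card, hEcard, hj]
    obtain ⟨k, hk⟩ := IsPGroup.iff_card.mp S.isPGroup'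
    rw [hA, hk, Nat.factorization_mul (pow_ne_zero _ two_ne_zero) (pow_ne_zero _ hr.ne_zero), Finsupp.add_apply,
      Nat.prime_two.factorization_pow, hr.factorization_pow, Finsupp.single_eq_same,
      Finsupp.single_eq_of_ne hr2, zero_add]
  let act : N →* MulAut S' := MulAut.conjNormal
  let φ : (T : Subgroup N) →* MulAut S' := act.comp (T : Subgroup N).subtype
  haveI : Nontrivial S' := Finite.one_lt_card_iff_nontrivial.mp (by rw [hS'card]; omega)
  have hTr : ∀ t : (T : Subgroup N), t ≠ 1 → orderOf t = r := by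
    intro t ht
    rw [← Subgroup.orderOf_coe, ← Subgroup.orderOf_coe]
    exact orderOf_of_mem_pGroup hord (H := (T : Subgroup N).map N.subtype) (T.isPGroup'.map _)
      (Subgroup.mem_map_of_mem _ t.2) (fun h => ht (Subtype.ext (Subtype.ext h)))
  have hfpf : ∀ t : (T : Subgroup N), t ≠ 1 → ∀ s : S', φ t s = s → s = 1 := by
    intro t ht s hs
    by_contra hs1
    have h1 : ((t : N) : G) * ((s : N) : G) * ((t : N) : G)⁻¹ = ((s : N) : G) :=
      congrArg (fun u : S' => ((u : N) : G)) hs
    have h2 : ((t : N) : G) ∈ (S : Subgroup G) := by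
      rw [← centralizer_involution hord horb S (s.2 : ((s : N) : G) ∈ (S : Subgroup G))
        (fun h => hs1 (Subtype.ext (Subtype.ext h))), Subgroup.mem_centralizer_singleton_iff]
      exact mul_inv_eq_iff_eq_mul.mp h1
    have h3 := orderOf_of_mem_pGroup hord S.isPGroup' h2 (fun h => ht (Subtype.ext (Subtype.ext h)))
    rw [Subgroup.orderOf_coe, Subgroup.orderOf_coe, hTr t ht] at h3
    exact hr2 h3
  have hTab : ∀ u v : (T : Subgroup N), u * v = v * u := by
    intro u v
    obtain ⟨R', hR'⟩ := ((T.isPGroup'.map N.subtype) : IsPGroup r ((T : Subgroup N).map N.subtype)).exists_le_sylow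
    refine Subtype.ext (Subtype.ext ?_)
    have h := congrArg Subtype.val ((habel r hrbc R').1.is_comm.comm
      ⟨_, hR' (Subgroup.mem_map_of_mem _ u.2)⟩ ⟨_, hR' (Subgroup.mem_map_of_mem _ v.2)⟩)
    exact h
  haveI := Cfsg.Agent.Lib.Frobenius.isCyclic_of_commutative φ hfpf ⊤ (fun u _ v _ => hTab u v)
  obtain ⟨⟨g, hgmem⟩, hg⟩ := IsCyclic.exists_generator (α := (⊤ : Subgroup (T : Subgroup N)))
  have hgcard : orderOf g = r ^ j := by
    rw [← hTcard, ← Subgroup.card_top (G := (T : Subgroup N)), ← orderOf_eq_card_of_forall_mem_zpowers hg]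
    exact (Subgroup.orderOf_mk g hgmem).symm
  have hj0 : j ≠ 0 := fun h0 => by rw [h0, pow_zero] at hj; omega
  have hgr : orderOf g = r := hTr g fun h => by
    rw [h, orderOf_one] at hgcard
    exact (Nat.one_lt_pow hj0 hr.one_lt).ne hgcard
  have hA1 : A - 1 = r := by rw [hj, ← hgcard, hgr]
  rcases hrbc with h | h
  · exact Or.inl (hA1.trans h)
  · exact Or.inr (hA1.trans h)

include hord in
theorem card_eq_mul (hb2 : b ≠ 2) (hc2 : c ≠ 2) (hbc : b ≠ c) [Fact b.Prime] [Fact c.Prime]
    (hthree : ∀ q : ℕ, q.Prime → q ∣ Nat.card G → q = 2 ∨ q = b ∨ q = c)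
    (S : Sylow 2 G) (P : Sylow b G) (Q : Sylow c G) :
    Nat.card G = Nat.card (S : Subgroup G) * Nat.card (P : Subgroup G) * Nat.card (Q : Subgroup G) := by
  have hbp : b.Prime := Fact.out
  have hcp : c.Prime := Fact.out
  haveI := Fact.mk Nat.prime_two
  rw [S.card_eq_multiplicity, P.card_eq_multiplicity, Q.card_eq_multiplicity]
  have h2 : (2 : ℕ) ^ (Nat.card G).factorization 2 ≠ 0 := pow_ne_zero _ two_ne_zero
  have hbn : b ^ (Nat.card G).factorization b ≠ 0 := pow_ne_zero _ hbp.ne_zero
  have hcn : c ^ (Nat.card G).factorization c ≠ 0 := pow_ne_zero _ hcp.ne_zero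
  refine Nat.eq_of_factorization_eq Nat.card_pos.ne' (mul_ne_zero (mul_ne_zero h2 hbn) hcn) fun r => ?_
  rw [Nat.factorization_mul (mul_ne_zero h2 hbn) hcn, Nat.factorization_mul h2 hbn, Finsupp.add_apply,
    Finsupp.add_apply, Nat.prime_two.factorization_pow, hbp.factorization_pow, hcp.factorization_pow]
  by_cases hr2 : r = 2
  · subst hr2; rw [Finsupp.single_eq_same, Finsupp.single_eq_of_ne hb2.symm, Finsupp.single_eq_of_ne hc2.symm]; simp
  by_cases hrb : r = b
  · subst hrb; rw [Finsupp.single_eq_same, Finsupp.single_eq_of_ne hr2, Finsupp.single_eq_of_ne hbc]; simp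
  by_cases hrc : r = c
  · subst hrc; rw [Finsupp.single_eq_same, Finsupp.single_eq_of_ne hr2, Finsupp.single_eq_of_ne hrb]; simp
  rw [Finsupp.single_eq_of_ne hr2, Finsupp.single_eq_of_ne hrb, Finsupp.single_eq_of_ne hrc]
  by_cases hr : r.Prime
  · rw [Nat.factorization_eq_zero_of_not_dvd fun hd => (hthree r hr hd).elim hr2 (fun h => h.elim hrb hrc)]
    simp
  · rw [Nat.factorization_eq_zero_of_not_prime _ hr]
    simp

end Even

end Cfsg.Agent.Lib.Frobenius.FourOrbits
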