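import Cfsg.Agent.Lib.Frobenius.FourOrbits

/-!
# The order `504` does not occur
-/

set_option autoImplicit false

namespace Cfsg.Agent.Lib.Frobenius.FourOrbits

open scoped Pointwise

section Order504

variable {G : Type*} [Group G] [Finite G] (hord : ∀ g : G, g ≠ 1 → (orderOf g).Prime)
  (horb : ∀ a b : G, orderOf a = orderOf b → ∃ φ : MulAut G, φ a = b)

include horb in
theorem orderCount_dvd_card_aut {r : ℕ} (h : 0 < orderCount G r) : orderCount G r ∣ Nat.card (MulAut G) := by
  obtain ⟨⟨x, hx⟩, -⟩ := Finite.card_pos_iff.mp h |> fun hne => (⟨hne.some, trivial⟩ : ∃ _ : {x : G // orderOf x = r}, True)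
  have h1 := MulAction.index_stabilizer (MulAut G) x
  have horbit : MulAction.orbit (MulAut G) x = {y | orderOf y = r} := by
    ext y
    constructor
    · rintro ⟨φ, rfl⟩
      exact (MulEquiv.orderOf_eq φ x).trans hx
    · intro hy
      obtain ⟨φ, hφ⟩ := horb x y (hx.trans hy.symm)
      exact ⟨φ, hφ⟩
  rw [horbit, ← Nat.card_coe_set_eq] at h1
  change _ = Nat.card {y : G // orderOf y = r} at h1
  show Nat.card {y : G // orderOf y = r} ∣ _
  rw [← h1]
  exact Subgroup.index_dvd_card _

include hord horb in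
/-- No group of order `504` occurs. -/
theorem false_of_card_504 (hG : Nat.card G = 504) (h7 : orderCount G 7 = 216) (h3 : orderCount G 3 = 224)
    (S : Sylow 2 G) (hS : Nat.card (S : Subgroup G) = 8)
    (hN : Nat.card (Subgroup.normalizer ((S : Subgroup G) : Set G)) = 56) : False := by
  classical
  haveI := Fact.mk Nat.prime_two
  haveI : Fact (Nat.Prime 7) := ⟨by norm_num⟩
  haveI : Finite (MulAut G) := Finite.of_injective (fun φ : MulAut G => ⇑φ) DFunLike.coe_injective
  have hNU : ∀ U : Sylow 2 G, Nat.card (Subgroup.normalizer ((U : Subgroup G) : Set G)) = 56 := by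
    intro U
    have h1 := Subgroup.card_mul_index (Subgroup.normalizer ((U : Subgroup G) : Set G))
    have h2 := Subgroup.card_mul_index (Subgroup.normalizer ((S : Subgroup G) : Set G))
    rw [hN] at h2
    have e1 := U.card_eq_index_normalizer
    have e2 := S.card_eq_index_normalizer
    rw [show (Subgroup.normalizer ((U : Subgroup G) : Set G)).index = Nat.card (Sylow 2 G) from e1.symm] at h1
    rw [show (Subgroup.normalizer ((S : Subgroup G) : Set G)).index = Nat.card (Sylow 2 G) from e2.symm] at h2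
    rw [hG] at h1 h2
    have h9 : Nat.card (Sylow 2 G) = 9 := by omega
    rw [h9] at h1
    omega
  have hU8 : ∀ U : Sylow 2 G, Nat.card (U : Subgroup G) = 8 := fun U =>
    (U.card_eq_multiplicity.trans S.card_eq_multiplicity.symm).trans hS
  have hX : Nat.card (Sylow 2 G) = 9 := by
    have h2 := Subgroup.card_mul_index (Subgroup.normalizer ((S : Subgroup G) : Set G))
    rw [hN, hG] at h2
    rw [S.card_eq_index_normalizer]
    show (Subgroup.normalizer ((S : Subgroup G) : Set G)).index = 9
    omega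
  have hord7 : ∀ (U : Sylow 2 G) (k : G), orderOf k = 7 → k ∉ (U : Subgroup G) := by
    intro U k hk hkU
    have h := orderOf_of_mem_pGroup hord U.isPGroup' hkU (ne_one_of_orderOf_prime (by norm_num) hk)
    omega
  have h48 : ∀ U : Sylow 2 G, Nat.card {k : G // k ∈ Subgroup.normalizer ((U : Subgroup G) : Set G) ∧ k ∉ (U : Subgroup G)} = 48 := by
    intro U
    rw [← Set.coe_setOf, Nat.card_coe_set_eq]
    rw [show {k : G | k ∈ Subgroup.normalizer ((U : Subgroup G) : Set G) ∧ k ∉ (U : Subgroup G)} =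
      (Subgroup.normalizer ((U : Subgroup G) : Set G) : Set G) \ ((U : Subgroup G) : Set G) from rfl,
      Set.ncard_sdiff (fun w hw => Subgroup.le_normalizer hw)]
    show Nat.card _ - Nat.card _ = 48
    rw [SetLike.coe_sort_coe, SetLike.coe_sort_coe, hNU, hU8]
  -- no non-trivial element normalizes all Sylow `2`-subgroups
  have hK : ∀ k : G, (∀ U : Sylow 2 G, k ∈ Subgroup.normalizer ((U : Subgroup G) : Set G)) → k = 1 := by
    intro k hk
    by_contra hk1
    have hd : orderOf k ∣ 56 := hN ▸ Subgroup.orderOf_dvd_natCard _ (hk S)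
    have hcases : orderOf k = 2 ∨ orderOf k = 7 := by
      have hp := hord k hk1
      have hd' : orderOf k ∣ 2 ^ 3 * 7 := hd
      rcases hp.dvd_mul.mp hd' with h | h
      · exact Or.inl ((Nat.prime_dvd_prime_iff_eq hp Nat.prime_two).mp (hp.dvd_of_dvd_pow h))
      · exact Or.inr ((Nat.prime_dvd_prime_iff_eq hp (by norm_num)).mp h)
    rcases hcases with h | h
    · have hall : ∀ U : Sylow 2 G, Subgroup.centralizer ({k} : Set G) = (U : Subgroup G) := fun U => by
        have hp : IsPGroup 2 (Subgroup.zpowers k) := IsPGroup.of_card (n := 1) (by rw [Nat.card_zpowers, h, pow_one])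
        have hkU := (Subgroup.mem_inf.mp (hp.inf_normalizer_sylow U ▸ Subgroup.mem_inf.mpr
          ⟨Subgroup.mem_zpowers k, hk U⟩)).2
        exact centralizer_involution hord horb U hkU hk1
      haveI : Subsingleton (Sylow 2 G) := ⟨fun U V => Sylow.ext ((hall U).symm.trans (hall V))⟩
      rw [Nat.card_of_subsingleton S] at hX
      omega
    · have hall : ∀ x : G, orderOf x = 7 → x ∈ Subgroup.normalizer ((S : Subgroup G) : Set G) ∧ x ∉ (S : Subgroup G) := by
        intro x hx
        refine ⟨?_, hord7 S x hx⟩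
        obtain ⟨φ, rfl⟩ := horb k x (h.trans hx.symm)
        have hU := hk (Sylow.ofCard ((S : Subgroup G).map (φ : G ≃* G).symm.toMonoidHom) (by
          rw [← Nat.card_congr (Subgroup.equivMapOfInjective _ _ (φ : G ≃* G).symm.injective).toEquiv, S.card_eq_multiplicity]))
        refine Subgroup.mem_normalizer_fintype fun w hw => ?_
        obtain ⟨v, hv, hv'⟩ := (Subgroup.mem_normalizer_iff.mp hU ((φ : G ≃* G).symm w)).mp ⟨w, hw, rfl⟩
        have : φ k * w * (φ k)⁻¹ = v := by
          have h2 := congrArg (φ : G ≃* G) hv'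
          simpa using h2.symm
        rw [this]
        exact hv
      have hle : orderCount G 7 ≤ 48 := by
        rw [← h48 S]
        exact Nat.card_le_card_of_injective (fun x => ⟨x.1, hall x.1 x.2⟩) (fun x y hxy =>
          Subtype.ext (congrArg (fun z : {k : G // k ∈ Subgroup.normalizer ((S : Subgroup G) : Set G) ∧ k ∉ (S : Subgroup G)} => z.1) hxy))
      omega
  -- an element of order seven and an involution
  obtain ⟨⟨g, hgN⟩, hg'⟩ := exists_prime_orderOf_dvd_card' (G := Subgroup.normalizer ((S : Subgroup G) : Set G)) 7 (by rw [hN]; norm_num)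
  have hg : orderOf g = 7 := by rwa [Subgroup.orderOf_mk] at hg'
  obtain ⟨s, hs, hs1⟩ := (Subgroup.bot_or_exists_ne_one (S : Subgroup G)).resolve_left (fun h => by
    rw [h, Subgroup.card_bot] at hS; omega)
  have hgS := hord7 S g hg
  let img : MulAut G → Sylow 2 G := fun φ => Sylow.ofCard ((S : Subgroup G).map (φ : G ≃* G).toMonoidHom) (by
    rw [← Nat.card_congr (Subgroup.equivMapOfInjective _ _ (φ : G ≃* G).injective).toEquiv, S.card_eq_multiplicity])
  have himgmem : ∀ (φ : MulAut G) (w : G), φ w ∈ (img φ : Subgroup G) ↔ w ∈ (S : Subgroup G) := fun φ w =>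
    ⟨fun ⟨v, hv, hv'⟩ => (φ : G ≃* G).injective hv' ▸ hv, fun hw => ⟨w, hw, rfl⟩⟩
  let Ψ : MulAut G → Σ U : Sylow 2 G,
      {k : G // k ∈ Subgroup.normalizer ((U : Subgroup G) : Set G) ∧ k ∉ (U : Subgroup G)} ×
      {t : G // t ∈ (U : Subgroup G) ∧ t ≠ 1} := fun φ => ⟨img φ,
    ⟨φ g, Subgroup.mem_normalizer_iff.mpr (fun w => by
      obtain ⟨w, rfl⟩ := (φ : G ≃* G).surjective w
      show φ w ∈ (img φ : Subgroup G) ↔ φ g * φ w * (φ g)⁻¹ ∈ (img φ : Subgroup G)
      rw [← map_inv, ← map_mul, ← map_mul, himgmem, himgmem]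
      exact Subgroup.mem_normalizer_iff.mp hgN w), fun h => hgS ((himgmem φ g).mp h)⟩,
    ⟨φ s, (himgmem φ s).mpr hs, fun h => hs1 ((φ : G ≃* G).injective (h.trans (map_one φ).symm))⟩⟩
  have hfix : ∀ γ : MulAut G, γ g = g → γ s = s → γ = 1 := by
    intro γ hγg hγs
    -- `γ` fixes `S` pointwise
    have hconjS : ∀ k : ℕ, g ^ k * s * (g ^ k)⁻¹ ∈ (S : Subgroup G) := fun k =>
      (Subgroup.mem_normalizer_iff.mp (pow_mem hgN k) s).mp hs
    let j : Fin 7 → {t : G // t ∈ (S : Subgroup G) ∧ t ≠ 1} := fun k =>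
      ⟨g ^ (k : ℕ) * s * (g ^ (k : ℕ))⁻¹, hconjS k, by simpa using hs1⟩
    have hjinj : ∀ k l : ℕ, k ≤ l → l < 7 → g ^ k * s * (g ^ k)⁻¹ = g ^ l * s * (g ^ l)⁻¹ → k = l := by
      intro k l hkl hl he
      obtain ⟨i, rfl⟩ := Nat.exists_eq_add_of_le hkl
      have h1 : g ^ i * s * (g ^ i)⁻¹ = s := by
        have h := congrArg (fun w => (g ^ k)⁻¹ * w * g ^ k) he
        simp only [pow_add, mul_inv_rev, mul_assoc, inv_mul_cancel_left, inv_mul_cancel, mul_one] at h
        simpa [mul_assoc] using h.symm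
      have h2 : g ^ i ∈ (S : Subgroup G) := by
        rw [← centralizer_involution hord horb S hs hs1, Subgroup.mem_centralizer_singleton_iff]
        exact mul_inv_eq_iff_eq_mul.mp h1
      by_contra hne
      have h3 : orderOf (g ^ i) = 7 := by
        rw [Nat.Coprime.orderOf_pow (by
          rw [hg]; exact (Nat.Prime.coprime_iff_not_dvd (by norm_num)).mpr
            (fun hd => by have := Nat.le_of_dvd (by omega) hd; omega)), hg]
      exact hord7 S _ h3 h2
    have hSfix : ∀ w ∈ (S : Subgroup G), γ w = w := by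
      intro w hw
      by_cases hw1 : w = 1
      · rw [hw1, map_one]
      have hb : Function.Bijective j := by
        haveI := Fintype.ofFinite {t : G // t ∈ (S : Subgroup G) ∧ t ≠ 1}
        rw [Fintype.bijective_iff_injective_and_card]
        refine ⟨fun k l h => Fin.ext ?_, ?_⟩
        · rcases Nat.le_total k l with hkl | hkl
          · exact hjinj _ _ hkl l.2 (congrArg Subtype.val h)
          · exact (hjinj _ _ hkl k.2 (congrArg Subtype.val h).symm).symm
        · rw [Fintype.card_fin, ← Nat.card_eq_fintype_card, ← Set.coe_setOf, Nat.card_coe_set_eq,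
            show {t : G | t ∈ (S : Subgroup G) ∧ t ≠ 1} = ((S : Subgroup G) : Set G) \ {1} from rfl,
            Set.ncard_sdiff_singleton_of_mem (one_mem (S : Subgroup G))]
          show 7 = Nat.card (S : Subgroup G) - 1
          rw [hS]
      obtain ⟨k, hk⟩ := hb.2 ⟨w, hw, hw1⟩
      have hk' : g ^ (k : ℕ) * s * (g ^ (k : ℕ))⁻¹ = w := congrArg Subtype.val hk
      rw [← hk', map_mul, map_mul, map_inv, map_pow, hγg, hγs]
    let π : Sylow 2 G → Sylow 2 G := fun U => Sylow.ofCard ((U : Subgroup G).map (γ : G ≃* G).toMonoidHom) (by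
      rw [← Nat.card_congr (Subgroup.equivMapOfInjective _ _ (γ : G ≃* G).injective).toEquiv, U.card_eq_multiplicity])
    have hπ : ∀ U (w : G), γ w ∈ (π U : Subgroup G) ↔ w ∈ (U : Subgroup G) := fun U w =>
      ⟨fun ⟨v, hv, hv'⟩ => (γ : G ≃* G).injective hv' ▸ hv, fun hw => ⟨w, hw, rfl⟩⟩
    have hπsmul : ∀ (h : G) U, π (h • U) = γ h • π U := by
      intro h U
      refine Sylow.ext (SetLike.ext fun w => ?_)
      obtain ⟨v, rfl⟩ := (γ : G ≃* G).surjective w
      show γ v ∈ (π (h • U) : Subgroup G) ↔ _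
      rw [hπ]
      refine (Cfsg.Agent.Lib.Frobenius.mem_conj_smul).trans ((hπ U _).symm.trans ?_)
      rw [map_mul, map_mul, map_inv]
      exact (Cfsg.Agent.Lib.Frobenius.mem_conj_smul).symm
    have hπS : π S = S := by
      refine Sylow.ext (SetLike.ext fun w => ?_)
      constructor
      · rintro ⟨v, hv, rfl⟩
        show γ v ∈ (S : Subgroup G)
        rw [hSfix v hv]
        exact hv
      · intro hw
        exact ⟨w, hw, hSfix w hw⟩
    -- fixed points of `g`
    have hpg : IsPGroup 7 (Subgroup.zpowers g) := IsPGroup.of_card (n := 1) (by rw [Nat.card_zpowers, hg, pow_one])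
    set F := MulAction.fixedPoints (Subgroup.zpowers g) (Sylow 2 G) with hFdef
    have hFmem : ∀ U : Sylow 2 G, U ∈ F ↔ g ∈ Subgroup.normalizer ((U : Subgroup G) : Set G) := by
      intro U
      refine ⟨fun h => Sylow.smul_eq_iff_mem_normalizer.mp (h ⟨g, Subgroup.mem_zpowers g⟩), fun h => ?_⟩
      rintro ⟨w, hw⟩
      exact Sylow.smul_eq_iff_mem_normalizer.mpr (Subgroup.zpowers_le.mpr h hw)
    have hmod := hpg.card_modEq_card_fixedPoints (Sylow 2 G)
    rw [hX] at hmod
    have hFle : Nat.card F ≤ 9 := hX ▸ Nat.card_le_card_of_injective Subtype.val Subtype.val_injective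
    have hF9 : Nat.card F ≠ 9 := by
      intro h9
      refine ne_one_of_orderOf_prime (by norm_num) hg (hK g fun U => (hFmem U).mp ?_)
      have : F = Set.univ := Set.eq_of_subset_of_ncard_le (Set.subset_univ _)
        (by rw [Set.ncard_univ, hX, ← Nat.card_coe_set_eq, h9]) (Set.toFinite _)
      rw [this]
      trivial
    have hF2 : F.ncard = 2 := by
      rw [← Nat.card_coe_set_eq]
      change 9 % 7 = Nat.card F % 7 at hmod
      omega
    have hSF : S ∈ F := (hFmem S).mpr hgN
    obtain ⟨A, B, hAB, hFAB⟩ := Set.ncard_eq_two.mp hF2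
    obtain ⟨U0, hU0F, hU0S⟩ : ∃ U0 ∈ F, U0 ≠ S := by
      rcases em (A = S) with h | h
      · exact ⟨B, by rw [hFAB]; exact Or.inr rfl, fun hB => hAB (h.trans hB.symm)⟩
      · exact ⟨A, by rw [hFAB]; exact Or.inl rfl, h⟩
    have huniq : ∀ U ∈ F, U ≠ S → U = U0 := by
      intro U hU hUS
      rw [hFAB] at hU hU0F hSF
      simp only [Set.mem_insert_iff, Set.mem_singleton_iff] at hU hU0F hSF
      rcases hSF with h | h <;> rcases hU with h' | h' <;> rcases hU0F with h'' | h'' <;> subst_vars <;>
        first | rfl | exact absurd rfl hUS | exact absurd rfl hU0S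
    have hπU0 : π U0 = U0 := by
      refine huniq _ ((hFmem _).mpr ?_) ?_
      · refine Sylow.smul_eq_iff_mem_normalizer.mp ?_
        conv_lhs => rw [← hγg, ← hπsmul, Sylow.smul_eq_iff_mem_normalizer.mpr ((hFmem U0).mp hU0F)]
      · intro h
        refine hU0S (Sylow.ext (SetLike.ext fun w => ?_))
        rw [← hπ U0 w, h]
        constructor
        · intro hw
          have hb := hSfix _ hw
          have := (γ : G ≃* G).injective (hb : γ (γ w) = γ w)
          rwa [this] at hw
        · intro hw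
          rwa [hSfix w hw]
    -- `S` is transitive on the others
    have hSstab : MulAction.stabilizer (S : Subgroup G) U0 = ⊥ := by
      rw [eq_bot_iff]
      rintro ⟨w, hw⟩ hwU
      refine Subgroup.mem_bot.mpr (Subtype.ext ?_)
      show w = 1
      by_contra hw1
      have hwN : w ∈ Subgroup.normalizer ((U0 : Subgroup G) : Set G) := Sylow.smul_eq_iff_mem_normalizer.mp hwU
      have hwU0 := (Subgroup.mem_inf.mp ((S.isPGroup'.to_le (Subgroup.zpowers_le.mpr hw)).inf_normalizer_sylow U0 ▸
        Subgroup.mem_inf.mpr ⟨Subgroup.mem_zpowers w, hwN⟩)).2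
      exact hU0S (Sylow.ext ((centralizer_involution hord horb U0 hwU0 hw1).symm.trans
        (centralizer_involution hord horb S hw hw1)))
    have horbit : MulAction.orbit (S : Subgroup G) U0 = {U | U ≠ S} := by
      refine Set.eq_of_subset_of_ncard_le ?_ ?_ (Set.toFinite _)
      · rintro U ⟨⟨w, hw⟩, rfl⟩ hUS
        refine hU0S ?_
        have h1 : w • U0 = S := hUS
        have h2 : w • S = S := Sylow.smul_eq_iff_mem_normalizer.mpr (Subgroup.le_normalizer hw)
        exact MulAction.injective w (h1.trans h2.symm)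
      · rw [← MulAction.index_stabilizer, hSstab, Subgroup.index_bot, hS,
          show {U : Sylow 2 G | U ≠ S} = Set.univ \ {S} by ext; simp,
          Set.ncard_sdiff_singleton_of_mem (Set.mem_univ S), Set.ncard_univ, hX]
    have hall : ∀ U : Sylow 2 G, π U = U := by
      intro U
      by_cases hUS : U = S
      · rw [hUS]; exact hπS
      · obtain ⟨⟨w, hw⟩, rfl⟩ : U ∈ MulAction.orbit (S : Subgroup G) U0 := by rw [horbit]; exact hUS
        show π (w • U0) = w • U0
        rw [hπsmul, hSfix w hw, hπU0]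
    refine DFunLike.ext _ _ fun h => ?_
    show γ h = h
    refine (inv_mul_eq_one.mp (hK (h⁻¹ * γ h) fun U => Sylow.smul_eq_iff_mem_normalizer.mp ?_)).symm
    have h1 : γ h • U = h • U := by
      conv_lhs => rw [← hall U, ← hπsmul, hall]
    rw [mul_smul, h1, inv_smul_smul]
  have hΨ : Function.Injective Ψ := by
    intro φ ψ h
    have hg2 : φ g = ψ g := congrArg (fun q => q.2.1.1) h
    have hs2 : φ s = ψ s := congrArg (fun q => q.2.2.1) h
    have h1 := hfix (ψ⁻¹ * φ) (by rw [MulAut.mul_apply, hg2, MulAut.inv_apply_self]) (by rw [MulAut.mul_apply, hs2, MulAut.inv_apply_self])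
    exact (inv_mul_eq_one.mp h1).symm
  have hle := Nat.card_le_card_of_injective Ψ hΨ
  haveI := Fintype.ofFinite (Sylow 2 G)
  have h7' : ∀ U : Sylow 2 G, Nat.card {t : G // t ∈ (U : Subgroup G) ∧ t ≠ 1} = 7 := by
    intro U
    rw [← Set.coe_setOf, Nat.card_coe_set_eq,
      show {t : G | t ∈ (U : Subgroup G) ∧ t ≠ 1} = ((U : Subgroup G) : Set G) \ {1} from rfl,
      Set.ncard_sdiff_singleton_of_mem (one_mem (U : Subgroup G))]
    show Nat.card (U : Subgroup G) - 1 = 7
    rw [hU8]
  rw [Nat.card_sigma, Finset.sum_congr rfl fun U _ => (Nat.card_prod _ _).trans (by rw [h48 U, h7' U]),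
    Finset.sum_const, smul_eq_mul, Finset.card_univ, ← Nat.card_eq_fintype_card, hX] at hle
  have hd : Nat.lcm 216 224 ∣ Nat.card (MulAut G) := Nat.lcm_dvd
    (h7 ▸ orderCount_dvd_card_aut horb (by omega)) (h3 ▸ orderCount_dvd_card_aut horb (by omega))
  have := Nat.le_of_dvd Nat.card_pos hd
  have hlcm : Nat.lcm 216 224 = 6048 := by norm_num
  omega

end Order504

end Cfsg.Agent.Lib.Frobenius.FourOrbits
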