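import Cfsg.Agent.Lib.Frobenius.FourOrbits504

/-!
# The order is sixty
-/

set_option autoImplicit false

namespace Cfsg.Agent.Lib.Frobenius.FourOrbits

section Final

variable {G : Type*} [Group G] [Finite G] (hord : ∀ g : G, g ≠ 1 → (orderOf g).Prime)
  (horb : ∀ a b : G, orderOf a = orderOf b → ∃ φ : MulAut G, φ a = b)
  {b c : ℕ} [Fact b.Prime] [Fact c.Prime] (hb2 : b ≠ 2) (hc2 : c ≠ 2) (hbc : b ≠ c)
  (hthree : ∀ q : ℕ, q.Prime → q ∣ Nat.card G → q = 2 ∨ q = b ∨ q = c)
  (hdv : 2 ∣ Nat.card G ∧ b ∣ Nat.card G ∧ c ∣ Nat.card G)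
  (hns : ¬ Group.IsSolvable G)

theorem eq_nine {n k : ℕ} (hn : 3 ≤ n) (hk : 3 ^ k = 2 ^ n + 1) : n = 3 := by
  obtain ⟨i, rfl⟩ | ⟨i, rfl⟩ := Nat.even_or_odd k
  · have hsplit : (3 ^ i - 1) * (3 ^ i + 1) = 2 ^ n := by
      have h1 : 3 ^ i * 3 ^ i = 2 ^ n + 1 := by rw [← pow_add, hk]
      have h0 : 0 < 3 ^ i := by positivity
      obtain ⟨d, hd⟩ : ∃ d, 3 ^ i = d + 1 := ⟨3 ^ i - 1, by omega⟩
      rw [hd] at h1 ⊢
      rw [Nat.add_sub_cancel]
      nlinarith
    obtain ⟨u, -, hu⟩ := (Nat.dvd_prime_pow Nat.prime_two).mp (Dvd.intro _ hsplit)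
    obtain ⟨v, -, hv⟩ := (Nat.dvd_prime_pow Nat.prime_two).mp (Dvd.intro_left _ hsplit)
    have h0 : 0 < 3 ^ i := by positivity
    have hvu : 2 ^ v = 2 ^ u + 2 := by omega
    have hu2 : u < 2 := by
      by_contra hu2
      obtain ⟨u', rfl⟩ : ∃ u', u = u' + 2 := ⟨u - 2, by omega⟩
      have e1 : 2 ^ (u' + 2) = 4 * 2 ^ u' := by ring
      have : 0 < 2 ^ u' := by positivity
      rcases v with _ | _ | v
      · simp at hvu
      · norm_num at hvu
      · have e2 : 2 ^ (v + 1 + 1) = 4 * 2 ^ v := by ring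
        omega
    have h2n : 2 ^ n = 2 ^ u * 2 ^ v := by rw [← hsplit, hu, hv]
    interval_cases u
    · exfalso
      have h3 : 2 ^ v = 3 := by rw [hvu]; norm_num
      rcases v with _ | v
      · simp at h3
      · rw [pow_succ] at h3; omega
    · rw [hvu] at h2n
      have h8 : 2 ^ n = 2 ^ 3 := by rw [h2n]; norm_num
      exact Nat.pow_right_injective le_rfl h8
  · exfalso
    obtain ⟨m, rfl⟩ : ∃ m, n = m + 3 := ⟨n - 3, by omega⟩
    have h1 : 3 ^ (2 * i + 1) % 8 = 3 := by
      rw [pow_succ, pow_mul, Nat.mul_mod, Nat.pow_mod]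
      norm_num
    rw [hk, pow_add] at h1
    omega

include hord horb hb2 hc2 hbc hthree hdv hns in
/-- The order is sixty. -/
theorem card_eq_sixty_aux
    (hsum : Nat.card G = 1 + orderCount G 2 + orderCount G b + orderCount G c)
    (P : Sylow b G) (hPab : IsMulCommutative (P : Subgroup G))
    (hPeq : orderCount G b * 2 * Nat.card (P : Subgroup G) = Nat.card G * (Nat.card (P : Subgroup G) - 1)) :
    Nat.card G = 60 := by
  have hbp : b.Prime := Fact.out
  have hcp : c.Prime := Fact.out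
  haveI := Fact.mk Nat.prime_two
  obtain ⟨S⟩ : Nonempty (Sylow 2 G) := inferInstance
  obtain ⟨Q⟩ : Nonempty (Sylow c G) := inferInstance
  obtain ⟨hT2, he2, hA4⟩ := two_data hord horb hbp hcp hthree hns S hdv.1
  have hcard := card_eq_mul hord hb2 hc2 hbc hthree S P Q
  set A := Nat.card (S : Subgroup G) with hA
  set P0 := Nat.card (P : Subgroup G) with hP0
  set Q0 := Nat.card (Q : Subgroup G) with hQ0
  obtain ⟨i, hi⟩ := IsPGroup.iff_card.mp P.isPGroup'
  obtain ⟨k, hk⟩ := IsPGroup.iff_card.mp Q.isPGroup'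
  replace hi : P0 = b ^ i := hi
  replace hk : Q0 = c ^ k := hk
  have hi0 : i ≠ 0 := fun h => by
    have := P.dvd_card_of_dvd_card hdv.2.1
    rw [← hP0, hi, h, pow_zero] at this
    exact hbp.one_lt.ne' (Nat.dvd_one.mp this)
  have hk0 : k ≠ 0 := fun h => by
    have := Q.dvd_card_of_dvd_card hdv.2.2
    rw [← hQ0, hk, h, pow_zero] at this
    exact hcp.one_lt.ne' (Nat.dvd_one.mp this)
  have hb3 : 3 ≤ b := by have := hbp.two_le; omega
  have hc3 : 3 ≤ c := by have := hcp.two_le; omega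
  have hP3 : 3 ≤ P0 := le_trans (hb3.trans (Nat.le_self_pow hi0 b)) hi.ge
  have hQ3 : 3 ≤ Q0 := le_trans (hc3.trans (Nat.le_self_pow hk0 c)) hk.ge
  have hT2' : orderCount G 2 = P0 * Q0 := by
    refine Nat.eq_of_mul_eq_mul_right (show 0 < A by omega) ?_
    rw [hT2, hcard]; ring
  have hTb : orderCount G b * 2 + A * Q0 = A * P0 * Q0 := by
    refine Nat.eq_of_mul_eq_mul_right (show 0 < P0 by omega) ?_
    obtain ⟨d, hd⟩ : ∃ d, P0 = d + 1 := ⟨P0 - 1, by omega⟩
    rw [add_mul, hPeq, hcard, hd, Nat.add_sub_cancel]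
    ring
  rw [hcard, hT2'] at hsum
  rcases orderCount_cases hord horb Nat.prime_two hbp hcp hthree hns hc2 (Or.inr (Or.inr rfl)) Q with
    ⟨hQab, e, he, hed, -, heq⟩ | h9
  swap
  · exfalso
    rw [hcard] at h9
    have h15 : 9 ≤ P0 * Q0 := Nat.mul_le_mul hP3 hQ3
    nlinarith [Nat.mul_le_mul_right (P0 * Q0) hA4]
  have hTc : orderCount G c * e + A * P0 = A * P0 * Q0 := by
    refine Nat.eq_of_mul_eq_mul_right (show 0 < Q0 by omega) ?_
    obtain ⟨d, hd⟩ : ∃ d, Q0 = d + 1 := ⟨Q0 - 1, by omega⟩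
    rw [add_mul, heq, hcard, ← hQ0, hd, Nat.add_sub_cancel]
    ring
  have he4 : e < 4 := by
    by_contra h4
    have h44 : orderCount G c * 4 ≤ orderCount G c * e := Nat.mul_le_mul_left _ (by omega)
    nlinarith [Nat.mul_le_mul_right (P0 * Q0) hA4, Nat.mul_le_mul hA4 hQ3]
  interval_cases e
  · -- both normalizers have a subgroup of index two
    have hkey : 2 * (P0 * Q0) + 2 = A * P0 + A * Q0 := by nlinarith
    obtain ⟨n, hn⟩ := IsPGroup.iff_card.mp S.isPGroup'
    replace hn : A = 2 ^ n := hn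
    have habel : ∀ r : ℕ, (r = b ∨ r = c) → ∀ R : Sylow r G, IsMulCommutative (R : Subgroup G) ∧
        (R : Subgroup G).relIndex (Subgroup.normalizer ((R : Subgroup G) : Set G)) = 2 := by
      intro r hr R
      rcases hr with rfl | rfl
      · have hRab : IsMulCommutative (R : Subgroup G) := by
          obtain ⟨g, rfl⟩ := MulAction.exists_smul_eq G P R
          exact ⟨⟨fun u v => (Sylow.equivSMul P g).symm.injective (by rw [map_mul, map_mul]; exact hPab.is_comm.comm _ _)⟩⟩
        refine ⟨hRab, ?_⟩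
        have h := orderCount_mul hord horb R
        rw [show Subgroup.center (R : Subgroup G) = ⊤ from eq_top_iff.mpr fun w _ =>
          Subgroup.mem_center_iff.mpr fun v => hRab.is_comm.comm v w, Subgroup.card_top,
          show Nat.card (R : Subgroup G) = P0 from R.card_eq_multiplicity.trans P.card_eq_multiplicity.symm, ← hPeq] at h
        have hpos : 0 < orderCount G r := by
          have : A * Q0 < A * P0 * Q0 := by nlinarith
          omega
        have h' := Nat.eq_of_mul_eq_mul_left hpos (h.trans (mul_assoc _ _ _))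
        exact Nat.eq_of_mul_eq_mul_left (show 0 < P0 by omega) (h'.trans (mul_comm _ _))
      · have hRab : IsMulCommutative (R : Subgroup G) := by
          obtain ⟨g, rfl⟩ := MulAction.exists_smul_eq G Q R
          exact ⟨⟨fun u v => (Sylow.equivSMul Q g).symm.injective (by rw [map_mul, map_mul]; exact hQab.is_comm.comm _ _)⟩⟩
        refine ⟨hRab, ?_⟩
        have h := orderCount_mul hord horb R
        rw [show Subgroup.center (R : Subgroup G) = ⊤ from eq_top_iff.mpr fun w _ =>
          Subgroup.mem_center_iff.mpr fun v => hRab.is_comm.comm v w, Subgroup.card_top,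
          show Nat.card (R : Subgroup G) = Q0 from R.card_eq_multiplicity.trans Q.card_eq_multiplicity.symm, ← heq] at h
        have hpos : 0 < orderCount G r := by
          have : A * P0 < A * P0 * Q0 := by nlinarith
          omega
        have h' := Nat.eq_of_mul_eq_mul_left hpos (h.trans (mul_assoc _ _ _))
        exact Nat.eq_of_mul_eq_mul_left (show 0 < Q0 by omega) (h'.trans (mul_comm _ _))
    by_cases hA8 : A = 4
    · rw [hA8] at hkey hcard
      have hoddP : Odd P0 := by rw [hi]; exact (hbp.odd_of_ne_two hb2).pow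
      have hoddQ : Odd Q0 := by rw [hk]; exact (hcp.odd_of_ne_two hc2).pow
      have hP5 : P0 ≤ 5 := by nlinarith
      have hQ5 : Q0 ≤ 5 := by nlinarith
      obtain ⟨a1, ha1⟩ := hoddP
      obtain ⟨a2, ha2⟩ := hoddQ
      have : P0 = 3 ∨ P0 = 5 := by omega
      have : Q0 = 3 ∨ Q0 = 5 := by omega
      rcases ‹P0 = 3 ∨ P0 = 5› with h | h <;> rcases ‹Q0 = 3 ∨ Q0 = 5› with h' | h' <;> rw [h, h'] at hkey hcard <;> omega
    exfalso
    have hn3 : 3 ≤ n := by
      by_contra hlt
      push Not at hlt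
      interval_cases n <;> omega
    have h8 : 8 ≤ A := by
      rw [hn]
      calc 8 = 2 ^ 3 := rfl
        _ ≤ 2 ^ n := Nat.pow_le_pow_right (by norm_num) hn3
    have hfinal : ∀ (p r : ℕ) (i k : ℕ), p.Prime → r.Prime → i ≠ 0 → k ≠ 0 → A - 1 = p →
        2 * (p ^ i * r ^ k) + 2 = A * p ^ i + A * r ^ k → A = 8 ∧ p ^ i = 7 ∧ r ^ k = 9 := by
      intro p r i k hp hr hi0 hk0 hAp hkey
      have hi1 : i = 1 := by
        by_contra hne
        have hsq : p ^ 2 ≤ p ^ i := Nat.pow_le_pow_right hp.pos (by omega)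
        have hz : ((2 : ℤ) * (p ^ i : ℕ) - A) * (2 * (r ^ k : ℕ) - A) = (A : ℤ) * A - 4 := by
          have h := congrArg (fun x : ℕ => (x : ℤ)) hkey
          push_cast at h ⊢
          linear_combination 2 * h
        have hpA : ((p : ℤ)) = A - 1 := by omega
        have hsq' : ((p : ℤ)) * p ≤ ((p ^ i : ℕ) : ℤ) := by
          rw [← pow_two]; exact_mod_cast hsq
        have hA8' : (8 : ℤ) ≤ A := by exact_mod_cast h8
        rw [hpA] at hsq'
        have hfirst : (A : ℤ) * A - 4 < 2 * ((p ^ i : ℕ) : ℤ) - A := by nlinarith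
        have hsecond : (1 : ℤ) ≤ 2 * ((r ^ k : ℕ) : ℤ) - A := by
          by_contra hlt
          push Not at hlt
          have hneg : ((2 : ℤ) * (p ^ i : ℕ) - A) * (2 * (r ^ k : ℕ) - A) ≤ 0 :=
            mul_nonpos_of_nonneg_of_nonpos (by nlinarith) (by omega)
          nlinarith
        nlinarith [mul_le_mul_of_nonneg_left hsecond (show (0 : ℤ) ≤ 2 * (p ^ i : ℕ) - A by nlinarith)]
      subst hi1
      rw [pow_one] at hkey ⊢
      have hQ : r ^ k = A + 1 := by
        obtain ⟨d, hd⟩ : ∃ d, A = d + 1 := ⟨A - 1, by omega⟩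
        rw [hd] at hkey hAp ⊢
        rw [Nat.add_sub_cancel] at hAp
        rw [← hAp] at hkey
        have : (d - 1) * r ^ k = (d - 1) * (d + 2) := by
          obtain ⟨d', rfl⟩ : ∃ d', d = d' + 1 := ⟨d - 1, by omega⟩
          rw [Nat.add_sub_cancel]
          nlinarith
        exact Nat.eq_of_mul_eq_mul_left (show 0 < d - 1 by omega) this
      have hnodd : Odd n := by
        by_contra hne
        obtain ⟨m, hm⟩ := Nat.not_odd_iff_even.mp hne
        have h3 : 3 ∣ A - 1 := by
          rw [hn, hm, ← two_mul, pow_mul]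
          simpa using Nat.sub_dvd_pow_sub_pow 4 1 m
        rw [hAp, Nat.prime_dvd_prime_iff_eq Nat.prime_three hp] at h3
        omega
      have h3r : r = 3 := by
        obtain ⟨m, hm⟩ := hnodd
        have h3 : 3 ∣ A + 1 := by
          rw [hn, hm]
          simpa using Odd.nat_add_dvd_pow_add_pow (x := 2) (y := 1) (n := 2 * m + 1) ⟨m, rfl⟩
        rw [← hQ] at h3
        exact ((Nat.prime_dvd_prime_iff_eq Nat.prime_three hr).mp (Nat.prime_three.dvd_of_dvd_pow h3)).symm
      subst h3r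
      have hn' := eq_nine hn3 (k := k) (by rw [hQ, hn])
      have hA8' : A = 8 := by rw [hn, hn']; norm_num
      omega
    obtain ⟨h7, h3⟩ : A = 8 ∧ ((P0 = 7 ∧ Q0 = 9) ∨ (P0 = 9 ∧ Q0 = 7)) := by
      rcases card_sub_one_prime hord horb hbp hcp hthree hns S hdv.1 hb2 hc2 habel with h | h
      · obtain ⟨h1, h2, h3⟩ := hfinal b c i k hbp hcp hi0 hk0 h (by rw [← hi, ← hk]; exact hkey)
        exact ⟨h1, Or.inl ⟨hi.trans h2, hk.trans h3⟩⟩
      · obtain ⟨h1, h2, h3⟩ := hfinal c b k i hcp hbp hk0 hi0 h (by rw [← hi, ← hk]; linarith)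
        exact ⟨h1, Or.inr ⟨hi.trans h3, hk.trans h2⟩⟩
    have hG : Nat.card G = 504 := by rcases h3 with ⟨h, h'⟩ | ⟨h, h'⟩ <;> rw [hcard, h7, h, h']
    have hN : Nat.card (Subgroup.normalizer ((S : Subgroup G) : Set G)) = 56 := by
      have h5 : Nat.card ((S : Subgroup G).subgroupOf (Subgroup.normalizer ((S : Subgroup G) : Set G))) *
          (S : Subgroup G).relIndex (Subgroup.normalizer ((S : Subgroup G) : Set G)) =
          Nat.card (Subgroup.normalizer ((S : Subgroup G) : Set G)) := Subgroup.card_mul_index _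
      rw [Nat.card_congr (Subgroup.subgroupOfEquivOfLe Subgroup.le_normalizer).toEquiv, he2, ← hA, h7] at h5
      omega
    have hbval : ∀ (r i : ℕ), r.Prime → i ≠ 0 → r ^ i = 7 → r = 7 := fun r i hr hi h =>
      (Nat.prime_dvd_prime_iff_eq hr (by norm_num)).mp (h ▸ dvd_pow_self r hi)
    have hcval : ∀ (r i : ℕ), r.Prime → i ≠ 0 → r ^ i = 9 → r = 3 := fun r i hr hi h =>
      (Nat.prime_dvd_prime_iff_eq hr Nat.prime_three).mp (hr.dvd_of_dvd_pow (n := 2) (by
        show r ∣ 9
        exact h ▸ dvd_pow_self r hi))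
    rw [h7] at hTb hTc
    rcases h3 with ⟨h, h'⟩ | ⟨h, h'⟩
    · have hb7 := hbval b i hbp hi0 (hi.symm.trans h)
      have hc7 := hcval c k hcp hk0 (hk.symm.trans h')
      rw [hb7, h, h'] at hTb
      rw [hc7, h, h'] at hTc
      exact false_of_card_504 hord horb hG (by omega) (by omega) S h7 hN
    · have hb7 := hcval b i hbp hi0 (hi.symm.trans h)
      have hc7 := hbval c k hcp hk0 (hk.symm.trans h')
      rw [hb7, h, h'] at hTb
      rw [hc7, h, h'] at hTc
      exact false_of_card_504 hord horb hG (by omega) (by omega) S h7 hN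
  · exfalso
    have hkey : A * (P0 * Q0) + 3 * (A * Q0) + 2 * (A * P0) = 6 * (P0 * Q0) + 6 := by nlinarith
    have hA5 : A < 6 := by nlinarith
    have hA4' : A = 4 := by
      obtain ⟨n, hn⟩ := IsPGroup.iff_card.mp S.isPGroup'
      rw [← hA] at hn
      have : n < 3 := by
        by_contra hn3
        have := Nat.pow_le_pow_right (n := 2) (by norm_num) (show 3 ≤ n by omega)
        omega
      interval_cases n <;> omega
    rw [hA4'] at hkey he2
    obtain ⟨d, hd⟩ : 3 ∣ Q0 - 1 := hed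
    have hb_eq : b = 3 := by
      have h3G : 3 ∣ Nat.card G := by
        rw [show (3 : ℕ) = 4 - 1 from rfl, ← he2]
        exact (Subgroup.relIndex_dvd_index_of_le Subgroup.le_normalizer).trans (Subgroup.index_dvd_card _)
      rcases hthree 3 Nat.prime_three h3G with h | h | h
      · omega
      · exact h.symm
      · exfalso
        have : 3 ∣ Q0 := by
          rw [hk, ← h]
          exact dvd_pow_self 3 hk0
        omega
    have hQd : Q0 = 3 * d + 1 := by omega
    have h3P : 3 ∣ P0 := by rw [hi, hb_eq]; exact dvd_pow_self 3 hi0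
    obtain ⟨P', hP'⟩ := h3P
    rw [hQd, hP'] at hkey
    have : 3 * (P' * d) = 6 * d + 1 + 3 * P' := by nlinarith
    omega

include hord horb hb2 hc2 hbc hthree hdv hns in
theorem card_eq_sixty (hsum : Nat.card G = 1 + orderCount G 2 + orderCount G b + orderCount G c) :
    Nat.card G = 60 := by
  have hbp : b.Prime := Fact.out
  have hcp : c.Prime := Fact.out
  haveI := Fact.mk Nat.prime_two
  obtain ⟨P⟩ : Nonempty (Sylow b G) := inferInstance
  obtain ⟨Q⟩ : Nonempty (Sylow c G) := inferInstance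
  rcases Classical.em (∃ (_ : IsMulCommutative (P : Subgroup G)),
    orderCount G b * 2 * Nat.card (P : Subgroup G) = Nat.card G * (Nat.card (P : Subgroup G) - 1)) with ⟨hab, h⟩ | hP
  · exact card_eq_sixty_aux hord horb hb2 hc2 hbc hthree hdv hns hsum P hab h
  rcases Classical.em (∃ (_ : IsMulCommutative (Q : Subgroup G)),
    orderCount G c * 2 * Nat.card (Q : Subgroup G) = Nat.card G * (Nat.card (Q : Subgroup G) - 1)) with ⟨hab, h⟩ | hQ
  · exact card_eq_sixty_aux hord horb hc2 hb2 hbc.symm (fun q hq hd => (hthree q hq hd).imp id Or.symm)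
      ⟨hdv.1, hdv.2.2, hdv.2.1⟩ hns (by omega) Q hab h
  exfalso
  have key : ∀ (r : ℕ) [Fact r.Prime], r ≠ 2 → (r = 2 ∨ r = b ∨ r = c) → ∀ R : Sylow r G,
      (¬ ∃ (_ : IsMulCommutative (R : Subgroup G)),
        orderCount G r * 2 * Nat.card (R : Subgroup G) = Nat.card G * (Nat.card (R : Subgroup G) - 1)) →
      3 * orderCount G r ≤ Nat.card G := by
    intro r _ hr2 hr R hR
    rcases orderCount_cases hord horb Nat.prime_two hbp hcp hthree hns hr2 hr R with ⟨hab, e, he, -, -, heq⟩ | h9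
    · have he3 : 3 ≤ e := by
        by_contra
        obtain rfl : e = 2 := by omega
        exact hR ⟨hab, heq⟩
      refine Nat.le_of_mul_le_mul_right ?_ (Nat.card_pos : 0 < Nat.card (R : Subgroup G))
      calc 3 * orderCount G r * Nat.card (R : Subgroup G) ≤ orderCount G r * e * Nat.card (R : Subgroup G) := by
            rw [mul_comm 3]; exact Nat.mul_le_mul_right _ (Nat.mul_le_mul_left _ he3)
        _ ≤ _ := by rw [heq]; exact Nat.mul_le_mul_left _ (Nat.sub_le _ _)
    · omega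
  have h1 := key b hb2 (Or.inr (Or.inl rfl)) P hP
  have h2 := key c hc2 (Or.inr (Or.inr rfl)) Q hQ
  obtain ⟨S⟩ : Nonempty (Sylow 2 G) := inferInstance
  obtain ⟨hT2, -, hA4⟩ := two_data hord horb hbp hcp hthree hns S hdv.1
  have h4 : 4 * orderCount G 2 ≤ Nat.card G := by
    rw [← hT2, mul_comm]; exact Nat.mul_le_mul_left _ hA4
  have h12 : 2 * b * c ∣ Nat.card G := Nat.Coprime.mul_dvd_of_dvd_of_dvd
    ((((Nat.coprime_primes Nat.prime_two hcp).mpr hc2.symm)).mul_left ((Nat.coprime_primes hbp hcp).mpr hbc))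
    (((Nat.coprime_primes Nat.prime_two hbp).mpr hb2.symm).mul_dvd_of_dvd_of_dvd hdv.1 hdv.2.1) hdv.2.2
  have hle := Nat.le_of_dvd Nat.card_pos h12
  have hb3 : 3 ≤ b := by have := hbp.two_le; omega
  have hc3 : 3 ≤ c := by have := hcp.two_le; omega
  have : 18 ≤ Nat.card G := le_trans (by nlinarith) hle
  omega

end Final

end Cfsg.Agent.Lib.Frobenius.FourOrbits
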