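import Cfsg.Agent.Lib.Transfer.Frobenius
import Cfsg.Agent.Lib.Solvable.FixedPointFree
import Mathlib.GroupTheory.Nilpotent
import Mathlib.GroupTheory.Solvable
import Mathlib.GroupTheory.SchurZassenhaus

/-!
Groups with a nilpotent maximal subgroup.
-/

set_option autoImplicit false

universe u

namespace Cfsg.Agent.Lib.Frobenius

open Cfsg.Agent.Lib

variable {G : Type u} [Group G] [Finite G]

/-- A finite group whose `p`-complements exist for all primes dividing the order of a nilpotent
maximal subgroup which contains no nontrivial normal subgroup is soluble. -/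
theorem isSolvable_of_npc {M : Subgroup G} (hmax : IsCoatom M) (hnil : Group.IsNilpotent M)
    (hcore : ∀ N : Subgroup G, N.Normal → N ≤ M → N = ⊥)
    (hp : ∀ p : ℕ, ∀ [Fact p.Prime], ∀ P : Sylow p G, (P : Subgroup G) ≤ M → (P : Subgroup G) ≠ ⊥ →
      Subgroup.normalizer ((P : Subgroup G) : Set G) = M → Cfsg.HasNormalPComplement p G) :
    Group.IsSolvable G := by
  haveI := hnil
  rcases eq_or_ne M ⊥ with hM | hM
  · rcases subsingleton_or_nontrivial G with h | h
    · infer_instance
    obtain ⟨x, hx⟩ := exists_ne (1 : G)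
    have hz : Subgroup.zpowers x = ⊤ := hmax.2 _ (by rw [hM]; exact bot_lt_iff_ne_bot.mpr (by simpa using hx))
    refine Group.isSolvable_of_comm fun a b => ?_
    obtain ⟨i, rfl⟩ := Subgroup.mem_zpowers_iff.mp (hz.ge (Subgroup.mem_top a))
    obtain ⟨j, rfl⟩ := Subgroup.mem_zpowers_iff.mp (hz.ge (Subgroup.mem_top b))
    exact (Commute.zpow_zpow_self x i j).eq
  -- each prime of `M`: a Sylow subgroup inside `M` whose normaliser is `M`
  have hsyl : ∀ p : ℕ, ∀ [Fact p.Prime], p ∣ Nat.card M →
      ∃ P : Sylow p G, (P : Subgroup G) ≤ M ∧ (P : Subgroup G) ≠ ⊥ ∧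
        Subgroup.normalizer ((P : Subgroup G) : Set G) = M := by
    intro p _ hpd
    let T : Sylow p M := default
    set P0 : Subgroup G := (T : Subgroup M).map M.subtype with hP0
    have hP0M : P0 ≤ M := Subgroup.map_subtype_le _
    have hP0b : P0 ≠ ⊥ := by
      rw [hP0, Ne, Subgroup.map_eq_bot_iff_of_injective _ M.subtype_injective]
      exact T.ne_bot_of_dvd_card hpd
    have hTn : (T : Subgroup M).Normal := inferInstance
    have hMN : M ≤ Subgroup.normalizer (P0 : Set G) := by
      intro x hx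
      rw [Subgroup.mem_normalizer_iff]
      intro y
      constructor
      · rintro ⟨y', hy', rfl⟩
        exact ⟨⟨x, hx⟩ * y' * ⟨x, hx⟩⁻¹, hTn.conj_mem _ hy' _, rfl⟩
      · rintro ⟨y', hy', he⟩
        refine ⟨⟨x, hx⟩⁻¹ * y' * ⟨x, hx⟩, ?_, ?_⟩
        · have h := hTn.conj_mem _ hy' ⟨x, hx⟩⁻¹
          rwa [inv_inv] at h
        · simp only [map_mul, map_inv, Subgroup.coe_subtype] at he ⊢
          rw [he]; group
    have hN : Subgroup.normalizer (P0 : Set G) = M := by
      refine (hmax.le_iff.mp hMN).resolve_left fun htop => hP0b ?_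
      exact hcore P0 (Subgroup.normalizer_eq_top_iff.mp htop) hP0M
    obtain ⟨P, hP⟩ := (T.2.map M.subtype).exists_le_sylow
    have hPeq : P0 = (P : Subgroup G) := by
      by_contra hne
      have hlt := Transfer.lt_inf_normalizer P.2 (lt_of_le_of_ne hP hne)
      rw [hN] at hlt
      have h2 : (T : Subgroup M) = ((P : Subgroup G) ⊓ M).subgroupOf M :=
        (T.3 ((P.2.to_le inf_le_left).of_equiv (Subgroup.subgroupOfEquivOfLe inf_le_right).symm)
          (fun y hy => hlt.le ⟨y, hy, rfl⟩)).symm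
      refine hlt.ne ?_
      rw [h2, Subgroup.map_subgroupOf_eq_of_le inf_le_right]
    exact ⟨P, hPeq ▸ hP0M, hPeq ▸ hP0b, hPeq ▸ hN⟩
  set K : Subgroup G := ⨅ p ∈ (Nat.card M).primeFactors, Cfsg.pResidual p G with hK
  have hres : ∀ p ∈ (Nat.card M).primeFactors, Nat.Coprime (Nat.card (Cfsg.pResidual p G)) p ∧
      (Cfsg.pResidual p G).Normal ∧ ∃ n, derivedSeries G n ≤ Cfsg.pResidual p G := by
    intro p hpm
    haveI := Fact.mk (Nat.prime_of_mem_primeFactors hpm)
    obtain ⟨P, hPM, hPb, hPN⟩ := hsyl p (Nat.dvd_of_mem_primeFactors hpm)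
    have h := hp p P hPM hPb hPN
    haveI : (Cfsg.pResidual p G).Normal := Transfer.pResidual_normal
    refine ⟨(Transfer.hasNormalPComplement_iff_coprime).mp h, inferInstance, ?_⟩
    have hsup := Transfer.sylow_sup_pResidual P
    have hQ : IsPGroup p (G ⧸ Cfsg.pResidual p G) := by
      intro x
      obtain ⟨g, rfl⟩ := QuotientGroup.mk_surjective x
      obtain ⟨s, hs, c, hc, rfl⟩ := Subgroup.mem_sup_of_normal_right.mp (hsup.ge (Subgroup.mem_top g))
      obtain ⟨k, hk⟩ := P.2 ⟨s, hs⟩
      refine ⟨k, ?_⟩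
      have hk' : s ^ p ^ k = 1 := congrArg Subtype.val hk
      rw [QuotientGroup.mk_mul, (QuotientGroup.eq_one_iff c).mpr hc, mul_one, ← QuotientGroup.mk_pow,
        hk', QuotientGroup.mk_one]
    haveI : Group.IsNilpotent (G ⧸ Cfsg.pResidual p G) := hQ.isNilpotent
    obtain ⟨n, hn⟩ := (Group.isSolvable_def (G ⧸ Cfsg.pResidual p G)).mp inferInstance
    refine ⟨n, fun x hx => ?_⟩
    have := map_derivedSeries_le_derivedSeries (QuotientGroup.mk' (Cfsg.pResidual p G)) n
      (Subgroup.mem_map_of_mem _ hx)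
    rw [hn, Subgroup.mem_bot] at this
    exact (QuotientGroup.eq_one_iff x).mp this
  have hKle : ∀ p ∈ (Nat.card M).primeFactors, K ≤ Cfsg.pResidual p G := fun p hp => iInf₂_le p hp
  haveI hKn : K.Normal := ⟨fun x hx g => by
    simp only [hK, Subgroup.mem_iInf] at hx ⊢
    exact fun p hp => (hres p hp).2.1.conj_mem x (hx p hp) g⟩
  rcases eq_or_ne K ⊥ with hKb | hKb
  · choose f hf using fun p : {p // p ∈ (Nat.card M).primeFactors} => (hres p p.2).2.2
    rw [Group.isSolvable_def]
    refine ⟨Finset.univ.sup f, le_bot_iff.mp ?_⟩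
    rw [← hKb]
    exact le_iInf₂ fun p hp => (derivedSeries_antitone G (Finset.le_sup (f := f) (Finset.mem_univ ⟨p, hp⟩))).trans
      (hf ⟨p, hp⟩)
  have hcop : Nat.Coprime (Nat.card K) (Nat.card M) := by
    refine Nat.coprime_of_dvd fun p hpp hpK hpM => ?_
    have hmem : p ∈ (Nat.card M).primeFactors := Nat.mem_primeFactors.mpr ⟨hpp, hpM, Nat.card_pos.ne'⟩
    exact hpp.not_dvd_one ((hres p hmem).1 ▸ Nat.dvd_gcd (hpK.trans (Subgroup.card_dvd_of_le (hKle p hmem))) dvd_rfl)
  have hKM : K ⊓ M = ⊥ := Subgroup.inf_eq_bot_of_coprime hcop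
  have hKM' : K ⊔ M = ⊤ := by
    refine (hmax.le_iff.mp (le_sup_right : M ≤ K ⊔ M)).resolve_right fun h => hKb ?_
    rw [← inf_eq_left.mpr (h ▸ le_sup_left : K ≤ M), hKM]
  have hKind : K.index = Nat.card M :=
    (Subgroup.isComplement'_of_disjoint_and_mul_eq_univ (disjoint_iff.mpr hKM)
      (by rw [← Subgroup.normal_mul, hKM', Subgroup.coe_top])).symm.index_eq_card
  obtain ⟨q, hq, hqK⟩ := Nat.exists_prime_and_dvd
    (fun h : Nat.card K = 1 => hKb (Subgroup.card_eq_one.mp h))
  haveI := Fact.mk hq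
  let Q0 : Sylow q K := default
  set Q : Subgroup G := (Q0 : Subgroup K).map K.subtype with hQdef
  have hQb : Q ≠ ⊥ := by
    rw [hQdef, Ne, Subgroup.map_eq_bot_iff_of_injective _ K.subtype_injective]
    exact Q0.ne_bot_of_dvd_card hqK
  have hfr : Subgroup.normalizer (Q : Set G) ⊔ K = ⊤ := Sylow.normalizer_sup_eq_top Q0
  set NN := Subgroup.normalizer (Q : Set G) with hNN
  haveI : (K.subgroupOf NN).Normal := hKn.subgroupOf _
  have hrel : (K.subgroupOf NN).index = Nat.card M := by
    rw [← hKind, ← Subgroup.relIndex_top_right K, ← hfr, Subgroup.relIndex_sup_right]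
    rfl
  have hKNc : Nat.card (K.subgroupOf NN) ∣ Nat.card K := by
    have h := Subgroup.card_map_of_injective (K := K.subgroupOf NN) NN.subtype_injective
    rw [Subgroup.subgroupOf_map_subtype] at h
    rw [← h]
    exact Subgroup.card_dvd_of_le inf_le_left
  obtain ⟨L0, hL0⟩ := Subgroup.exists_right_complement'_of_coprime (N := K.subgroupOf NN)
    (by rw [hrel]; exact hcop.coprime_dvd_left hKNc)
  have hL0c : Nat.card L0 = Nat.card M := by rw [← hrel]; exact hL0.symm.index_eq_card.symm
  set L : Subgroup G := L0.map NN.subtype with hLdef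
  have hLc : Nat.card L = Nat.card M := by
    rw [hLdef, Subgroup.card_map_of_injective NN.subtype_injective, hL0c]
  -- `L` is a conjugate of `M`
  obtain ⟨p, hpp, hpM⟩ := Nat.exists_prime_and_dvd
    (fun h : Nat.card M = 1 => hM (Subgroup.card_eq_one.mp h))
  haveI := Fact.mk hpp
  obtain ⟨P, hPM, -, hPN⟩ := hsyl p hpM
  have hLnil : Group.IsNilpotent L := by
    have h1 : Group.IsNilpotent (G ⧸ K) := by
      refine Group.nilpotent_of_surjective ((QuotientGroup.mk' K).comp M.subtype) fun x => ?_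
      obtain ⟨g, rfl⟩ := QuotientGroup.mk_surjective x
      obtain ⟨k, hk, m, hm, rfl⟩ := Subgroup.mem_sup_of_normal_left.mp (hKM'.ge (Subgroup.mem_top g))
      exact ⟨⟨m, hm⟩, by simp [(QuotientGroup.eq_one_iff k).mpr hk]⟩
    let f : L →* G ⧸ K := (QuotientGroup.mk' K).comp L.subtype
    have hfinj : Function.Injective f := by
      rw [injective_iff_map_eq_one]
      intro x hx
      have hxK : (x : G) ∈ K := (QuotientGroup.eq_one_iff _).mp hx
      have hb : K ⊓ L = ⊥ := Subgroup.inf_eq_bot_of_coprime (by rw [hLc]; exact hcop)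
      exact Subtype.ext (Subgroup.mem_bot.mp (hb.le ⟨hxK, x.2⟩))
    haveI := h1
    exact isNilpotent_of_ker_le_center f (by rw [(MonoidHom.ker_eq_bot_iff f).mpr hfinj]; exact bot_le)
  haveI := hLnil
  let PL : Sylow p L := default
  set P' : Subgroup G := (PL : Subgroup L).map L.subtype with hP'
  have hP'c : Nat.card P' = Nat.card (P : Subgroup G) := by
    rw [hP', Subgroup.card_map_of_injective L.subtype_injective, PL.card_eq_multiplicity, hLc,
      ← (P.subtype hPM).card_eq_multiplicity]
    exact Nat.card_congr (Subgroup.subgroupOfEquivOfLe hPM).toEquiv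
  let P'' : Sylow p G := Sylow.ofCard P' (by rw [hP'c]; exact P.card_eq_multiplicity)
  obtain ⟨g, hg⟩ := MulAction.exists_smul_eq G P P''
  have hLN : L ≤ (M.map (MulAut.conj g).toMonoidHom) := by
    rw [← hPN, Subgroup.map_normalizer_eq_of_bijective _ (MulAut.conj g).bijective]
    have : (P : Subgroup G).map (MulAut.conj g).toMonoidHom = P' := congrArg Sylow.toSubgroup hg
    rw [this, hP']
    exact le_trans (by rw [Subgroup.normalizer_eq_top, ← MonoidHom.range_eq_map, Subgroup.range_subtype])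
      (Subgroup.le_normalizer_map (H := (PL : Subgroup L)) L.subtype)
  have hLeq : L = M.map (MulAut.conj g).toMonoidHom := Subgroup.eq_of_le_of_card_ge hLN
    (by rw [hLc, Subgroup.card_map_of_injective (MulAut.conj g).injective])
  have hLmax : IsCoatom L := by
    rw [hLeq]
    exact ((MulEquiv.mapSubgroup (MulAut.conj g)).isCoatom_iff M).mpr hmax
  have hQn : Q.Normal := by
    rw [← Subgroup.normalizer_eq_top_iff, ← hNN]
    refine (hLmax.le_iff.mp (Subgroup.map_subtype_le L0 : L ≤ NN)).resolve_right fun h => hQb ?_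
    have hQL : Q ≤ L := h ▸ Subgroup.le_normalizer
    have hb : K ⊓ L = ⊥ := Subgroup.inf_eq_bot_of_coprime (by rw [hLc]; exact hcop)
    exact le_bot_iff.mp ((le_inf (Subgroup.map_subtype_le _) hQL).trans hb.le)
  haveI : Group.IsNilpotent Q := (Q0.2.map K.subtype).isNilpotent
  have hLQ : Q ⊔ L = ⊤ := by
    refine (hLmax.le_iff.mp (le_sup_right : L ≤ Q ⊔ L)).resolve_right fun h => hQb ?_
    have hb : K ⊓ L = ⊥ := Subgroup.inf_eq_bot_of_coprime (by rw [hLc]; exact hcop)
    exact le_bot_iff.mp ((le_inf (Subgroup.map_subtype_le _) (h ▸ le_sup_left)).trans hb.le)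
  haveI := hQn
  haveI : Group.IsSolvable (G ⧸ Q) :=
    Group.isSolvable_of_surjective (f := (QuotientGroup.mk' Q).comp L.subtype) fun x => by
      obtain ⟨g, rfl⟩ := QuotientGroup.mk_surjective x
      obtain ⟨k, hk, m, hm, rfl⟩ := Subgroup.mem_sup_of_normal_left.mp (hLQ.ge (Subgroup.mem_top g))
      exact ⟨⟨m, hm⟩, by simp [(QuotientGroup.eq_one_iff k).mpr hk]⟩
  exact Group.isSolvable_of_ker_le_range Q.subtype (QuotientGroup.mk' Q)
    (by rw [QuotientGroup.ker_mk', Subgroup.range_subtype])

/-- Reduction of a solubility criterion for nilpotent maximal subgroups to subgroups containing no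
nontrivial normal subgroup. -/
theorem isSolvable_of_coatom_of_step (R : ∀ (H : Type u) [Group H], Prop)
    (hR : ∀ (H K : Type u) [Group H] [Group K] (f : H →* K), Function.Surjective f → R H → R K)
    (hstep : ∀ (H : Type u) [Group H] [Finite H] (M : Subgroup H), IsCoatom M →
      Group.IsNilpotent M → R M → (∀ N : Subgroup H, N.Normal → N ≤ M → N = ⊥) →
      ∀ p : ℕ, ∀ [Fact p.Prime], ∀ P : Sylow p H, (P : Subgroup H) ≤ M → (P : Subgroup H) ≠ ⊥ →
        Subgroup.normalizer ((P : Subgroup H) : Set H) = M → Cfsg.HasNormalPComplement p H)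
    {M : Subgroup G} (hmax : IsCoatom M) (hnil : Group.IsNilpotent M) (hM : R M) :
    Group.IsSolvable G := by
  suffices main : ∀ (n : ℕ) (G : Type u) [Group G] [Finite G] (M : Subgroup G), Nat.card G = n →
      IsCoatom M → Group.IsNilpotent M → R M → Group.IsSolvable G from main _ G M rfl hmax hnil hM
  intro n
  induction n using Nat.strong_induction_on with
  | _ n ih =>
    intro G _ _ M hn hmax hnil hM
    by_cases hcore : ∀ N : Subgroup G, N.Normal → N ≤ M → N = ⊥
    · exact isSolvable_of_npc hmax hnil hcore (hstep G M hmax hnil hM hcore)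
    simp only [not_forall, exists_prop] at hcore
    obtain ⟨N, hNn, hNM, hNb⟩ := hcore
    haveI := hNn
    haveI := hnil
    set π := QuotientGroup.mk' N
    have hπ : Function.Surjective π := QuotientGroup.mk'_surjective N
    have hcomap : (M.map π).comap π = M := by
      rw [Subgroup.comap_map_eq, QuotientGroup.ker_mk', sup_eq_left.mpr hNM]
    have hmax' : IsCoatom (M.map π) := by
      refine ⟨fun h => hmax.1 (by rw [← hcomap, h, Subgroup.comap_top]), fun b hb => ?_⟩
      have : M < b.comap π := by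
        rw [← hcomap]
        exact (Subgroup.comap_lt_comap_of_surjective hπ).mpr hb
      rw [← Subgroup.map_comap_eq_self_of_surjective hπ b, hmax.2 _ this,
        Subgroup.map_top_of_surjective _ hπ]
    have hsurj := π.subgroupMap_surjective M
    have hlt : Nat.card (G ⧸ N) < n := by
      rw [← hn, Subgroup.card_eq_card_quotient_mul_card_subgroup N]
      exact lt_mul_of_one_lt_right Nat.card_pos (N.one_lt_card_iff_ne_bot.mpr hNb)
    haveI : Group.IsSolvable (G ⧸ N) := ih _ hlt (G ⧸ N) (M.map π) rfl hmax'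
      (Group.nilpotent_of_surjective _ hsurj) (hR _ _ _ hsurj hM)
    haveI : Group.IsNilpotent N :=
      Group.nilpotent_of_mulEquiv (Subgroup.subgroupOfEquivOfLe hNM)
    exact Group.isSolvable_of_ker_le_range N.subtype π
      (by rw [QuotientGroup.ker_mk', Subgroup.range_subtype])

/-- Frobenius' criterion, when the Sylow normalisers are nilpotent maximal subgroups of class at
most `2` containing no nontrivial normal subgroup. -/
theorem hasNormalPComplement_of_class_two {p : ℕ} [Fact p.Prime]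
    (h : ∀ P : Sylow p G, IsCoatom (Subgroup.normalizer ((P : Subgroup G) : Set G)) ∧
      Group.IsNilpotent (Subgroup.normalizer ((P : Subgroup G) : Set G)) ∧
      (∀ x y z : G, x ∈ Subgroup.normalizer ((P : Subgroup G) : Set G) →
        y ∈ Subgroup.normalizer ((P : Subgroup G) : Set G) →
        z ∈ Subgroup.normalizer ((P : Subgroup G) : Set G) → Commute (x * y * x⁻¹ * y⁻¹) z) ∧
      ∀ N : Subgroup G, N.Normal → N ≤ Subgroup.normalizer ((P : Subgroup G) : Set G) → N = ⊥) :
    Cfsg.HasNormalPComplement p G := by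
  suffices main : ∀ (n : ℕ) (Q : Subgroup G), IsPGroup p Q → Nat.card G ≤ n + Nat.card Q →
      ∀ g ∈ Subgroup.normalizer (Q : Set G), Nat.Coprime (orderOf g) p →
        g ∈ Subgroup.centralizer (Q : Set G) from
    Transfer.hasNormalPComplement_of_frobenius default fun Q hQ => main (Nat.card G) Q
      ((default : Sylow p G).2.to_le hQ) (Nat.le_add_right _ _)
  intro n
  induction n using Nat.strong_induction_on with
  | _ n ih =>
    intro Q hQ hn g hg hgo
    rcases eq_or_ne Q ⊥ with rfl | hQb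
    · intro x hx
      rw [SetLike.mem_coe, Subgroup.mem_bot] at hx
      simp [hx]
    set NN := Subgroup.normalizer (Q : Set G) with hNN
    set Q0 := Q.subgroupOf NN
    set C0 := (Subgroup.centralizer (Q : Set G)).subgroupOf NN
    haveI : Q0.Normal := Subgroup.normal_in_normalizer
    haveI : C0.Normal := inferInstance
    let D := Q0 ⊔ C0
    haveI : D.Normal := Subgroup.sup_normal Q0 C0
    have hQ0 : IsPGroup p Q0 :=
      hQ.of_equiv (Subgroup.subgroupOfEquivOfLe Subgroup.le_normalizer).symm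
    let R0 : Sylow p D := default
    set R := (R0 : Subgroup D).map D.subtype with hR
    have hRp : IsPGroup p R := R0.2.map _
    have hQR : Q0 ≤ R := by
      haveI : (Q0.subgroupOf D).Normal := ‹Q0.Normal›.subgroupOf _
      have hQD : IsPGroup p (Q0.subgroupOf D) :=
        hQ0.of_equiv (Subgroup.subgroupOfEquivOfLe (le_sup_left : Q0 ≤ D)).symm
      have h1 : Q0.subgroupOf D ≤ (R0 : Subgroup D) := by
        obtain ⟨S, hS⟩ := hQD.exists_le_sylow
        obtain ⟨m, hm⟩ := MulAction.exists_smul_eq D S R0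
        rw [← hm]
        intro x hx
        rw [Sylow.coe_subgroup_smul]
        have h2 := ‹(Q0.subgroupOf D).Normal›.conj_mem x hx m⁻¹
        have h3 := Subgroup.smul_mem_pointwise_smul _ (MulAut.conj m) _ (hS h2)
        simpa [MulAut.smul_def, mul_assoc] using h3
      intro x hx
      exact ⟨⟨x, le_sup_left (a := Q0) hx⟩, h1 hx, rfl⟩
    have hfr : Subgroup.normalizer (R : Set NN) ⊔ D = ⊤ := Sylow.normalizer_sup_eq_top R0
    set RG := R.map NN.subtype with hRG
    have hQRG : Q ≤ RG := fun x hx => ⟨⟨x, Subgroup.le_normalizer hx⟩, hQR hx, rfl⟩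
    rcases eq_or_ne Q RG with hQeq | hQne
    · -- then `Q` contains `C_P(Q)`
      obtain ⟨T, hT⟩ := hRp.exists_le_sylow
      obtain ⟨P, hP⟩ := (T.2.map NN.subtype).exists_le_sylow
      have hPC : ∀ c ∈ (P : Subgroup G), c ∈ Subgroup.centralizer (Q : Set G) → c ∈ Q := by
        intro c hcP hcC
        have hcN : c ∈ NN := Subgroup.centralizer_le_normalizer _ hcC
        have h2 : ((P : Subgroup G) ⊓ NN).subgroupOf NN = (T : Subgroup NN) :=
          T.3 ((P.2.to_le inf_le_left).of_equiv (Subgroup.subgroupOfEquivOfLe inf_le_right).symm)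
            (fun y hy => ⟨hP ⟨y, hy, rfl⟩, y.2⟩)
        have hcT : (⟨c, hcN⟩ : NN) ∈ (T : Subgroup NN) := h2 ▸ ⟨hcP, hcN⟩
        have hcD : (⟨c, hcN⟩ : NN) ∈ D := le_sup_right (a := Q0) hcC
        have h3 : ((T : Subgroup NN) ⊓ D).subgroupOf D = (R0 : Subgroup D) :=
          R0.3 ((T.2.to_le inf_le_left).of_equiv (Subgroup.subgroupOfEquivOfLe inf_le_right).symm)
            (fun y hy => ⟨hT ⟨y, hy, rfl⟩, y.2⟩)
        have : (⟨c, hcN⟩ : NN) ∈ R := ⟨⟨_, hcD⟩, h3 ▸ ⟨hcT, hcD⟩, rfl⟩
        rw [hQeq]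
        exact ⟨_, this, rfl⟩
      obtain ⟨hmax, hnil, hcl, hcore⟩ := h P
      set MP := Subgroup.normalizer ((P : Subgroup G) : Set G) with hMP
      have hQP : Q ≤ (P : Subgroup G) := by
        rw [hQeq]
        exact le_trans (Subgroup.map_mono hT) hP
      have hPM : (P : Subgroup G) ≤ MP := Subgroup.le_normalizer
      have hMN : MP ≤ NN := by
        have key : ∀ x ∈ MP, ∀ y ∈ Q, x * y * x⁻¹ ∈ Q := by
          intro x hx y hy
          have hcP : x * y * x⁻¹ * y⁻¹ ∈ (P : Subgroup G) := by
            exact mul_mem ((Subgroup.mem_normalizer_iff.mp hx y).mp (hQP hy)) (inv_mem (hQP hy))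
          have hcC : x * y * x⁻¹ * y⁻¹ ∈ Subgroup.centralizer (Q : Set G) := fun z hz =>
            ((hcl x y z hx (hPM (hQP hy)) (hPM (hQP hz))).eq).symm
          have := mul_mem (hPC _ hcP hcC) hy
          rwa [inv_mul_cancel_right] at this
        intro x hx
        rw [hNN, Subgroup.mem_normalizer_iff]
        refine fun y => ⟨key x hx y, fun hy => ?_⟩
        have := key x⁻¹ (inv_mem hx) _ hy
        simpa [mul_assoc] using this
      have hNM : NN = MP := by
        refine (hmax.le_iff.mp hMN).resolve_left fun htop => hQb ?_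
        exact hcore Q (Subgroup.normalizer_eq_top_iff.mp htop) (hQP.trans hPM)
      haveI := hnil
      haveI : (Q.subgroupOf MP).Normal := by
        rw [← hNM]; exact Subgroup.normal_in_normalizer
      have hgM : g ∈ MP := hNM ▸ hg
      have := Transfer.commute_of_hasNormalPComplement
        (Solvable.FixedPointFree.hasNormalPComplement_of_isNilpotent p)
        (hQ.of_equiv (Subgroup.subgroupOfEquivOfLe (hQP.trans hPM)).symm)
        (g := (⟨g, hgM⟩ : MP)) (by rw [Subgroup.orderOf_mk]; exact hgo)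
      intro x hx
      exact congrArg Subtype.val (this ⟨x, hPM (hQP hx)⟩ hx)
    · have hlt : Nat.card Q < Nat.card RG :=
        Set.Finite.card_lt_card (Set.toFinite _) (SetLike.coe_ssubset_coe.mpr (lt_of_le_of_ne hQRG hQne))
      have hle : Nat.card RG ≤ Nat.card G := Subgroup.card_le_card_group _
      have hIH := ih (Nat.card G - Nat.card RG) (by omega) RG (hRp.map _) (by omega)
      -- `N(R)` covers `N / C`, so the latter is a `p`-group
      set π := QuotientGroup.mk' C0
      have hsurj : ∀ x : NN ⧸ C0, ∃ y ∈ Subgroup.normalizer (R : Set NN), π y = x := by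
        intro x
        obtain ⟨z, rfl⟩ := QuotientGroup.mk_surjective x
        obtain ⟨a, ha, d, hd, rfl⟩ :=
          Subgroup.mem_sup_of_normal_right.mp (hfr.ge (Subgroup.mem_top z))
        obtain ⟨q, hq, c, hc, rfl⟩ := Subgroup.mem_sup_of_normal_right.mp hd
        refine ⟨a * q, mul_mem ha (Subgroup.le_normalizer (hQR hq)), ?_⟩
        show π (a * q) = π (a * (q * c))
        rw [map_mul, map_mul, map_mul, show π c = 1 from (QuotientGroup.eq_one_iff c).mpr hc, mul_one]
      have hpgrp : ∀ x : NN ⧸ C0, ∃ k : ℕ, x ^ p ^ k = 1 := by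
        intro x
        obtain ⟨y, hy, rfl⟩ := hsurj x
        obtain ⟨a, b, ha, -, hao, ⟨k, hk⟩, rfl⟩ := Transfer.exists_pPart_decomp (p := p) y
        have haR : a ∈ Subgroup.normalizer (R : Set NN) := Subgroup.zpowers_le.mpr hy ha
        have haC : π a = 1 := by
          refine (QuotientGroup.eq_one_iff a).mpr fun z hz => hIH (a : G) ?_ ?_ z (hQRG hz)
          · exact Subgroup.le_normalizer_map NN.subtype ⟨a, haR, rfl⟩
          · rw [Subgroup.orderOf_coe]; exact hao
        refine ⟨k, ?_⟩
        rw [map_mul, haC, one_mul, ← map_pow, ← hk, pow_orderOf_eq_one, map_one]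
      obtain ⟨k, hk⟩ := hpgrp (π ⟨g, hg⟩)
      have h1 : orderOf (π ⟨g, hg⟩) ∣ p ^ k := orderOf_dvd_of_pow_eq_one hk
      have h2 : orderOf (π ⟨g, hg⟩) ∣ orderOf g := by
        rw [← Subgroup.orderOf_mk (a := g) hg]; exact orderOf_map_dvd π _
      have h3 : orderOf (π ⟨g, hg⟩) = 1 :=
        Nat.dvd_one.mp ((hgo.pow_right k).symm.gcd_eq_one ▸ Nat.dvd_gcd h1 h2)
      exact (QuotientGroup.eq_one_iff (N := C0) (⟨g, hg⟩ : NN)).mp (orderOf_eq_one_iff.mp h3)

end Cfsg.Agent.Lib.Frobenius
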