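import Cfsg.Agent.Lib.Perm.Jordan
import Cfsg.Agent.Lib.Involutions.Counting
import Mathlib.GroupTheory.GroupAction.Jordan
import Mathlib.GroupTheory.Transfer
import Mathlib.GroupTheory.SpecificGroups.Alternating.Simple
import Mathlib.Tactic

/-!
Permutation groups generated by two elements of large prime order.
-/

set_option autoImplicit false
set_option linter.style.haveILetI false
set_option linter.unusedSectionVars false

open MulAction Equiv.Perm
open scoped Pointwise

namespace Cfsg.Agent.Lib.Frobenius.PairGenerated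

variable {α : Type*} [Fintype α] [DecidableEq α]

theorem odd_gen_card_ne {G : Type*} [Group G] [Finite G] {a b : G} (hgen : Subgroup.closure {a, b} = ⊤)
    (ha : Odd (orderOf a)) (hb : Odd (orderOf b)) {c : ℕ} (hc : Odd c) : Nat.card G ≠ 2 * c := by
  intro h
  haveI : Fact (Nat.Prime 2) := ⟨Nat.prime_two⟩
  obtain ⟨T⟩ : Nonempty (Sylow 2 G) := inferInstance
  have hT : Nat.card T = 2 := by
    obtain ⟨k, hk⟩ := hc
    rw [T.card_eq_multiplicity, h, Nat.factorization_mul (by norm_num) (by omega), Finsupp.add_apply,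
      Nat.prime_two.factorization_self, Nat.factorization_eq_zero_of_not_dvd (by omega)]
    rfl
  obtain ⟨H, hH⟩ := Involutions.exists_index_two_of_cyclic_sylow (G := G)
    (by rw [h]; exact even_two_mul c) T (isCyclic_of_prime_card (p := 2) hT)
  have hmem : ∀ g : G, Odd (orderOf g) → g ∈ H := fun g hg => by
    obtain ⟨k, hk⟩ := hg
    have h1 : g = ((g ^ (k + 1)) ^ 2) := by
      rw [← pow_mul, show (k + 1) * 2 = orderOf g + 1 by omega, pow_succ, pow_orderOf_eq_one, one_mul]
    rw [h1]
    exact Subgroup.sq_mem_of_index_two hH _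
  have htop : H = ⊤ := eq_top_iff.mpr (hgen ▸ (Subgroup.closure_le H).mpr (Set.insert_subset_iff.mpr
    ⟨hmem a ha, Set.singleton_subset_iff.mpr (hmem b hb)⟩))
  rw [htop, Subgroup.index_top] at hH
  omega

/-- The orbit-stabiliser step for subgroups of a symmetric group. -/
theorem card_step (G : Subgroup (Equiv.Perm α)) (x : α) (T : Finset α)
    (h1 : ∀ g ∈ G, g x ∈ T) (h2 : ∀ y ∈ T, ∃ g ∈ G, g x = y) :
    Nat.card G = T.card * Nat.card ↥(G ⊓ stabilizer (Equiv.Perm α) x) := by
  have hmap : (stabilizer G x).map G.subtype = G ⊓ stabilizer (Equiv.Perm α) x := by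
    ext g
    simp only [Subgroup.mem_map, Subgroup.mem_inf, mem_stabilizer_iff]
    constructor
    · rintro ⟨⟨g, hg⟩, h, rfl⟩
      exact ⟨hg, h⟩
    · rintro ⟨hg, h⟩
      exact ⟨⟨g, hg⟩, h, rfl⟩
  rw [← hmap, Subgroup.card_map_of_injective G.subtype_injective, ← (stabilizer G x).index_mul_card,
    index_stabilizer]
  congr 1
  rw [← Set.ncard_coe_finset]
  congr 1
  ext y
  simp only [mem_orbit_iff, Finset.mem_coe]
  constructor
  · rintro ⟨⟨g, hg⟩, rfl⟩
    exact h1 g hg
  · intro hy
    obtain ⟨g, hg, rfl⟩ := h2 y hy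
    exact ⟨⟨g, hg⟩, rfl⟩

theorem ap_inv (g : Equiv.Perm α) (x : α) : g (g⁻¹ x) = x := g.apply_symm_apply x

theorem eq_of_not_mem_support {g : Equiv.Perm α} {x : α} (h : x ∉ g.support) : g x = x :=
  notMem_support.mp h

theorem zpow_ne_self {g : Equiv.Perm α} {x : α} (hx : g x ≠ x) (k : ℤ) :
    g ((g ^ k) x) ≠ (g ^ k) x := by
  intro h
  apply hx
  apply (g ^ k).injective
  rw [← mul_apply, (Commute.zpow_self g k).eq, mul_apply, h]

/-- A permutation of prime order has support divisible by that prime. -/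
theorem dvd_card_support {g : Equiv.Perm α} {s : ℕ} (hs : s.Prime) (hg : g ^ s = 1) :
    s ∣ g.support.card := by
  rw [← sum_cycleType]
  refine Multiset.dvd_sum fun n hn => ?_
  rcases (Nat.dvd_prime hs).mp ((dvd_of_mem_cycleType hn).trans (orderOf_dvd_of_pow_eq_one hg)) with h | h
  · exact absurd h (two_le_of_mem_cycleType hn |> fun h2 => by omega)
  · exact h ▸ dvd_rfl

theorem dvd_card_support_pow {g : Equiv.Perm α} {s e : ℕ} (hs : s.Prime) (hg : orderOf g = s ^ e) :
    s ∣ g.support.card := by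
  rw [← sum_cycleType]
  refine Multiset.dvd_sum fun n hn => ?_
  obtain ⟨i, -, hi⟩ := (Nat.dvd_prime_pow hs).mp (hg ▸ dvd_of_mem_cycleType hn)
  have := two_le_of_mem_cycleType hn
  subst hi
  exact dvd_pow_self s (by rintro rfl; simp at this)

/-- Two permutations of large prime order generate a primitive group on their supports. -/
theorem primitive_pair {a b : Equiv.Perm α} {p q : ℕ} (hp : p.Prime) (hq : q.Prime)
    (ha : orderOf a = p) (hbc : b.IsCycle) (hb : b.support.card = q)
    (hcov : ∀ x, a x ≠ x ∨ b x ≠ x) (hd : Fintype.card α < 2 * q) (hpq : Fintype.card α < p + q) :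
    IsPreprimitive (Subgroup.closure ({a, b} : Set (Equiv.Perm α))) α := by
  classical
  set K := Subgroup.closure ({a, b} : Set (Equiv.Perm α))
  have haK : a ∈ K := Subgroup.subset_closure (by simp)
  have hbK : b ∈ K := Subgroup.subset_closure (by simp)
  obtain ⟨v, hv⟩ := Finset.card_pos.mp (hb ▸ hq.pos : 0 < b.support.card)
  have hreach : ∀ x, ∃ g ∈ K, g x ∈ b.support := by
    intro x
    by_cases hx : b x = x
    · have hax : a x ≠ x := (hcov x).resolve_right (fun h => h hx)
      by_contra hno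
      push Not at hno
      have hsub : (a.cycleOf x).support ⊆ b.supportᶜ := by
        intro y hy
        obtain ⟨i, rfl⟩ := ((mem_support_cycleOf_iff).mp hy).1
        exact Finset.mem_compl.mpr (hno _ (zpow_mem haK i))
      have h2 := Finset.card_le_card hsub
      have h3 : (a.cycleOf x).support.card = p := by
        have hc : (a.cycleOf x).IsCycle := isCycle_cycleOf a hax
        rw [← hc.orderOf]
        exact ((Nat.dvd_prime hp).mp (ha ▸ orderOf_cycleOf_dvd_orderOf a x)).resolve_left
          (fun h => hc.ne_one (orderOf_eq_one_iff.mp h))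
      rw [h3, Finset.card_compl, hb] at h2
      have := hp.two_le; omega
    · exact ⟨1, one_mem _, by simpa using hx⟩
  have htr : IsPretransitive K α := by
    refine ⟨fun x y => ?_⟩
    obtain ⟨g, hg, hgx⟩ := hreach x
    obtain ⟨k, hk, hky⟩ := hreach y
    obtain ⟨i, hi⟩ := hbc.sameCycle (mem_support.mp hgx) (mem_support.mp hky)
    refine ⟨⟨k⁻¹ * b ^ i * g, mul_mem (mul_mem (inv_mem hk) (zpow_mem hbK i)) hg⟩, ?_⟩
    show (k⁻¹ * b ^ i * g) x = y
    rw [mul_apply, mul_apply, hi]
    simp
  refine IsPreprimitive.of_isTrivialBlock_base v fun {B} hvB hB => ?_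
  have hsize := hB.ncard_block_mul_ncard_orbit_eq (G := K) ⟨v, hvB⟩
  rw [Nat.card_eq_fintype_card] at hsize
  have hBpos : 0 < B.ncard := (Set.ncard_pos).mpr ⟨v, hvB⟩
  set β : K := ⟨b, hbK⟩
  by_cases hfix : β • B = B
  · have hsub : (b.support : Set α) ⊆ B := by
      intro x hx
      obtain ⟨i, rfl⟩ := hbc.sameCycle (mem_support.mp hv) (mem_support.mp hx)
      have hi : β ^ i • B = B := by
        have : β ^ i ∈ stabilizer K B := zpow_mem (mem_stabilizer_iff.mpr hfix) i
        exact this
      rw [← hi]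
      exact ⟨v, hvB, by simp [β, Subgroup.smul_def]⟩
    have h1 := Set.ncard_le_ncard hsub
    rw [Set.ncard_coe_finset, hb] at h1
    refine Or.inr (Set.eq_of_subset_of_ncard_le (Set.subset_univ B) ?_)
    rw [Set.ncard_univ, Nat.card_eq_fintype_card]
    rcases Nat.lt_or_ge 1 (orbit K B).ncard with h | h
    · have := Nat.mul_le_mul (le_refl B.ncard) h; omega
    · have := Nat.mul_le_mul (le_refl B.ncard) h; omega
  · have hone : ∀ i : ℕ, 0 < i → i < q → β ^ i • B ≠ B := by
      intro i hi hiq he
      have hcop : Nat.Coprime i (orderOf b) := by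
        rw [hbc.orderOf, hb]
        exact ((hq.coprime_iff_not_dvd).mpr fun h => by have := Nat.le_of_dvd hi h; omega).symm
      obtain ⟨k, hk⟩ := exists_pow_eq_self_of_coprime hcop
      apply hfix
      have hb' : β = (β ^ i) ^ k := Subtype.ext (by simpa [β] using hk.symm)
      rw [hb']
      have : (β ^ i) ^ k ∈ stabilizer K B := pow_mem (mem_stabilizer_iff.mpr he) k
      exact this
    have hinj : Set.InjOn (fun i : ℕ => β ^ i • B) (Finset.range q : Set ℕ) := by
      have key : ∀ i j : ℕ, j < q → i ≤ j → β ^ i • B = β ^ j • B → i = j := by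
        intro i j hj hij h
        by_contra hne
        refine hone (j - i) (by omega) (by omega) ?_
        have h' : β ^ i • (β ^ (j - i) • B) = β ^ i • B := by
          rw [← mul_smul, ← pow_add, Nat.add_sub_cancel' hij, ← h]
        exact smul_left_cancel _ h'
      intro i hi j hj h
      simp only [Finset.coe_range, Set.mem_Iio] at hi hj
      rcases le_total i j with h' | h'
      · exact key i j hj h' h
      · exact (key j i hi h' h.symm).symm
    have hq' : q ≤ (orbit K B).ncard := by
      rw [← Finset.card_range q, ← Set.ncard_coe_finset, ← Set.ncard_image_of_injOn hinj]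
      refine Set.ncard_le_ncard ?_ (Set.toFinite _)
      rintro _ ⟨i, -, rfl⟩
      exact mem_orbit _ _
    refine Or.inl (Set.ncard_le_one_iff_subsingleton.mp ?_)
    by_contra h
    have := Nat.mul_le_mul (show 2 ≤ B.ncard by omega) hq'
    omega

/-- A permutation commuting with a cycle and fixing the points outside it is a power of it. -/
theorem mem_zpowers_of_commute {a g : Equiv.Perm α} (ha : a.IsCycle) (hga : Commute g a)
    (hfix : ∀ x, a x = x → g x = x) : g ∈ Subgroup.zpowers a := by
  obtain ⟨z, hz⟩ := Finset.card_pos.mp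
    (lt_of_lt_of_le two_pos ha.two_le_card_support : 0 < a.support.card)
  have hgz : a (g z) ≠ g z := fun h => mem_support.mp hz (g.injective (by
    rw [← mul_apply, hga.eq, mul_apply, h]))
  obtain ⟨i, hi⟩ := ha.sameCycle (mem_support.mp hz) hgz
  refine Subgroup.mem_zpowers_iff.mpr ⟨i, ?_⟩
  ext x
  by_cases hx : a x = x
  · rw [hfix x hx]
    exact notMem_support.mp fun h => (mem_support.mp (support_zpow_le a i h)) hx
  · obtain ⟨k, rfl⟩ := ha.sameCycle (mem_support.mp hz) hx
    conv_rhs => rw [← mul_apply, (hga.zpow_right k).eq, mul_apply, ← hi, ← mul_apply]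
    rw [← mul_apply, ← zpow_add, ← zpow_add, add_comm]

section Twin

variable (K : Subgroup (Equiv.Perm α))

/-- The structure of a transitive group of prime degree `q` containing a cycle of length `q - 2`. -/
structure Twin (q : ℕ) (a : Equiv.Perm α) (u v : α) : Prop where
  card : Fintype.card α = q
  prime : q.Prime
  five : 5 ≤ q
  mem : a ∈ K
  cyc : a.IsCycle
  supp : a.support.card + 2 = q
  ne : u ≠ v
  fixu : a u = u
  fixv : a v = v
  trans : ∀ x y, ∃ g ∈ K, g x = y

variable {K} {q : ℕ} {a : Equiv.Perm α} {u v : α}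

theorem Twin.moved (T : Twin K q a u v) {x : α} (hu : x ≠ u) (hv : x ≠ v) : a x ≠ x := by
  intro h
  have hsub : ({u, v, x} : Finset α) ⊆ a.supportᶜ := by
    intro y hy
    simp only [Finset.mem_insert, Finset.mem_singleton] at hy
    rcases hy with rfl | rfl | rfl <;> simp [T.fixu, T.fixv, h]
  have h1 := Finset.card_le_card hsub
  rw [Finset.card_eq_three.mpr ⟨u, v, x, T.ne, Ne.symm hu, Ne.symm hv, rfl⟩, Finset.card_compl,
    T.card] at h1
  have := T.supp
  omega

theorem Twin.trans_u (T : Twin K q a u v) {y : α} (hy : y ≠ u) : ∃ g ∈ K, g u = u ∧ g v = y := by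
  classical
  haveI : IsPretransitive K α := ⟨fun x y => by
    obtain ⟨g, hg, h⟩ := T.trans x y; exact ⟨⟨g, hg⟩, h⟩⟩
  have hmove : ∃ g ∈ K, g u = u ∧ g v ≠ v := by
    by_contra hno
    push Not at hno
    haveI : IsPreprimitive K α := IsPreprimitive.of_prime_card
      (by rw [Nat.card_eq_fintype_card, T.card]; exact T.prime)
    haveI : Nontrivial α := ⟨u, v, T.ne⟩
    have hle : stabilizer K u ≤ stabilizer K v := fun g hg => hno g.1 g.2 hg
    rcases eq_or_lt_of_le hle with he | hlt
    · obtain ⟨g, hg, hguv⟩ := T.trans u v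
      have hgnot : (⟨g, hg⟩ : K) ∉ stabilizer K u := fun h => T.ne ((h : g u = u).symm.trans hguv)
      have hnorm : (⟨g, hg⟩ : K) ∈ Subgroup.normalizer (stabilizer K u : Set K) := by
        rw [Subgroup.mem_normalizer_iff]
        intro k
        conv_rhs => rw [he]
        simp only [mem_stabilizer_iff, Subgroup.smul_def, Subgroup.coe_mul, Subgroup.coe_inv,
          Equiv.Perm.smul_def, mul_apply]
        constructor
        · intro h
          have : g⁻¹ v = u := by rw [← hguv]; simp
          rw [this, h, hguv]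
        · intro h
          have : g⁻¹ v = u := by rw [← hguv]; simp
          rw [this, ← hguv] at h
          exact g.injective h
      have hco := IsPreprimitive.isCoatom_stabilizer_of_isPreprimitive K u
      have htop : Subgroup.normalizer (stabilizer K u : Set K) = ⊤ :=
        hco.2 _ (lt_of_le_of_ne Subgroup.le_normalizer fun h => hgnot (h ▸ hnorm))
      haveI := Subgroup.normalizer_eq_top_iff.mp htop
      apply T.cyc.ne_one
      ext x
      obtain ⟨k, hk, hku⟩ := T.trans u x
      have hmem : (⟨k, hk⟩ : K)⁻¹ * ⟨a, T.mem⟩ * ⟨k, hk⟩ ∈ stabilizer K u := by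
        have := Subgroup.Normal.conj_mem inferInstance (⟨a, T.mem⟩ : K)
          (show (⟨a, T.mem⟩ : K) ∈ stabilizer K u from T.fixu) (⟨k, hk⟩ : K)⁻¹
        rwa [inv_inv] at this
      have h' : (k⁻¹ * a * k) u = u := hmem
      rw [mul_apply, mul_apply, hku, inv_eq_iff_eq, hku] at h'
      rw [h', one_apply]
    · exact (IsPreprimitive.isCoatom_stabilizer_of_isPreprimitive K v).1
        ((IsPreprimitive.isCoatom_stabilizer_of_isPreprimitive K u).2 _ hlt)
  obtain ⟨g, hg, hgu, hgv⟩ := hmove
  have hgm : a (g v) ≠ g v := T.moved (fun h => T.ne (g.injective (hgu.trans h.symm))) hgv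
  by_cases hyv : y = v
  · exact ⟨1, one_mem _, rfl, hyv.symm⟩
  · obtain ⟨i, hi⟩ := T.cyc.sameCycle hgm (T.moved hy hyv)
    refine ⟨a ^ i * g, mul_mem (zpow_mem T.mem i) hg, ?_, by rw [mul_apply, hi]⟩
    rw [mul_apply, hgu]
    exact notMem_support.mp fun h => (mem_support.mp (support_zpow_le a i h)) T.fixu

theorem Twin.trans_uv (T : Twin K q a u v) {x y : α} (hx : x ≠ u ∧ x ≠ v) (hy : y ≠ u ∧ y ≠ v) :
    ∃ g ∈ K, g u = u ∧ g v = v ∧ g x = y := by
  obtain ⟨i, hi⟩ := T.cyc.sameCycle (T.moved hx.1 hx.2) (T.moved hy.1 hy.2)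
  exact ⟨a ^ i, zpow_mem T.mem i,
    notMem_support.mp fun h => (mem_support.mp (support_zpow_le a i h)) T.fixu,
    notMem_support.mp fun h => (mem_support.mp (support_zpow_le a i h)) T.fixv, hi⟩

/-- Three-fold transitivity. -/
theorem Twin.trans_three (T : Twin K q a u v) {w x y z : α} (hw : w ≠ u ∧ w ≠ v) (hxy : x ≠ y)
    (hxz : x ≠ z) (hyz : y ≠ z) : ∃ g ∈ K, g u = x ∧ g v = y ∧ g w = z := by
  obtain ⟨g1, h1, h1u⟩ := T.trans u x
  obtain ⟨g2, h2, h2u, h2v⟩ := T.trans_u (y := g1⁻¹ y) fun h => hxy (by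
    rw [← h1u, ← h]; simp)
  obtain ⟨g3, h3, h3u, h3v, h3w⟩ := T.trans_uv hw (y := (g1 * g2)⁻¹ z) ⟨fun h => hxz (by
      have h' := congrArg (g1 * g2) h
      simp only [ap_inv] at h'
      rw [h', mul_apply, h2u, h1u]), fun h => hyz (by
      have h' := congrArg (g1 * g2) h
      simp only [ap_inv] at h'
      rw [h', mul_apply, h2v, ap_inv])⟩
  refine ⟨g1 * g2 * g3, mul_mem (mul_mem h1 h2) h3, ?_, ?_, ?_⟩
  · rw [mul_apply, h3u, mul_apply, h2u, h1u]
  · rw [mul_apply, h3v, mul_apply, h2v, ap_inv]
  · rw [mul_apply, h3w, ap_inv]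

/-- The fixers of two and of three points. -/
def fix2 (K : Subgroup (Equiv.Perm α)) (u v : α) : Subgroup (Equiv.Perm α) :=
  K ⊓ stabilizer (Equiv.Perm α) u ⊓ stabilizer (Equiv.Perm α) v

theorem Twin.card_fix (T : Twin K q a u v) {w : α} (hw : w ≠ u ∧ w ≠ v) :
    Nat.card K = q * Nat.card ↥(K ⊓ stabilizer (Equiv.Perm α) u) ∧
    Nat.card ↥(K ⊓ stabilizer (Equiv.Perm α) u) = (q - 1) * Nat.card ↥(fix2 K u v) ∧
    Nat.card ↥(fix2 K u v) = (q - 2) * Nat.card ↥(fix2 K u v ⊓ stabilizer (Equiv.Perm α) w) := by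
  refine ⟨?_, ?_, ?_⟩
  · have := card_step K u Finset.univ (fun _ _ => Finset.mem_univ _) fun y _ => T.trans u y
    rwa [Finset.card_univ, T.card] at this
  · have := card_step (K ⊓ stabilizer (Equiv.Perm α) u) v (Finset.univ.erase u)
      (fun g hg => Finset.mem_erase.mpr ⟨fun h => T.ne (g.injective ((hg.2 : g u = u).trans h.symm)),
        Finset.mem_univ _⟩)
      (fun y hy => by
        obtain ⟨g, hg, hgu, hgv⟩ := T.trans_u (Finset.mem_erase.mp hy).1
        exact ⟨g, ⟨hg, hgu⟩, hgv⟩)
    rwa [Finset.card_erase_of_mem (Finset.mem_univ _), Finset.card_univ, T.card] at this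
  · have := card_step (fix2 K u v) w ((Finset.univ.erase u).erase v)
      (fun g hg => by
        simp only [Finset.mem_erase, Finset.mem_univ, and_true]
        exact ⟨fun h => hw.2 (g.injective (h.trans (hg.2 : g v = v).symm)),
          fun h => hw.1 (g.injective (h.trans (hg.1.2 : g u = u).symm))⟩)
      (fun y hy => by
        simp only [Finset.mem_erase, Finset.mem_univ, and_true] at hy
        obtain ⟨g, hg, hgu, hgv, hgw⟩ := T.trans_uv hw ⟨hy.2, hy.1⟩
        exact ⟨g, ⟨⟨hg, hgu⟩, hgv⟩, hgw⟩)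
    rwa [Finset.card_erase_of_mem (by simp [T.ne.symm]), Finset.card_erase_of_mem (Finset.mem_univ _),
      Finset.card_univ, T.card, show q - 1 - 1 = q - 2 by omega] at this

end Twin

section Degrees

variable {K : Subgroup (Equiv.Perm α)} {q : ℕ} {a : Equiv.Perm α} {u v : α}

/-- A proper subgroup of a simple group gives an embedding into the permutations of its cosets. -/
theorem coset_injective {G : Type*} [Group G] [hs : IsSimpleGroup G] {H : Subgroup G} (hH : H ≠ ⊤) :
    Function.Injective (MulAction.toPermHom G (G ⧸ H)) := by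
  rw [← MonoidHom.ker_eq_bot_iff]
  refine ((MonoidHom.normal_ker _).eq_bot_or_eq_top).resolve_right fun h => hH ?_
  rw [← Subgroup.normalCore_eq_ker] at h
  exact top_le_iff.mp (h.ge.trans H.normalCore_le)

theorem card_dvd_factorial {G : Type*} [Group G] [Finite G] [IsSimpleGroup G] {H : Subgroup G}
    (hH : H ≠ ⊤) : Nat.card G ∣ H.index.factorial := by
  classical
  haveI := Fintype.ofFinite (G ⧸ H)
  have h := Subgroup.card_dvd_of_injective _ (coset_injective hH)
  rwa [Nat.card_perm, ← Subgroup.index_eq_card] at h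

/-- Degree `7`: a `5`-cycle and a transitive action give the alternating group. -/
theorem Twin.seven (T : Twin K 7 a u v) (hK : K ≤ alternatingGroup α) {b : Equiv.Perm α}
    (hgen : K = Subgroup.closure {a, b}) (hbo : Odd (orderOf b)) : alternatingGroup α ≤ K := by
  haveI : IsPretransitive K α := ⟨fun x y => by
    obtain ⟨g, hg, h⟩ := T.trans x y; exact ⟨⟨g, hg⟩, h⟩⟩
  have hprim : IsPreprimitive K α :=
    IsPreprimitive.of_prime_card (by rw [Nat.card_eq_fintype_card, T.card]; exact T.prime)
  obtain ⟨w, hw⟩ := Finset.card_pos.mp (show 0 < a.support.card by have := T.supp; omega)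
  have hw' : w ≠ u ∧ w ≠ v := ⟨fun h => mem_support.mp hw (h ▸ T.fixu), fun h => mem_support.mp hw (h ▸ T.fixv)⟩
  obtain ⟨h1, h2, h3⟩ := T.card_fix hw'
  set M := fix2 K u v ⊓ stabilizer (Equiv.Perm α) w
  have hKcard : Nat.card K = 210 * Nat.card M := by rw [h1, h2, h3]; ring
  have hA : Nat.card (alternatingGroup α) = 2520 := by
    haveI : Nontrivial α := ⟨u, v, T.ne⟩
    rw [nat_card_alternatingGroup, Nat.card_eq_fintype_card, T.card]
    rfl
  have hdiv : Nat.card K ∣ 2520 := hA ▸ Subgroup.card_dvd_of_le hK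
  rw [hKcard] at hdiv
  have hM : Nat.card M ∣ 12 := Nat.dvd_of_mul_dvd_mul_left (by norm_num : 0 < 210) hdiv
  by_cases h3M : 3 ∣ Nat.card M
  · haveI : Fact (Nat.Prime 3) := ⟨Nat.prime_three⟩
    obtain ⟨⟨g, hg⟩, hgo⟩ := exists_prime_orderOf_dvd_card' (G := M) 3 h3M
    rw [Subgroup.orderOf_mk] at hgo
    obtain ⟨⟨⟨hgK, hgu⟩, hgv⟩, hgw⟩ := hg
    have hd := dvd_card_support Nat.prime_three (show g ^ 3 = 1 by rw [← hgo]; exact pow_orderOf_eq_one g)
    have hle : g.support.card ≤ 4 := by
      have hsub : g.support ⊆ Finset.univ \ {u, v, w} := fun y hy => by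
        simp only [Finset.mem_sdiff, Finset.mem_univ, true_and, Finset.mem_insert, Finset.mem_singleton]
        rintro (rfl | rfl | rfl)
        · exact mem_support.mp hy hgu
        · exact mem_support.mp hy hgv
        · exact mem_support.mp hy hgw
      have := Finset.card_le_card hsub
      rw [Finset.card_univ_diff, T.card, Finset.card_eq_three.mpr ⟨u, v, w, T.ne, hw'.1.symm, hw'.2.symm, rfl⟩] at this
      exact this
    have hne : g.support.card ≠ 0 := fun h => by
      rw [Finset.card_eq_zero, support_eq_empty_iff] at h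
      rw [h, orderOf_one] at hgo; norm_num at hgo
    exact alternatingGroup_le_of_isPreprimitive_of_isThreeCycle_mem hprim
      (card_support_eq_three_iff.mp (by omega)) hgK
  · haveI : IsSimpleGroup (alternatingGroup α) :=
      alternatingGroup.isSimpleGroup (by rw [Nat.card_eq_fintype_card, T.card]; norm_num)
    by_contra hne
    have hH : K.subgroupOf (alternatingGroup α) ≠ ⊤ := fun h => hne (Subgroup.subgroupOf_eq_top.mp h)
    have hidx := (K.subgroupOf (alternatingGroup α)).index_mul_card
    rw [Nat.card_congr (Subgroup.subgroupOfEquivOfLe hK).toEquiv, hA, hKcard] at hidx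
    have hfac := card_dvd_factorial hH
    rw [hA] at hfac
    have hcases : Nat.card M = 1 ∨ Nat.card M = 2 ∨ Nat.card M = 4 := by
      have hle := Nat.le_of_dvd (by norm_num) hM
      interval_cases h : Nat.card M <;> first | omega | (exfalso; revert hM h3M; decide)
    rcases hcases with h | h | h
    · rw [h, mul_one] at hKcard
      subst hgen
      set G := Subgroup.closure ({a, b} : Set (Equiv.Perm α))
      have ha : a ∈ G := Subgroup.subset_closure (by simp)
      have hb : b ∈ G := Subgroup.subset_closure (by simp)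
      refine odd_gen_card_ne (G := G) (a := ⟨a, ha⟩) (b := ⟨b, hb⟩) ?_ ?_ ?_ (c := 105) (by decide) hKcard
      · apply Subgroup.map_injective G.subtype_injective
        rw [MonoidHom.map_closure, Set.image_pair, ← MonoidHom.range_eq_map, Subgroup.range_subtype]
        rfl
      · rw [Subgroup.orderOf_mk, T.cyc.orderOf, show a.support.card = 5 by have := T.supp; omega]
        decide
      · rwa [Subgroup.orderOf_mk]
    · rw [h] at hidx
      rw [show (K.subgroupOf (alternatingGroup α)).index = 6 by omega] at hfac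
      revert hfac; decide
    · rw [h] at hidx
      rw [show (K.subgroupOf (alternatingGroup α)).index = 3 by omega] at hfac
      revert hfac; decide

/-- Degree `13`: an `11`-cycle and a transitive action give the alternating group. -/
theorem Twin.thirteen (T : Twin K 13 a u v) (hK : K ≤ alternatingGroup α) : alternatingGroup α ≤ K := by
  classical
  haveI : IsPretransitive K α := ⟨fun x y => by
    obtain ⟨g, hg, h⟩ := T.trans x y; exact ⟨⟨g, hg⟩, h⟩⟩
  have hprim : IsPreprimitive K α :=
    IsPreprimitive.of_prime_card (by rw [Nat.card_eq_fintype_card, T.card]; exact T.prime)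
  by_contra hnot
  have h5 : ∀ g ∈ K, g.IsCycle → g.support.card ≠ 5 := fun g hg hgc h5 => hnot
    (Perm.alternatingGroup_le_of_prime_cycle K hprim (by norm_num : Nat.Prime 5)
      (by rw [T.card]; norm_num) hgc h5 hg)
  have h3c : ∀ g ∈ K, g.support.card ≠ 3 := fun g hg h => hnot
    (alternatingGroup_le_of_isPreprimitive_of_isThreeCycle_mem hprim (card_support_eq_three_iff.mp h) hg)
  have ha11 : a.support.card = 11 := by have := T.supp; omega
  have hao : orderOf a = 11 := by rw [T.cyc.orderOf, ha11]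
  haveI h11 : Fact (Nat.Prime 11) := ⟨by norm_num⟩
  haveI : Fact (Nat.Prime 5) := ⟨by norm_num⟩
  obtain ⟨w0, hw0⟩ := Finset.card_pos.mp (show 0 < a.support.card by omega)
  set L := fix2 K u v with hLdef
  have hfixa : ∀ x, a x = x → x = u ∨ x = v := fun x hx => by
    by_contra h
    push Not at h
    exact T.moved h.1 h.2 hx
  have hpow : ∀ (g : Equiv.Perm α), g ∈ L → Commute g a → g ∈ Subgroup.zpowers a := fun g hg hc =>
    mem_zpowers_of_commute T.cyc hc fun x hx => by
      rcases hfixa x hx with rfl | rfl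
      · exact hg.1.2
      · exact hg.2
  have haL : a ∈ L := ⟨⟨T.mem, T.fixu⟩, T.fixv⟩
  have hw0' : w0 ≠ u ∧ w0 ≠ v :=
    ⟨fun h => mem_support.mp hw0 (h ▸ T.fixu), fun h => mem_support.mp hw0 (h ▸ T.fixv)⟩
  obtain ⟨hc1, hc2, hc3⟩ := T.card_fix hw0'
  set M0 := L ⊓ stabilizer (Equiv.Perm α) w0 with hM0
  have hnd : ∀ {s k : ℕ}, ¬ s ^ k ∣ (Nat.factorial 13) → ∀ G : Subgroup (Equiv.Perm α), ¬ s ^ k ∣ Nat.card G := by
    intro s k h G hd
    apply h
    have := hd.trans (Subgroup.card_subgroup_dvd_card G)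
    rwa [Nat.card_perm, Nat.card_eq_fintype_card, T.card] at this
  have h11M : ¬ 11 ∣ Nat.card M0 := by
    intro hd
    apply hnd (s := 11) (k := 2) (by decide) L
    rw [hc3]
    exact mul_dvd_mul_left 11 hd
  by_cases hcase : ∀ g ∈ L, (∃ i : ℤ, g * a * g⁻¹ = a ^ i) → g ∈ Subgroup.zpowers a
  · -- self-normalising Sylow subgroup
    have burnside : ∀ G : Subgroup (Equiv.Perm α), a ∈ G → (¬ 11 ^ 2 ∣ Nat.card G) →
        (∀ g ∈ G, (∃ i : ℤ, g * a * g⁻¹ = a ^ i) → g ∈ Subgroup.zpowers a) →
        ∃ H : Subgroup G, H.Normal ∧ H.index = 11 := by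
      intro G haG hG hnorm
      have hfac : (Nat.card G).factorization 11 = 1 := by
        refine le_antisymm ?_ (h11.out.factorization_pos_of_dvd Nat.card_pos.ne'
          (hao ▸ Subgroup.orderOf_mk (H := G) a haG ▸ orderOf_dvd_natCard _))
        by_contra hlt
        exact hG ((h11.out.pow_dvd_iff_le_factorization Nat.card_pos.ne').mpr (by omega))
      let Q : Sylow 11 G := Sylow.ofCard (Subgroup.zpowers (⟨a, haG⟩ : G))
        (by rw [Nat.card_zpowers, Subgroup.orderOf_mk, hao, hfac, pow_one])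
      have hQle : Subgroup.normalizer ((Q : Subgroup G) : Set G) ≤ Subgroup.centralizer ((Q : Subgroup G) : Set G) := by
        rintro ⟨g, hg⟩ hgN
        have hmem : (⟨g, hg⟩ : G) * ⟨a, haG⟩ * (⟨g, hg⟩ : G)⁻¹ ∈ Subgroup.zpowers (⟨a, haG⟩ : G) :=
          (Subgroup.mem_normalizer_iff.mp hgN ⟨a, haG⟩).mp (Subgroup.mem_zpowers _)
        obtain ⟨i, hi⟩ := Subgroup.mem_zpowers_iff.mp hmem
        have hi' : g * a * g⁻¹ = a ^ i := by simpa using (congrArg Subtype.val hi).symm
        obtain ⟨j, rfl⟩ := Subgroup.mem_zpowers_iff.mp (hnorm g hg ⟨i, hi'⟩)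
        intro x hx
        obtain ⟨k, rfl⟩ := Subgroup.mem_zpowers_iff.mp hx
        exact Subtype.ext (by simpa using (Commute.zpow_zpow_self a k j).eq)
      refine ⟨(MonoidHom.transferSylow Q hQle).ker, inferInstance, ?_⟩
      rw [(MonoidHom.ker_transferSylow_isComplement' Q hQle).symm.index_eq_card]
      show Nat.card (Subgroup.zpowers (⟨a, haG⟩ : G)) = 11
      rw [Nat.card_zpowers, Subgroup.orderOf_mk, hao]
    obtain ⟨H, hHn, hHi⟩ := burnside L haL (hnd (by decide) L) hcase
    set M' := M0.subgroupOf L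
    have hM'c : Nat.card M' = Nat.card M0 := Nat.card_congr (Subgroup.subgroupOfEquivOfLe inf_le_left).toEquiv
    have hle : M' ≤ H := by
      intro x hx
      have h1 : orderOf (QuotientGroup.mk' H x) ∣ 11 := hHi ▸ H.index_eq_card ▸ orderOf_dvd_natCard _
      have h2 : orderOf (QuotientGroup.mk' H x) ∣ Nat.card M' :=
        (orderOf_map_dvd _ x).trans (Subgroup.orderOf_mk (H := M') x hx ▸ orderOf_dvd_natCard _)
      rw [hM'c] at h2
      rw [← QuotientGroup.eq_one_iff, ← orderOf_eq_one_iff]
      exact ((Nat.dvd_prime h11.out).mp h1).resolve_right fun h => h11M (h ▸ h2)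
    have hMH : M' = H := Subgroup.eq_of_le_of_card_ge hle (le_of_eq (by
      have := H.index_mul_card
      rw [hHi, hc3] at this
      rw [hM'c]
      exact Nat.eq_of_mul_eq_mul_left (by norm_num) this))
    have hM0bot : ∀ g ∈ M0, g = 1 := by
      intro g hg
      ext x
      by_cases hx : x ≠ u ∧ x ≠ v
      · obtain ⟨k, hk, hku, hkv, hkw⟩ := T.trans_uv hw0' hx
        have hkL : k ∈ L := ⟨⟨hk, hku⟩, hkv⟩
        have hmem : (⟨k, hkL⟩ : L)⁻¹ * ⟨g, hg.1⟩ * ⟨k, hkL⟩ ∈ M' := by
          rw [hMH]
          have := hHn.conj_mem (⟨g, hg.1⟩ : L) (hMH ▸ (show (⟨g, hg.1⟩ : L) ∈ M' from hg)) (⟨k, hkL⟩ : L)⁻¹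
          simpa using this
        have h' : (k⁻¹ * g * k) w0 = w0 := hmem.2
        rw [mul_apply, mul_apply, hkw, inv_eq_iff_eq, hkw] at h'
        rw [h', one_apply]
      · by_cases hxu : x = u
        · rw [hxu, one_apply]; exact hg.1.1.2
        · rw [not_and, not_not] at hx
          rw [hx hxu, one_apply]; exact hg.1.2
    have hM01 : Nat.card M0 = 1 := Subgroup.card_eq_one.mpr ((Subgroup.eq_bot_iff_forall _).mpr hM0bot)
    have hKu : Nat.card ↥(K ⊓ stabilizer (Equiv.Perm α) u) = 132 := by rw [hc2, hc3, hM01]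
    set Ku := K ⊓ stabilizer (Equiv.Perm α) u
    have haKu : a ∈ Ku := ⟨T.mem, T.fixu⟩
    have hnormu : ∀ g ∈ Ku, (∃ i : ℤ, g * a * g⁻¹ = a ^ i) → g ∈ Subgroup.zpowers a := by
      rintro g ⟨hg, hgu⟩ ⟨i, hi⟩
      refine hcase g ⟨⟨hg, hgu⟩, ?_⟩ ⟨i, hi⟩
      have h1 : g (a v) = (g * a * g⁻¹) (g v) := by simp
      rw [T.fixv, hi] at h1
      show g v = v
      rcases hfixa (g v) (by
        have hne : a ^ i ≠ 1 := fun h0 => T.cyc.ne_one (conj_eq_one_iff.mp (hi.trans h0))
        by_contra hm
        have hs := T.cyc.support_pow_of_pos_of_lt_orderOf (n := (i % 11).toNat)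
        have hi0 : (i % 11).toNat ≠ 0 := fun h0 => hne (by
          rw [← zpow_mod_orderOf, hao]
          push_cast
          rw [show i % 11 = 0 by omega, zpow_zero])
        rw [hao] at hs
        have hs' := hs (by omega) (by omega)
        have hz : a ^ (i % 11).toNat = a ^ i := by
          rw [← zpow_natCast, Int.toNat_of_nonneg (Int.emod_nonneg _ (by norm_num)), ← zpow_mod_orderOf a i,
            hao]
          rfl
        rw [hz] at hs'
        exact mem_support.mp (hs' ▸ mem_support.mpr hm) h1.symm) with h | h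
      · exact absurd (g.injective (h.trans (hgu : g u = u).symm)) T.ne.symm
      · exact h
    obtain ⟨H2, hH2n, hH2i⟩ := burnside Ku haKu (hnd (by decide) Ku) hnormu
    have hH2c : Nat.card H2 = 12 := by
      have := H2.index_mul_card
      rw [hH2i, hKu] at this
      omega
    haveI : Fact (Nat.Prime 2) := ⟨Nat.prime_two⟩
    haveI : Fact (Nat.Prime 3) := ⟨Nat.prime_three⟩
    obtain ⟨⟨h, hh⟩, ho⟩ := exists_prime_orderOf_dvd_card' (G := H2) 2 (by rw [hH2c]; norm_num)
    obtain ⟨⟨h', hh'⟩, ho'⟩ := exists_prime_orderOf_dvd_card' (G := H2) 3 (by rw [hH2c]; norm_num)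
    rw [Subgroup.orderOf_mk] at ho ho'
    let A : Ku := ⟨a, haKu⟩
    have hAo : orderOf A = 11 := by rw [Subgroup.orderOf_mk, hao]
    have hne1 : h ≠ 1 := fun e => by rw [e, orderOf_one] at ho; norm_num at ho
    let f : Fin 11 → {x : H2 // x ≠ 1} := fun i =>
      ⟨⟨A ^ (i : ℕ) * h * (A ^ (i : ℕ))⁻¹, hH2n.conj_mem h hh _⟩, fun e => hne1
        (conj_eq_one_iff.mp (congrArg Subtype.val e))⟩
    have hf : Function.Injective f := by
      intro i j hij
      by_contra hne
      have hij' : A ^ (i : ℕ) * h * (A ^ (i : ℕ))⁻¹ = A ^ (j : ℕ) * h * (A ^ (j : ℕ))⁻¹ :=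
        congrArg (fun z : {x : H2 // x ≠ 1} => (z.1 : Ku)) hij
      have hcomm : Commute (A ^ ((j : ℤ) - i)) h := by
        have : A ^ ((j : ℤ) - i) * h * (A ^ ((j : ℤ) - i))⁻¹ = h := by
          rw [show A ^ ((j : ℤ) - i) = (A ^ (i : ℕ))⁻¹ * A ^ (j : ℕ) by
            rw [← zpow_natCast, ← zpow_natCast, ← zpow_neg, ← zpow_add]; congr 1; ring,
            show (A ^ (i : ℕ))⁻¹ * A ^ (j : ℕ) * h * ((A ^ (i : ℕ))⁻¹ * A ^ (j : ℕ))⁻¹ =
              (A ^ (i : ℕ))⁻¹ * (A ^ (j : ℕ) * h * (A ^ (j : ℕ))⁻¹) * A ^ (i : ℕ) by group, ← hij']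
          group
        exact mul_inv_eq_iff_eq_mul.mp this
      obtain ⟨k, hk⟩ : ∃ k : ℤ, (A ^ ((j : ℤ) - i)) ^ k = A := by
        have hcop : IsCoprime ((j : ℤ) - i) 11 := by
          rw [Int.isCoprime_iff_nat_coprime]
          refine ((Nat.Prime.coprime_iff_not_dvd (by norm_num)).mpr fun hd => ?_).symm
          have := Nat.le_of_dvd (Int.natAbs_pos.mpr (sub_ne_zero.mpr (by
            exact_mod_cast fun e : (j : ℕ) = i => hne (Fin.ext e.symm)))) hd
          omega
        obtain ⟨k, l, hkl⟩ := hcop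
        refine ⟨k, ?_⟩
        rw [← zpow_mul, show ((j : ℤ) - i) * k = 1 + 11 * (-l) by linarith, zpow_add, zpow_one, zpow_mul,
          show A ^ (11 : ℤ) = 1 from by
            rw [show (11 : ℤ) = ((11 : ℕ) : ℤ) from rfl, zpow_natCast, ← hAo, pow_orderOf_eq_one],
          one_zpow, mul_one]
      have hcA : Commute A h := hk ▸ hcomm.zpow_left k
      have hmem := hnormu (h : Equiv.Perm α) h.2 ⟨1, by
        have := congrArg Subtype.val hcA.symm.eq
        simp only [Subgroup.coe_mul] at this
        rw [zpow_one, mul_inv_eq_iff_eq_mul]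
        exact this⟩
      have h1 := orderOf_dvd_of_mem_zpowers hmem
      rw [Subgroup.orderOf_coe, ho, hao] at h1
      norm_num at h1
    have hcard : Nat.card {x : H2 // x ≠ 1} = 11 := by
      haveI := Fintype.ofFinite H2
      rw [Nat.card_eq_fintype_card, Fintype.card_subtype_compl, Fintype.card_subtype_eq,
        ← Nat.card_eq_fintype_card, hH2c]
    have hb := (Nat.bijective_iff_injective_and_card f).mpr ⟨hf, by rw [hcard, Nat.card_fin]⟩
    obtain ⟨i, hi⟩ := hb.2 ⟨⟨h', hh'⟩, fun e => by
      rw [show h' = 1 from congrArg Subtype.val e, orderOf_one] at ho'; norm_num at ho'⟩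
    have hi' : A ^ (i : ℕ) * h * (A ^ (i : ℕ))⁻¹ = h' := congrArg (fun z : {x : H2 // x ≠ 1} => (z.1 : Ku)) hi
    have hord : orderOf h' = orderOf h := by rw [← hi', ← MulAut.conj_apply, MulEquiv.orderOf_eq]
    omega
  · -- a prime order element normalising the cycle
    push Not at hcase
    obtain ⟨r0, hr0L, ⟨j0, hr0⟩, hr0n⟩ := hcase
    have conj_iter : ∀ (g x : Equiv.Perm α) (i : ℤ), g * x * g⁻¹ = x ^ i → ∀ n : ℕ,
        g ^ n * x * (g ^ n)⁻¹ = x ^ (i ^ n) := by
      intro g x i hi n
      induction n with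
      | zero => simp
      | succ n ih =>
        rw [pow_succ' g, show g * g ^ n * x * (g * g ^ n)⁻¹ = g * (g ^ n * x * (g ^ n)⁻¹) * g⁻¹ by group,
          ih, ← conj_zpow, hi, ← zpow_mul, pow_succ' i]
    have flt : ∀ (i : ℤ) (s : ℕ), s.Prime → ∀ (g x : Equiv.Perm α), orderOf x = s →
        g * x * g⁻¹ = x ^ i → Commute (g ^ (s - 1)) x := by
      intro i s hs g x hx hi
      haveI := Fact.mk hs
      have hne : (i : ZMod s) ≠ 0 := by
        intro h
        rw [ZMod.intCast_zmod_eq_zero_iff_dvd] at h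
        obtain ⟨c, hc⟩ := h
        have : x ^ i = 1 := by rw [hc, zpow_mul, zpow_natCast, ← hx, pow_orderOf_eq_one, one_zpow]
        rw [this, conj_eq_one_iff] at hi
        rw [hi, orderOf_one] at hx
        exact hs.ne_one hx.symm
      have h1 : (s : ℤ) ∣ i ^ (s - 1) - 1 := by
        rw [← ZMod.intCast_zmod_eq_zero_iff_dvd]
        push_cast
        rw [ZMod.pow_card_sub_one_eq_one hne, sub_self]
      obtain ⟨c, hc⟩ := h1
      have h2 := conj_iter g x i hi (s - 1)
      have hxs : x ^ s = 1 := hx ▸ pow_orderOf_eq_one x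
      rw [show i ^ (s - 1) = 1 + (s : ℤ) * c by linarith, zpow_add, zpow_one, zpow_mul, zpow_natCast,
        hxs, one_zpow, mul_one] at h2
      exact mul_inv_eq_iff_eq_mul.mp h2
    have hr10 : r0 ^ 10 ∈ Subgroup.zpowers a :=
      hpow _ (pow_mem hr0L 10) (flt j0 11 h11.out r0 a hao hr0)
    obtain ⟨s, r1, hs, hr1L, hr1n, hr1s, j1, hr1⟩ : ∃ (s : ℕ) (r1 : Equiv.Perm α), (s = 2 ∨ s = 5) ∧
        r1 ∈ L ∧ r1 ∉ Subgroup.zpowers a ∧ r1 ^ s ∈ Subgroup.zpowers a ∧
        ∃ j : ℤ, r1 * a * r1⁻¹ = a ^ j := by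
      by_cases h : r0 ^ 5 ∈ Subgroup.zpowers a
      · exact ⟨5, r0, Or.inr rfl, hr0L, hr0n, h, j0, hr0⟩
      · exact ⟨2, r0 ^ 5, Or.inl rfl, pow_mem hr0L 5, h, by rw [← pow_mul]; exact hr10,
          _, conj_iter r0 a j0 hr0 5⟩
    have hsp : s.Prime := by rcases hs with rfl | rfl <;> norm_num
    haveI := Fact.mk hsp
    set r := r1 ^ 11 with hrdef
    have hrL : r ∈ L := pow_mem hr1L 11
    have hr11 : r1 ^ (s * 11) = 1 := by
      obtain ⟨k, hk⟩ := Subgroup.mem_zpowers_iff.mp hr1s
      rw [pow_mul, ← hk, ← zpow_natCast, ← zpow_mul, mul_comm, zpow_mul,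
        show a ^ ((11 : ℕ) : ℤ) = 1 by rw [zpow_natCast, ← hao, pow_orderOf_eq_one], one_zpow]
    have hrn : r ∉ Subgroup.zpowers a := by
      intro h
      apply hr1n
      have hcop : IsCoprime (s : ℤ) 11 := by
        rcases hs with rfl | rfl <;> · rw [Int.isCoprime_iff_nat_coprime]; norm_num
      obtain ⟨x, y, hxy⟩ := hcop
      have : r1 = (r1 ^ s) ^ x * r ^ y := by
        rw [hrdef, ← zpow_natCast r1 s, ← zpow_natCast r1 11, ← zpow_mul, ← zpow_mul, ← zpow_add,
          show (s : ℤ) * x + ((11 : ℕ) : ℤ) * y = 1 by push_cast; linarith, zpow_one]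
      rw [this]
      exact mul_mem (zpow_mem hr1s x) (zpow_mem h y)
    have hro : orderOf r = s := orderOf_eq_prime (by rw [hrdef, ← pow_mul, mul_comm]; exact hr11)
      fun h => hrn (h ▸ one_mem _)
    obtain ⟨j, hrj⟩ : ∃ j : ℤ, r * a * r⁻¹ = a ^ j := ⟨_, conj_iter r1 a j1 hr1 11⟩
    -- at most one point of the cycle is fixed
    have huniq : ∀ x y, a x ≠ x → a y ≠ y → r x = x → r y = y → x = y := by
      intro x y hx hy hrx hry
      obtain ⟨i, rfl⟩ := T.cyc.sameCycle hx hy
      by_contra hne
      have h1 : (a ^ (j * i)) x = (a ^ i) x := by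
        have : r * a ^ i * r⁻¹ = a ^ (j * i) := by rw [← conj_zpow, hrj, ← zpow_mul]
        rw [← this, mul_apply, mul_apply, inv_eq_iff_eq.mpr hrx.symm, hry]
      have h2 : (a ^ (j * i - i)) x = x := by
        rw [zpow_sub, mul_apply]
        apply (a ^ i).injective
        rw [← mul_apply (a ^ i) (a ^ (j * i)), (Commute.zpow_zpow_self a i (j * i)).eq, mul_apply, ap_inv, h1]
      have h3 : ((11 : ℕ) : ℤ) ∣ j * i - i := by
        rw [← hao, orderOf_dvd_iff_zpow_eq_one]
        ext y
        by_cases hy' : a y = y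
        · exact notMem_support.mp fun h => (mem_support.mp (support_zpow_le a _ h)) hy'
        · obtain ⟨k, rfl⟩ := T.cyc.sameCycle hx hy'
          rw [one_apply, ← mul_apply, (Commute.zpow_zpow_self a _ k).eq, mul_apply, h2]
      have hji : ((11 : ℕ) : ℤ) ∣ j - 1 := by
        have h4 : ((11 : ℕ) : ℤ) ∣ (j - 1) * i := by rw [sub_mul, one_mul]; exact h3
        refine ((Nat.prime_iff_prime_int.mp h11.out).dvd_mul.mp h4).resolve_right fun hd => hne ?_
        rw [← hao, orderOf_dvd_iff_zpow_eq_one] at hd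
        rw [hd, one_apply]
      apply hrn
      refine hpow r hrL (mul_inv_eq_iff_eq_mul.mp ?_)
      rw [← hao, orderOf_dvd_iff_zpow_eq_one, zpow_sub, zpow_one, mul_inv_eq_one] at hji
      rw [hrj, hji]
    have hsub : r.support ⊆ a.support := fun y hy => mem_support.mpr fun h => by
      rcases hfixa y h with rfl | rfl
      · exact mem_support.mp hy hrL.1.2
      · exact mem_support.mp hy hrL.2
    have hle : r.support.card ≤ 11 := ha11 ▸ Finset.card_le_card hsub
    have hge : 10 ≤ r.support.card := by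
      have : (a.support \ r.support).card ≤ 1 := Finset.card_le_one.mpr fun x hx y hy => by
        simp only [Finset.mem_sdiff, mem_support, not_not] at hx hy
        exact huniq x y hx.1 hy.1 hx.2 hy.2
      have := Finset.card_sdiff_add_card_eq_card hsub
      omega
    have hdvd := dvd_card_support hsp (show r ^ s = 1 by rw [← hro]; exact pow_orderOf_eq_one r)
    rcases hs with rfl | rfl
    · -- an involution would be odd
      have h10 : r.support.card = 10 := by omega
      have hct : r.cycleType = Multiset.replicate 5 2 := by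
        obtain ⟨n, hn⟩ := cycleType_prime_order (σ := r) (hro.symm ▸ Nat.prime_two)
        rw [hro] at hn
        have hsum := sum_cycleType r
        rw [hn, Multiset.sum_replicate, h10, smul_eq_mul] at hsum
        rw [hn, show n + 1 = 5 by omega]
      have hsign := mem_alternatingGroup.mp (hK hrL.1.1)
      rw [sign_of_cycleType, hct] at hsign
      revert hsign
      decide
    · have h10 : r.support.card = 10 := by omega
      obtain ⟨w, hwd⟩ : ∃ w, a.support \ r.support = {w} := Finset.card_eq_one.mp (by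
        have := Finset.card_sdiff_add_card_eq_card hsub; omega)
      have hw : w ∈ a.support \ r.support := hwd ▸ Finset.mem_singleton_self w
      simp only [Finset.mem_sdiff, mem_support, not_not] at hw
      have hw' : w ≠ u ∧ w ≠ v := ⟨fun h => hw.1 (h ▸ T.fixu), fun h => hw.1 (h ▸ T.fixv)⟩
      -- `25` does not divide the order of `K`
      have h25 : ¬ 5 ^ 2 ∣ Nat.card K := by
        intro h25
        have hrne : r ≠ 1 := fun h => by rw [h, orderOf_one] at hro; norm_num at hro
        obtain ⟨x, hx⟩ : r.support.Nonempty := Finset.card_pos.mp (by omega)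
        set c := r.cycleOf x
        have hcc : c.IsCycle := isCycle_cycleOf r (mem_support.mp hx)
        have hc5 : orderOf c = 5 := ((Nat.dvd_prime (by norm_num : Nat.Prime 5)).mp
          (hro ▸ orderOf_cycleOf_dvd_orderOf r x)).resolve_left (fun h => hcc.ne_one (orderOf_eq_one_iff.mp h))
        obtain ⟨T2, hT2⟩ := (IsPGroup.of_card (p := 5) (G := Subgroup.zpowers c) (n := 1)
          (by rw [Nat.card_zpowers, hc5, pow_one])).exists_le_sylow
        obtain ⟨S, hS⟩ := Sylow.exists_subgroup_card_pow_prime 5 h25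
        obtain ⟨S2, hS2⟩ := ((IsPGroup.of_card hS).map K.subtype).exists_le_sylow
        have hSyl : Nat.card S2 = 5 ^ 2 := by
          rw [S2.card_eq_multiplicity, Nat.card_perm, Nat.card_eq_fintype_card, T.card]
          have hf : (Nat.factorial 13).factorization 5 = 2 := by
            rw [show (Nat.factorial 13) = 5 ^ 2 * 249080832 by decide, Nat.factorization_mul (by norm_num) (by norm_num),
              Nat.Prime.factorization_pow (by norm_num), Finsupp.add_apply, Finsupp.single_eq_same,
              Nat.factorization_eq_zero_of_not_dvd (by norm_num)]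
          rw [hf]
        have hS2K : (S2 : Subgroup (Equiv.Perm α)) ≤ K := by
          have heq : S.map K.subtype = (S2 : Subgroup (Equiv.Perm α)) :=
            Subgroup.eq_of_le_of_card_ge hS2 (by
              rw [Subgroup.card_map_of_injective K.subtype_injective, hS]; exact hSyl.le)
          rw [← heq]
          exact Subgroup.map_subtype_le S
        obtain ⟨y, hy⟩ := MulAction.exists_smul_eq (Equiv.Perm α) T2 S2
        have hmem : y * c * y⁻¹ ∈ (S2 : Subgroup (Equiv.Perm α)) := by
          rw [← hy]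
          exact Subgroup.smul_mem_pointwise_smul c (MulAut.conj y) _ (hT2 (Subgroup.mem_zpowers c))
        exact h5 _ (hS2K hmem) hcc.conj (by rw [card_support_conj, ← hcc.orderOf, hc5])
      set M := L ⊓ stabilizer (Equiv.Perm α) w with hMdef
      have hrM : r ∈ M := ⟨hrL, hw.2⟩
      have hMK : M ≤ K := inf_le_left.trans (inf_le_left.trans inf_le_left)
      have hfacM : (Nat.card M).factorization 5 = 1 := by
        refine le_antisymm ?_ (Nat.Prime.factorization_pos_of_dvd (by norm_num) Nat.card_pos.ne'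
          (hro ▸ Subgroup.orderOf_mk (H := M) r hrM ▸ orderOf_dvd_natCard _))
        by_contra hlt
        exact h25 ((((by norm_num : Nat.Prime 5).pow_dvd_iff_le_factorization Nat.card_pos.ne').mpr (by omega)).trans
          (Subgroup.card_dvd_of_le hMK))
      obtain ⟨g0, hg0, hgu, hgv, hgw⟩ := T.trans_three hw' (x := v) (y := w) (z := u) hw'.2.symm T.ne.symm hw'.1
      have hru : r u = u := hrL.1.2
      have hrv : r v = v := hrL.2
      have hgr : g0 * r * g0⁻¹ ∈ M := by
        have e1 : g0⁻¹ u = w := by rw [inv_eq_iff_eq, hgw]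
        have e2 : g0⁻¹ v = u := by rw [inv_eq_iff_eq, hgu]
        have e3 : g0⁻¹ w = v := by rw [inv_eq_iff_eq, hgv]
        refine ⟨⟨⟨K.mul_mem (K.mul_mem hg0 hrL.1.1) (K.inv_mem hg0), ?_⟩, ?_⟩, ?_⟩
        · show (g0 * r * g0⁻¹) u = u
          rw [mul_apply, mul_apply, e1, hw.2, hgw]
        · show (g0 * r * g0⁻¹) v = v
          rw [mul_apply, mul_apply, e2, hru, hgu]
        · show (g0 * r * g0⁻¹) w = w
          rw [mul_apply, mul_apply, e3, hrv, hgv]
      let R1 : Sylow 5 M := Sylow.ofCard (Subgroup.zpowers ⟨r, hrM⟩)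
        (by rw [Nat.card_zpowers, Subgroup.orderOf_mk, hro, hfacM, pow_one])
      let R2 : Sylow 5 M := Sylow.ofCard (Subgroup.zpowers ⟨_, hgr⟩)
        (by rw [Nat.card_zpowers, Subgroup.orderOf_mk, ← MulAut.conj_apply, MulEquiv.orderOf_eq, hro, hfacM,
          pow_one])
      obtain ⟨⟨k, hkM⟩, hk⟩ := MulAction.exists_smul_eq M R2 R1
      have hmem : (⟨k, hkM⟩ : M) * ⟨_, hgr⟩ * (⟨k, hkM⟩ : M)⁻¹ ∈ Subgroup.zpowers (⟨r, hrM⟩ : M) := by
        show _ ∈ (R1 : Subgroup M)
        rw [← hk]
        exact Subgroup.smul_mem_pointwise_smul (⟨_, hgr⟩ : M) (MulAut.conj (⟨k, hkM⟩ : M)) _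
          (Subgroup.mem_zpowers _)
      obtain ⟨i, hi⟩ := Subgroup.mem_zpowers_iff.mp hmem
      set g := k * g0
      have hgi : g * r * g⁻¹ = r ^ i := by
        have := congrArg Subtype.val hi
        simp only [SubgroupClass.coe_zpow, Subgroup.coe_mul, Subgroup.coe_inv] at this
        rw [this]; simp only [g]; group
      have hcomm : Commute (g ^ 4) r := flt i 5 (by norm_num) g r hro hgi
      have gu : g u = v := by rw [mul_apply, hgu]; exact hkM.1.2
      have gv : g v = w := by rw [mul_apply, hgv]; exact hkM.2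
      have gw : g w = u := by rw [mul_apply, hgw]; exact hkM.1.1.2
      have hgK : g ∈ K := mul_mem (hMK hkM) hg0
      set g4 := g ^ 4 with hg4
      have g4u : g4 u = v := by simp [hg4, pow_succ, gu, gv, gw]
      have g4v : g4 v = w := by simp [hg4, pow_succ, gu, gv, gw]
      have g4w : g4 w = u := by simp [hg4, pow_succ, gu, gv, gw]
      have hcyc3 : ∀ n, ((g4 ^ (3 * n)) u = u ∧ (g4 ^ (3 * n)) v = v ∧ (g4 ^ (3 * n)) w = w) := by
        intro n
        induction n with
        | zero => simp
        | succ n ih =>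
          rw [show 3 * (n + 1) = 3 * n + 3 by ring, pow_add]
          simp [pow_succ, g4u, g4v, g4w, ih.1, ih.2.1, ih.2.2]
      obtain ⟨e', t', ht', hot⟩ := Nat.exists_eq_pow_mul_and_not_dvd (orderOf_pos g4).ne' 3 (by norm_num)
      set e := g4 ^ t' with hedef
      have heo : orderOf e = 3 ^ e' := by
        rw [hedef, orderOf_pow' _ (by rintro rfl; simp at ht'), hot, Nat.gcd_mul_left_left,
          Nat.mul_div_cancel _ (Nat.pos_of_ne_zero (by rintro rfl; simp at ht'))]
      have hmove : e u ≠ u ∧ e v ≠ v ∧ e w ≠ w := by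
        obtain ⟨n, c, hc, rfl⟩ : ∃ n c, (c = 1 ∨ c = 2) ∧ t' = 3 * n + c :=
          ⟨t' / 3, t' % 3, by omega, by omega⟩
        have hmv : ∀ x, (g4 ^ (3 * n)) (g4 x) = g4 ((g4 ^ (3 * n)) x) := fun x => by
          rw [← mul_apply, ← mul_apply, (Commute.pow_self g4 _).eq]
        rcases hc with rfl | rfl
        · simp only [hedef, pow_succ, mul_apply, g4u, g4v, g4w, hcyc3]
          exact ⟨T.ne.symm, hw'.2, hw'.1.symm⟩
        · simp only [hedef, pow_succ, mul_apply, g4u, g4v, g4w, hcyc3]
          exact ⟨hw'.1, T.ne, hw'.2.symm⟩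
      have hec : Commute e r := hcomm.pow_left t'
      have hes : e.support ⊇ {u, v, w} := by
        intro x hx
        simp only [Finset.mem_insert, Finset.mem_singleton] at hx
        rcases hx with rfl | rfl | rfl <;> rw [mem_support]
        exacts [hmove.1, hmove.2.1, hmove.2.2]
      have hTinv : ∀ x, r x ≠ x ∧ e x ≠ x ↔ r (r x) ≠ r x ∧ e (r x) ≠ r x := by
        intro x
        refine and_congr (r.injective.ne_iff).symm ?_
        rw [← mul_apply, hec.eq, mul_apply]
        exact (r.injective.ne_iff).symm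
      set D := Finset.univ.filter fun x => r x ≠ x ∧ e x ≠ x with hD
      have hD5 : 5 ∣ D.card := by
        let r' : Equiv.Perm {x // r x ≠ x ∧ e x ≠ x} := r.subtypePerm fun x => (hTinv x).symm
        have h1 : r' ^ 5 = 1 := by
          rw [subtypePerm_pow]
          ext x
          simp [show r ^ 5 = 1 by rw [← hro]; exact pow_orderOf_eq_one r]
        have h2 := dvd_card_support (by norm_num : Nat.Prime 5) h1
        have h3 : r'.support = Finset.univ := Finset.eq_univ_of_forall fun x => mem_support.mpr fun h =>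
          x.2.1 (congrArg Subtype.val h)
        rwa [h3, Finset.card_univ, Fintype.card_subtype] at h2
      have hsum : D.card + 3 = e.support.card := by
        have huvw : ({u, v, w} : Finset α).card = 3 :=
          Finset.card_eq_three.mpr ⟨u, v, w, T.ne, hw'.1.symm, hw'.2.symm, rfl⟩
        have hdis : D = e.support \ {u, v, w} := by
          ext x
          simp only [hD, Finset.mem_filter, Finset.mem_univ, true_and, Finset.mem_sdiff, mem_support,
            Finset.mem_insert, Finset.mem_singleton, not_or]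
          constructor
          · rintro ⟨hrx, hex⟩
            exact ⟨hex, fun h => hrx (h ▸ hru), fun h => hrx (h ▸ hrv), fun h => hrx (h ▸ hw.2)⟩
          · rintro ⟨hex, hxu, hxv, hxw⟩
            refine ⟨fun hrx => hxw ?_, hex⟩
            have : x ∈ a.support \ r.support := by
              simp only [Finset.mem_sdiff, mem_support, not_not]
              exact ⟨T.moved hxu hxv, hrx⟩
            rw [hwd] at this
            exact Finset.mem_singleton.mp this
        rw [hdis, ← huvw]
        exact Finset.card_sdiff_add_card_eq_card hes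
      have h3 : 3 ∣ e.support.card := dvd_card_support_pow Nat.prime_three heo
      have hD10 : D.card ≤ 10 := by
        rw [← h10]
        exact Finset.card_le_card fun x hx => mem_support.mpr (Finset.mem_filter.mp hx).2.1
      exact h3c e (pow_mem (pow_mem hgK 4) t') (by omega)

end Degrees

end Cfsg.Agent.Lib.Frobenius.PairGenerated
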