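import Cfsg.Agent.Lib.Frobenius.ClassSizes
import Cfsg.Agent.S4127
import Cfsg.Agent.Lib.Solvable.Supersolvable
import Cfsg.Agent.Lib.Solvable.Huppert
import Cfsg.Agent.Lib.LocalEven2.SubnormalSylow

/-!
Groups all of whose class sizes are square-free.
-/

set_option autoImplicit false
set_option linter.style.haveILetI false
set_option linter.unusedSectionVars false

namespace Cfsg.Agent.Lib.Frobenius.SquarefreeClasses

open Cfsg.Agent.Lib
open scoped commutatorElement

universe u

/-- All class sizes are square-free. -/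
def SF (G : Type u) [Group G] : Prop :=
  ∀ x : G, Squarefree (Subgroup.centralizer ({x} : Set G)).index

variable {G : Type u} [Group G] [Finite G]

theorem sf_normal (h : SF G) (N : Subgroup G) [N.Normal] : SF N := fun x => by
  have e : Subgroup.centralizer ({x} : Set N) = (Subgroup.centralizer ({(x : G)} : Set G)).subgroupOf N := by
    ext z
    rw [Subgroup.mem_subgroupOf, Subgroup.mem_centralizer_singleton_iff, Subgroup.mem_centralizer_singleton_iff]
    exact ⟨fun e => congrArg Subtype.val e, fun e => Subtype.ext e⟩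
  rw [e]
  exact (h (x : G)).squarefree_of_dvd (PGroups.relIndex_dvd_index_of_normal_right N _)

theorem sf_quotient (h : SF G) (N : Subgroup G) [N.Normal] : SF (G ⧸ N) := fun xb => by
  obtain ⟨x, rfl⟩ := QuotientGroup.mk'_surjective N xb
  refine (h x).squarefree_of_dvd ((Subgroup.index_dvd_of_le ?_).trans
    (Subgroup.index_map_dvd (Subgroup.centralizer ({x} : Set G)) (QuotientGroup.mk'_surjective N)))
  rintro _ ⟨z, hz, rfl⟩
  rw [Subgroup.mem_centralizer_singleton_iff, ← map_mul, ← map_mul, Subgroup.mem_centralizer_singleton_iff.mp hz]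

/-- A normal `r`-subgroup has its element centralisers of index at most `r`. -/
theorem card_dvd_mul_of_normal (h : SF G) {r : ℕ} [hr : Fact r.Prime] (P : Subgroup G) [P.Normal]
    (hP : IsPGroup r P) (g : G) :
    Nat.card P ∣ r * Nat.card ↥(P ⊓ Subgroup.centralizer ({g} : Set G)) := by
  set C := Subgroup.centralizer ({g} : Set G)
  have h1 := PGroups.relIndex_dvd_index_of_normal_right P C
  have h2 : C.relIndex P * Nat.card ↥(P ⊓ C) = Nat.card P := by
    rw [← Subgroup.inf_relIndex_right, inf_comm C P,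
      ← Nat.card_congr (Subgroup.subgroupOfEquivOfLe (inf_le_left : P ⊓ C ≤ P)).toEquiv]
    exact ((P ⊓ C).subgroupOf P).index_mul_card
  obtain ⟨k, hk⟩ := IsPGroup.iff_card.mp hP
  obtain ⟨i, -, hi⟩ := (Nat.dvd_prime_pow hr.out).mp (hk ▸ Dvd.intro _ h2 : C.relIndex P ∣ r ^ k)
  have h3 : i ≤ 1 := by
    by_contra hlt
    refine hr.out.ne_one (Nat.isUnit_iff.mp ((h g) r ?_))
    rw [← pow_two]
    exact ((pow_dvd_pow r (by omega : 2 ≤ i)).trans (hi ▸ dvd_rfl)).trans h1
  rw [← h2, hi]
  refine mul_dvd_mul_right ?_ _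
  rcases (show i = 0 ∨ i = 1 by omega) with rfl | rfl <;> simp

section Mov

variable (P : Subgroup G) [P.Normal] (hab : ∀ a ∈ P, ∀ b ∈ P, a * b = b * a)

/-- `x ↦ x⁻¹ (g x g⁻¹)` on a normal abelian subgroup. -/
def mov (g : G) : P →* P where
  toFun x := ⟨(x : G)⁻¹ * (g * x * g⁻¹), mul_mem (inv_mem x.2) (Subgroup.Normal.conj_mem inferInstance _ x.2 g)⟩
  map_one' := by ext; simp
  map_mul' x y := by
    ext
    show ((x : G) * y)⁻¹ * (g * ((x : G) * y) * g⁻¹) = (x : G)⁻¹ * (g * x * g⁻¹) * ((y : G)⁻¹ * (g * y * g⁻¹))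
    have hx : g * x * g⁻¹ ∈ P := Subgroup.Normal.conj_mem inferInstance _ x.2 g
    calc ((x : G) * y)⁻¹ * (g * ((x : G) * y) * g⁻¹)
        = (y : G)⁻¹ * ((x : G)⁻¹ * (g * x * g⁻¹)) * (g * y * g⁻¹) := by group
      _ = (x : G)⁻¹ * (g * x * g⁻¹) * (y : G)⁻¹ * (g * y * g⁻¹) := by
          rw [hab _ (inv_mem y.2) _ (mul_mem (inv_mem x.2) hx)]
      _ = _ := by group

theorem mov_apply (g : G) (x : P) : ((mov P hab g x : P) : G) = (x : G)⁻¹ * (g * x * g⁻¹) := rfl

theorem mem_ker_mov (g : G) (x : P) : x ∈ (mov P hab g).ker ↔ g * (x : G) = x * g := by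
  rw [MonoidHom.mem_ker, Subtype.ext_iff, mov_apply, OneMemClass.coe_one, inv_mul_eq_one, eq_comm,
    mul_inv_eq_iff_eq_mul]

theorem iterate {g x l : G} (hxl : g * x * g⁻¹ = x * l) (hl : g * l = l * g) :
    ∀ k : ℕ, g ^ k * x * (g ^ k)⁻¹ = x * l ^ k := by
  intro k
  induction k with
  | zero => simp
  | succ k ih =>
    calc g ^ (k + 1) * x * (g ^ (k + 1))⁻¹ = g * (g ^ k * x * (g ^ k)⁻¹) * g⁻¹ := by rw [pow_succ']; group
      _ = (g * x * g⁻¹) * (g * l ^ k * g⁻¹) := by rw [ih]; group
      _ = x * l ^ (k + 1) := by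
          rw [hxl, ((show Commute g l from hl).pow_right k).eq, mul_inv_cancel_right, pow_succ', mul_assoc]

variable {r : ℕ} [hr : Fact r.Prime] (hP : IsPGroup r P)
  (hidx : ∀ g : G, Nat.card P ∣ r * Nat.card ↥(P ⊓ Subgroup.centralizer ({g} : Set G)))

include hidx in
theorem card_range (g : G) (hg : g ∉ Subgroup.centralizer (P : Set G)) :
    Nat.card (mov P hab g).range = r ∧ (mov P hab g).ker.index = r := by
  have h1 : (mov P hab g).ker.index = Nat.card (mov P hab g).range :=
    Subgroup.index_ker _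
  have h2 : Nat.card (mov P hab g).ker = Nat.card ↥(P ⊓ Subgroup.centralizer ({g} : Set G)) := by
    rw [← Subgroup.card_map_of_injective P.subtype_injective]
    congr 1
    congr 1
    ext y
    simp only [Subgroup.mem_map, Subgroup.mem_inf, Subgroup.mem_centralizer_singleton_iff]
    constructor
    · rintro ⟨z, hz, rfl⟩
      exact ⟨z.2, ((mem_ker_mov P hab g z).mp hz).symm⟩
    · rintro ⟨hy, hyg⟩
      exact ⟨⟨y, hy⟩, (mem_ker_mov P hab g _).mpr hyg.symm, rfl⟩
  have h3 := (mov P hab g).ker.index_mul_card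
  have h4 := hidx g
  rw [← h2, ← h3] at h4
  have h5 : (mov P hab g).ker.index ∣ r := Nat.dvd_of_mul_dvd_mul_right Nat.card_pos h4
  have h6 : (mov P hab g).ker.index ≠ 1 := fun e => hg fun y hy => by
    have := (Subgroup.index_eq_one.mp e).ge (Subgroup.mem_top (⟨y, hy⟩ : P))
    exact ((mem_ker_mov P hab g _).mp this).symm
  have h7 := ((Nat.dvd_prime hr.out).mp h5).resolve_left h6
  exact ⟨h1 ▸ h7, h7⟩

/-- Acting coprimely. -/
def Cop (r : ℕ) (P : Subgroup G) (g : G) : Prop :=
  ∃ n : ℕ, n.Coprime r ∧ g ^ n ∈ Subgroup.centralizer (P : Set G)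

include hP in
theorem eq_one_of_shift {g : G} (hg : Cop r P g) {x l : G} (hx : x ∈ P) (hl : l ∈ P)
    (hxl : g * x * g⁻¹ = x * l) (hgl : g * l = l * g) : l = 1 := by
  obtain ⟨n, hn, hc⟩ := hg
  have h := iterate hxl hgl n
  rw [← hc x hx, mul_inv_cancel_right, left_eq_mul] at h
  obtain ⟨j, hj⟩ := hP ⟨l, hl⟩
  have hj' : l ^ r ^ j = 1 := congrArg Subtype.val hj
  have := pow_gcd_eq_one.mpr ⟨h, hj'⟩
  rwa [Nat.Coprime.gcd_eq_one (hn.pow_right j), pow_one] at this

include hP hidx in
/-- All coprime pseudo-reflections share their line. -/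
theorem range_eq {h k : G} (hh : h ∉ Subgroup.centralizer (P : Set G))
    (hk : k ∉ Subgroup.centralizer (P : Set G)) (hhc : Cop r P h)
    (huc : Cop r P ((h * k)⁻¹ * (k * h))) : (mov P hab h).range = (mov P hab k).range := by
  obtain ⟨hRh, hKh⟩ := card_range P hab hidx h hh
  obtain ⟨hRk, hKk⟩ := card_range P hab hidx k hk
  have same_of_mem : ∀ {A B : Subgroup P}, Nat.card A = r → Nat.card B = r → ∀ y, y ≠ 1 → y ∈ A → y ∈ B → A = B := by
    intro A B hA hB y hy hyA hyB
    have key : ∀ (D : Subgroup P), Nat.card D = r → y ∈ D → Subgroup.zpowers y = D := fun D hD hyD =>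
      Subgroup.eq_of_le_of_card_ge (Subgroup.zpowers_le.mpr hyD) (by
        rw [hD, Nat.card_zpowers]
        exact (((Nat.dvd_prime hr.out).mp (hD ▸ Subgroup.orderOf_mk (H := D) y hyD ▸ orderOf_dvd_natCard _)).resolve_left
          (fun e => hy (orderOf_eq_one_iff.mp e))).ge)
    rw [← key A hA hyA, key B hB hyB]
  by_cases hker : (mov P hab h).ker = (mov P hab k).ker
  · -- the same hyperplane
    set M := (mov P hab h).ker
    set L := (mov P hab h).range
    have hdis : ∀ y ∈ L, y ∈ M → y = 1 := by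
      rintro y ⟨x, rfl⟩ hy
      have := eq_one_of_shift P hP hhc x.2 (mov P hab h x).2
        (by rw [mov_apply]; group) ((mem_ker_mov P hab h _).mp hy)
      exact Subtype.ext this
    haveI : M.Normal := MonoidHom.normal_ker _
    have hsup : L ⊔ M = ⊤ := by
      by_contra hne
      have h1 : M.index = r := hKh
      have h2 := Subgroup.index_dvd_of_le (le_sup_right : M ≤ L ⊔ M)
      rw [h1] at h2
      rcases (Nat.dvd_prime hr.out).mp h2 with h3 | h3
      · exact hne (Subgroup.index_eq_one.mp h3)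
      · have h4 : M = L ⊔ M := Subgroup.eq_of_le_of_card_ge le_sup_right (by
          have e1 := M.index_mul_card
          have e2 := (L ⊔ M).index_mul_card
          rw [h1] at e1; rw [h3, ← e1] at e2
          exact (Nat.eq_of_mul_eq_mul_left hr.out.pos e2).le)
        have hLb : L = ⊥ := (Subgroup.eq_bot_iff_forall _).mpr fun y hy => hdis y hy (h4 ▸ Subgroup.mem_sup_left hy)
        rw [hLb, Subgroup.card_bot] at hRh
        exact hr.out.ne_one hRh.symm
    haveI : IsCyclic L := isCyclic_of_prime_card hRh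
    -- `h` acts on the line by a power
    have hpow : ∀ y ∈ L, ∃ a : ℕ, h * (y : G) * h⁻¹ = (y : G) ^ a := by
      intro y hy
      by_cases hy1 : y = 1
      · exact ⟨1, by simp [hy1]⟩
      obtain ⟨x, rfl⟩ := hy
      have hmem : (⟨h * (mov P hab h x : G) * h⁻¹, Subgroup.Normal.conj_mem inferInstance _ (mov P hab h x).2 h⟩ : P) ∈ L :=
        ⟨⟨h * x * h⁻¹, Subgroup.Normal.conj_mem inferInstance _ x.2 h⟩, Subtype.ext (by
          rw [mov_apply]; show _ = h * ((x : G)⁻¹ * (h * x * h⁻¹)) * h⁻¹; group)⟩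
      have hz : Subgroup.zpowers (mov P hab h x) = L :=
        Subgroup.eq_of_le_of_card_ge (Subgroup.zpowers_le.mpr ⟨x, rfl⟩) (by
          rw [hRh, Nat.card_zpowers]
          exact (((Nat.dvd_prime hr.out).mp (hRh ▸ Subgroup.orderOf_mk (H := L) (mov P hab h x) ⟨x, rfl⟩ ▸
            orderOf_dvd_natCard _)).resolve_left (fun e => hy1 (orderOf_eq_one_iff.mp e))).ge)
      rw [← hz] at hmem
      obtain ⟨a, ha⟩ := mem_powers_iff_mem_zpowers.mpr hmem
      exact ⟨a, by simpa using (congrArg Subtype.val ha).symm⟩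
    have hfix : ∀ y ∈ M, h * (y : G) = y * h ∧ k * (y : G) = y * k := fun y hy =>
      ⟨(mem_ker_mov P hab h y).mp hy, (mem_ker_mov P hab k y).mp (hker ▸ hy)⟩
    -- `k` preserves the line
    have hinvk : ∀ y ∈ L, (⟨k * (y : G) * k⁻¹, Subgroup.Normal.conj_mem inferInstance _ y.2 k⟩ : P) ∈ L := by
      intro y hy
      obtain ⟨l, hl, m, hm, hlm⟩ := Subgroup.mem_sup_of_normal_right.mp
        (hsup ▸ Subgroup.mem_top (⟨k * (y : G) * k⁻¹, Subgroup.Normal.conj_mem inferInstance _ y.2 k⟩ : P) : _ ∈ L ⊔ M)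
      obtain ⟨a, ha⟩ := hpow y hy
      obtain ⟨b, hb⟩ := hpow l hl
      have hky : k * (y : G) * k⁻¹ = (l : G) * m := (congrArg Subtype.val hlm).symm
      have hlm' : Commute (l : G) (m : G) := hab _ l.2 _ m.2
      have e1 : (k * h) * (y : G) * (k * h)⁻¹ = (l : G) ^ a * (m : G) ^ a := by
        rw [show (k * h) * (y : G) * (k * h)⁻¹ = k * (h * y * h⁻¹) * k⁻¹ by group, ha, ← conj_pow, hky, hlm'.mul_pow]
      have e2 : (h * k) * (y : G) * (h * k)⁻¹ = (l : G) ^ b * m := by
        rw [show (h * k) * (y : G) * (h * k)⁻¹ = h * (k * y * k⁻¹) * h⁻¹ by group, hky,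
          show h * ((l : G) * m) * h⁻¹ = (h * l * h⁻¹) * (h * m * h⁻¹) by group, hb, (hfix m hm).1, mul_inv_cancel_right]
      -- the difference of the two
      set u := (h * k)⁻¹ * (k * h)
      have hM : ∀ z ∈ M, u * (z : G) = z * u := fun z hz => by
        obtain ⟨c1, c2⟩ := hfix z hz
        have c : Commute (h * k) (z : G) := (Commute.mul_left c1 c2)
        have c' : Commute (k * h) (z : G) := (Commute.mul_left c2 c1)
        exact (Commute.mul_left c.inv_left c').eq
      let d : P := (⟨(y : G), y.2⟩ : P)⁻¹ * ⟨u * y * u⁻¹, Subgroup.Normal.conj_mem inferInstance _ y.2 u⟩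
      have hdM : d ∈ M := by
        -- modulo `M` the element `l ^ a` equals `l ^ b`
        have hq : ∀ z : P, QuotientGroup.mk' M z = 1 ↔ z ∈ M := fun z => QuotientGroup.eq_one_iff z
        set q := QuotientGroup.mk' M
        haveI : IsCyclic (P ⧸ M) := isCyclic_of_prime_card (p := r) hKh
        have hcard : Nat.card (P ⧸ M) = r := hKh
        letI : CommGroup (P ⧸ M) := IsCyclic.commGroup
        have conjq : ∀ g : G, (∀ z ∈ M, g * (z : G) = z * g) → ∃ e : ℕ, ∀ z : P,
            q ⟨g * z * g⁻¹, Subgroup.Normal.conj_mem inferInstance _ z.2 g⟩ = q z ^ e := by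
          intro g hg
          let f : P →* P ⧸ M := q.comp
            { toFun := fun z : P => (⟨g * z * g⁻¹, Subgroup.Normal.conj_mem inferInstance _ z.2 g⟩ : P)
              map_one' := by ext; simp
              map_mul' := fun a b => Subtype.ext (by simp [mul_assoc]) }
          have hfM : M ≤ f.ker := fun z hz => by
            show q ⟨g * z * g⁻¹, _⟩ = 1
            rw [hq]
            have : (⟨g * (z : G) * g⁻¹, Subgroup.Normal.conj_mem inferInstance _ z.2 g⟩ : P) = z :=
              Subtype.ext (by show g * (z : G) * g⁻¹ = z; rw [hg z hz, mul_inv_cancel_right])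
            rwa [this]
          let F : P ⧸ M →* P ⧸ M := QuotientGroup.lift M f hfM
          obtain ⟨g0, hg0⟩ := IsCyclic.exists_monoid_generator (α := P ⧸ M)
          obtain ⟨e, he⟩ := hg0 (F g0)
          refine ⟨e, fun z => ?_⟩
          obtain ⟨i, hi⟩ := hg0 (q z)
          show F (q z) = _
          simp only at he hi
          rw [← hi, map_pow, ← he, ← pow_mul, ← pow_mul, mul_comm]
        obtain ⟨e, he⟩ := conjq h fun z hz => (hfix z hz).1
        obtain ⟨e', he'⟩ := conjq k fun z hz => (hfix z hz).2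
        have hqu : q ⟨u * y * u⁻¹, Subgroup.Normal.conj_mem inferInstance _ y.2 u⟩ = q y := by
          have h1 := he' ⟨h * y * h⁻¹, Subgroup.Normal.conj_mem inferInstance _ y.2 h⟩
          rw [he] at h1
          have h2 := he ⟨k * (u * y * u⁻¹) * k⁻¹, Subgroup.Normal.conj_mem inferInstance _ (Subgroup.Normal.conj_mem inferInstance _ y.2 u) k⟩
          rw [he' ⟨u * y * u⁻¹, Subgroup.Normal.conj_mem inferInstance _ y.2 u⟩] at h2
          have e3 : h * (k * (u * (y : G) * u⁻¹) * k⁻¹) * h⁻¹ = k * (h * y * h⁻¹) * k⁻¹ := by simp only [u]; group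
          simp only [e3] at h2
          rw [h1, ← pow_mul, ← pow_mul, mul_comm e e'] at h2
          have hne : ∀ g : G, ∀ e0 : ℕ, (∀ z : P, q ⟨g * z * g⁻¹, Subgroup.Normal.conj_mem inferInstance _ z.2 g⟩ = q z ^ e0) →
              e0.Coprime r := by
            intro g e0 h0
            refine Nat.Coprime.symm ((hr.out.coprime_iff_not_dvd).mpr fun hd => ?_)
            obtain ⟨c, rfl⟩ := hd
            have htriv : ∀ z : P, q z = 1 := fun z => by
              have := h0 ⟨g⁻¹ * z * g⁻¹⁻¹, Subgroup.Normal.conj_mem inferInstance _ z.2 g⁻¹⟩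
              have e4 : g * (g⁻¹ * (z : G) * g⁻¹⁻¹) * g⁻¹ = z := by group
              simp only [e4, Subtype.coe_eta] at this
              rw [this, pow_mul, ← hcard, pow_card_eq_one', one_pow]
            have hM : M = ⊤ := top_le_iff.mp fun z _ => (hq z).mp (htriv z)
            rw [hM, Subgroup.index_top] at hKh
            exact hr.out.ne_one hKh.symm
          have hcop : (e' * e).Coprime r := (hne k e' he').mul_left (hne h e he)
          exact ((powCoprime (G := P ⧸ M) (n := e' * e) (by rw [hcard]; exact hcop.symm)).injective h2).symm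
        show d ∈ M
        rw [← hq, map_mul, map_inv, hqu, inv_mul_cancel]
      have hd1 : (d : G) = 1 := eq_one_of_shift P hP huc y.2 d.2 (by simp [d]) (hM d hdM)
      have hu : u * (y : G) * u⁻¹ = y := by
        have : (y : G)⁻¹ * (u * y * u⁻¹) = 1 := by simpa [d] using hd1
        exact (inv_mul_eq_one.mp this).symm
      have he : (k * h) * (y : G) * (k * h)⁻¹ = (h * k) * y * (h * k)⁻¹ := by
        conv_rhs => rw [← hu]
        simp only [u]; group
      rw [e1, e2] at he
      have h3 : l ^ a * m ^ a = l ^ b * m := Subtype.ext (by simpa using he)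
      have h4 : (l ^ b)⁻¹ * l ^ a = m * (m ^ a)⁻¹ := by
        rw [eq_mul_inv_iff_mul_eq, mul_assoc, h3, inv_mul_cancel_left]
      have h5 : m * (m ^ a)⁻¹ = 1 := hdis _ (h4 ▸ mul_mem (inv_mem (pow_mem hl b)) (pow_mem hl a))
        (mul_mem hm (inv_mem (pow_mem hm a)))
      -- `a ≢ 1`, else `h` fixes the line
      by_cases hm1 : m = 1
      · rw [← hlm, hm1, mul_one]; exact hl
      exfalso
      have hma : m ^ a = m := (mul_inv_eq_one.mp h5).symm
      have hy1 : y ≠ 1 := fun e => hm1 (hdis m (by
        have h6 : l * m = 1 := hlm.trans (Subtype.ext (by simp [e]))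
        rw [eq_inv_of_mul_eq_one_right h6]; exact inv_mem hl) hm)
      have hyo : orderOf y = r := ((Nat.dvd_prime hr.out).mp (hRh ▸ Subgroup.orderOf_mk (H := L) y hy ▸
        orderOf_dvd_natCard _)).resolve_left (fun e => hy1 (orderOf_eq_one_iff.mp e))
      have hmr : m ^ r = 1 := by
        obtain ⟨z, hz⟩ : ∃ z : P, (z : G) = k * (y : G) * k⁻¹ ∧ z ^ r = 1 := ⟨⟨k * y * k⁻¹, Subgroup.Normal.conj_mem inferInstance _ y.2 k⟩, rfl,
          Subtype.ext (by
            show (k * (y : G) * k⁻¹) ^ r = 1
            rw [conj_pow, ← Subgroup.coe_pow, show y ^ r = 1 from hyo ▸ pow_orderOf_eq_one y]; simp)⟩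
        obtain ⟨hz1, hz2⟩ := hz
        have hz3 : z = l * m := Subtype.ext (by rw [hz1, hky]; rfl)
        rw [hz3, (show Commute l m from Subtype.ext (hab _ l.2 _ m.2)).mul_pow] at hz2
        have : l ^ r = 1 := by
          rw [← hRh]
          exact congrArg Subtype.val (pow_card_eq_one' (x := (⟨l, hl⟩ : L)))
        rwa [this, one_mul] at hz2
      have hmo : orderOf m = r := orderOf_eq_prime hmr hm1
      have ha1 : (y : P) ^ a = y := by
        have h6 : m ^ a = m ^ 1 := by rw [pow_one]; exact hma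
        rw [pow_eq_pow_iff_modEq, hmo, ← hyo] at h6
        rw [pow_eq_pow_iff_modEq.mpr h6, pow_one]
      refine hy1 (hdis y hy ((mem_ker_mov P hab h y).mpr ?_))
      exact mul_inv_eq_iff_eq_mul.mp (ha.trans (congrArg Subtype.val ha1))
    -- so the image of the line under `mov k` lies in it
    apply le_antisymm
    · have hle : (mov P hab k).range ≤ L := by
        rintro _ ⟨x, rfl⟩
        obtain ⟨l, hl, m, hm, rfl⟩ := Subgroup.mem_sup_of_normal_right.mp (hsup ▸ Subgroup.mem_top x : x ∈ L ⊔ M)
        have hmk : mov P hab k m = 1 := hker.le hm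
        rw [map_mul, hmk, mul_one]
        exact mul_mem (inv_mem hl) (hinvk l hl)
      exact (Subgroup.eq_of_le_of_card_ge hle (hRh.le.trans hRk.ge)).ge
    · rintro _ ⟨x, rfl⟩
      obtain ⟨l, hl, m, hm, rfl⟩ := Subgroup.mem_sup_of_normal_right.mp (hsup ▸ Subgroup.mem_top x : x ∈ L ⊔ M)
      have hmk : mov P hab k m = 1 := hker.le hm
      rw [map_mul, hmk, mul_one]
      exact mul_mem (inv_mem hl) (hinvk l hl)
  · -- distinct hyperplanes
    by_cases hhk : h * k ∈ Subgroup.centralizer (P : Set G)
    · exfalso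
      apply hker
      ext x
      rw [mem_ker_mov, mem_ker_mov]
      have hc : (x : G) * (h * k) = h * k * x := hhk x x.2
      constructor
      · intro e
        exact mul_left_cancel (a := h) (by rw [← mul_assoc h k, ← hc, ← mul_assoc, ← mul_assoc, e])
      · intro e
        exact mul_right_cancel (b := k) (by rw [mul_assoc (h) (x : G), ← e, ← mul_assoc, ← hc, mul_assoc])
    obtain ⟨hR, hK⟩ := card_range P hab hidx (h * k) hhk
    obtain ⟨x, hx, hxn⟩ : ∃ x, x ∈ (mov P hab (h * k)).ker ∧ x ∉ (mov P hab k).ker := by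
      by_contra hno
      push Not at hno
      have heq : (mov P hab (h * k)).ker = (mov P hab k).ker := Subgroup.eq_of_le_of_card_ge hno (by
        have e1 := (mov P hab (h * k)).ker.index_mul_card
        have e2 := (mov P hab k).ker.index_mul_card
        rw [hK] at e1; rw [hKk, ← e1] at e2
        exact (Nat.eq_of_mul_eq_mul_left hr.out.pos e2).le)
      apply hker
      refine (Subgroup.eq_of_le_of_card_ge (fun z hz => ?_) ?_).symm
      · rw [mem_ker_mov]
        have hzk := (mem_ker_mov P hab k z).mp hz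
        have hzhk := (mem_ker_mov P hab (h * k) z).mp (heq.symm ▸ hz)
        exact mul_right_cancel (b := k) (by rw [mul_assoc h (z : G), ← hzk, ← mul_assoc, hzhk, mul_assoc])
      · have e1 := (mov P hab h).ker.index_mul_card
        have e2 := (mov P hab k).ker.index_mul_card
        rw [hKh] at e1; rw [hKk, ← e1] at e2
        exact (Nat.eq_of_mul_eq_mul_left hr.out.pos e2).ge
    have hy1 : mov P hab k x ≠ 1 := hxn
    refine (same_of_mem hRk hRh _ hy1 ⟨x, rfl⟩ ?_).symm
    have hx' : h * (k * (x : G) * k⁻¹) * h⁻¹ = x := by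
      rw [show h * (k * (x : G) * k⁻¹) * h⁻¹ = (h * k) * x * (h * k)⁻¹ by group,
        (mem_ker_mov P hab (h * k) x).mp hx, mul_inv_cancel_right]
    refine ⟨(⟨k * x * k⁻¹, Subgroup.Normal.conj_mem inferInstance _ x.2 k⟩ : P)⁻¹, Subtype.ext ?_⟩
    rw [map_inv, Subgroup.coe_inv, mov_apply, mov_apply]
    show ((k * (x : G) * k⁻¹)⁻¹ * (h * (k * x * k⁻¹) * h⁻¹))⁻¹ = (x : G)⁻¹ * (k * x * k⁻¹)
    rw [hx']; group

end Mov

/-- Solvability and supersolvability. -/
theorem isSupersolvable_aux : ∀ (n : ℕ) (G : Type u) [Group G] [Finite G], Nat.card G = n → SF G →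
    Cfsg.IsSupersolvable G := by
  intro n
  induction n using Nat.strong_induction_on with
  | _ n IH =>
    intro G _ _ hn h
    rcases subsingleton_or_nontrivial G with hs | hnt
    · exact Solvable.isSupersolvable_of_subsingleton G
    obtain ⟨p, hp, hpd, hmin⟩ : ∃ p, p.Prime ∧ p ∣ Nat.card G ∧ ∀ r : ℕ, r.Prime → r ∣ Nat.card G → p ≤ r :=
      ⟨(Nat.card G).minFac, Nat.minFac_prime Finite.one_lt_card.ne', Nat.minFac_dvd _,
        fun r hr hd => Nat.minFac_le_of_dvd hr.two_le hd⟩
    haveI := Fact.mk hp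
    have hpc : Cfsg.HasNormalPComplement p G := ClassSizes.hasNormalPComplement hmin
      (fun g hd => hp.ne_one (Nat.isUnit_iff.mp (h g p (by rwa [← pow_two]))))
      (fun H => S4127.eq_top_of_forall_conj H)
    obtain ⟨P, K, hK, hKc⟩ := hpc
    have hKlt : Nat.card K < n := by
      have h1 := hKc.card_mul
      rw [hn] at h1
      have h2 : 1 < Nat.card P := by
        obtain ⟨k, hk⟩ := IsPGroup.iff_card.mp P.2
        rw [hk]
        refine Nat.one_lt_pow (fun e => ?_) hp.one_lt
        subst e
        rw [pow_zero] at hk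
        exact P.ne_bot_of_dvd_card hpd (Subgroup.card_eq_one.mp hk)
      have := Nat.card_pos (α := K)
      nlinarith
    have hsolv : Group.IsSolvable G := by
      haveI := Solvable.isSolvable_of_isSupersolvable (IH _ hKlt K rfl (sf_normal h K))
      haveI : Group.IsNilpotent (G ⧸ K) := by
        refine IsPGroup.isNilpotent (p := p) ?_
        obtain ⟨k, hk⟩ := Transfer.exists_index_of_isComplement' hKc
        exact IsPGroup.of_card (by rw [← Subgroup.index_eq_card, hk])
      exact Group.isSolvable_of_ker_le_range K.subtype (QuotientGroup.mk' K)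
        (by rw [QuotientGroup.ker_mk', Subgroup.range_subtype])
    obtain ⟨N, -, hNn, hN1, hNmin⟩ := LocalEven2.exists_minimal_normal_le
      (N := (⊤ : Subgroup G)) inferInstance top_ne_bot
    obtain ⟨r, hr, hab, hel⟩ : ∃ r : ℕ, r.Prime ∧ (∀ a ∈ N, ∀ b ∈ N, a * b = b * a) ∧ ∀ a ∈ N, a ^ r = 1 := by
      have hcomm : ⁅N, N⁆ = ⊥ := by
        rcases hNmin ⁅N, N⁆ (Subgroup.commutator_normal N N) (Subgroup.commutator_le_left N N) with e | e
        · exact e
        · exfalso
          haveI : Group.IsSolvable N := inferInstance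
          haveI : Nontrivial N := (Subgroup.nontrivial_iff_ne_bot N).mpr hN1
          apply (IsSolvable.commutator_lt_top_of_nontrivial N).ne
          apply Subgroup.map_injective N.subtype_injective
          rw [Subgroup.map_subtype_commutator, e, ← MonoidHom.range_eq_map, Subgroup.range_subtype]
      have hab : ∀ a ∈ N, ∀ b ∈ N, a * b = b * a := fun a ha b hb =>
        commutatorElement_eq_one_iff_mul_comm.mp (Subgroup.mem_bot.mp (hcomm ▸ Subgroup.commutator_mem_commutator ha hb))
      obtain ⟨r, hr, hrd⟩ := Nat.exists_prime_and_dvd (n := Nat.card N) (fun e => hN1 (Subgroup.card_eq_one.mp e))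
      haveI := Fact.mk hr
      obtain ⟨⟨x, hx⟩, hxo⟩ := exists_prime_orderOf_dvd_card' (G := N) r hrd
      rw [Subgroup.orderOf_mk] at hxo
      let E : Subgroup G :=
        { carrier := {a | a ∈ N ∧ a ^ r = 1}
          one_mem' := ⟨one_mem N, one_pow r⟩
          mul_mem' := fun {a b} ha hb => ⟨mul_mem ha.1 hb.1, by
            rw [(show Commute a b from hab a ha.1 b hb.1).mul_pow, ha.2, hb.2, one_mul]⟩
          inv_mem' := fun {a} ha => ⟨inv_mem ha.1, by rw [inv_pow, ha.2, inv_one]⟩ }
      have hEn : E.Normal := ⟨fun a ha g => ⟨hNn.conj_mem a ha.1 g, by rw [conj_pow, ha.2]; group⟩⟩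
      refine ⟨r, hr, hab, fun a ha => ?_⟩
      rcases hNmin E hEn (fun a ha => ha.1) with e | e
      · have hxE : x ∈ E := ⟨hx, hxo ▸ pow_orderOf_eq_one x⟩
        rw [e, Subgroup.mem_bot] at hxE
        rw [hxE, orderOf_one] at hxo
        exact absurd hxo.symm hr.ne_one
      · exact (e.ge ha).2
    haveI := Fact.mk hr
    have hNp : IsPGroup r N := fun a => ⟨1, Subtype.ext (by rw [pow_one]; exact hel a a.2)⟩
    have hlt : Nat.card (G ⧸ N) < n := by
      have := N.index_mul_card
      rw [Subgroup.index_eq_card] at this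
      have h2 : 1 < Nat.card N := Finite.one_lt_card_iff_nontrivial.mpr ((Subgroup.nontrivial_iff_ne_bot N).mpr hN1)
      have := Nat.card_pos (α := G ⧸ N)
      nlinarith
    refine Solvable.isSupersolvable_of_cyclic_normal N ?_ (IH _ hlt (G ⧸ N) rfl (sf_quotient h N))
    -- a minimal normal subgroup has prime order
    have hidx := card_dvd_mul_of_normal h N hNp
    set C := Subgroup.centralizer (N : Set G)
    by_cases hC : C = ⊤
    · obtain ⟨z, hz, hz1⟩ := ClassSizes.exists_ne_one_of_ne_bot N hN1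
      have hzn : (Subgroup.zpowers z).Normal := ⟨fun a ha g => by
        obtain ⟨i, rfl⟩ := Subgroup.mem_zpowers_iff.mp ha
        have hcz : z * g = g * z := (hC.ge (Subgroup.mem_top g)) z hz
        rw [← conj_zpow, ← hcz, mul_inv_cancel_right]
        exact zpow_mem (Subgroup.mem_zpowers z) i⟩
      rcases hNmin _ hzn (Subgroup.zpowers_le.mpr hz) with e | e
      · exact absurd (Subgroup.zpowers_eq_bot.mp e) hz1
      · rw [← e]; exact Subgroup.isCyclic_zpowers z
    haveI : Nontrivial (G ⧸ C) := by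
      rw [← not_subsingleton_iff_nontrivial, QuotientGroup.subsingleton_iff]
      exact hC
    haveI : Group.IsSolvable (G ⧸ C) := inferInstance
    obtain ⟨Db, -, hDbn, hDb1, hDbmin⟩ := LocalEven2.exists_minimal_normal_le
      (N := (⊤ : Subgroup (G ⧸ C))) inferInstance top_ne_bot
    have hDbc : ∀ a ∈ Db, ∀ b ∈ Db, a * b = b * a := fun a ha b hb => by
      have hcomm : ⁅Db, Db⁆ = ⊥ := by
        rcases hDbmin ⁅Db, Db⁆ (Subgroup.commutator_normal Db Db) (Subgroup.commutator_le_left Db Db) with e | e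
        · exact e
        · exfalso
          haveI : Nontrivial Db := (Subgroup.nontrivial_iff_ne_bot Db).mpr hDb1
          apply (IsSolvable.commutator_lt_top_of_nontrivial Db).ne
          apply Subgroup.map_injective Db.subtype_injective
          rw [Subgroup.map_subtype_commutator, e, ← MonoidHom.range_eq_map, Subgroup.range_subtype]
      exact commutatorElement_eq_one_iff_mul_comm.mp (Subgroup.mem_bot.mp (hcomm ▸ Subgroup.commutator_mem_commutator ha hb))
    set D := Db.comap (QuotientGroup.mk' C) with hD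
    haveI hDn : D.Normal := hDbn.comap _
    have hDC : ∀ a ∈ D, ∀ b ∈ D, (a * b)⁻¹ * (b * a) ∈ C := fun a ha b hb => by
      refine QuotientGroup.eq.mp ?_
      show QuotientGroup.mk' C (a * b) = QuotientGroup.mk' C (b * a)
      rw [map_mul, map_mul]
      exact hDbc _ ha _ hb
    -- no `r`-element outside `C` in `D`
    obtain ⟨q, hq, hDq⟩ : ∃ q : ℕ, q.Coprime r ∧ ∀ a ∈ D, a ^ q ∈ C := by
      obtain ⟨S⟩ : Nonempty (Sylow r Db) := inferInstance
      have hScop : Nat.card S = 1 := by
        by_contra hS1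
        set S' := (S : Subgroup Db).map Db.subtype
        haveI hS'n : S'.Normal := by
          haveI : (S : Subgroup Db).Characteristic := Sylow.characteristic_of_normal S ⟨fun a ha g => by
            have : g * a * g⁻¹ = a := Subtype.ext (by
              show (g : G ⧸ C) * a * (g : G ⧸ C)⁻¹ = a
              rw [hDbc g g.2 a a.2, mul_inv_cancel_right])
            rwa [this]⟩
          exact ConjAct.normal_of_characteristic_of_normal
        -- an `r`-group acting on `N` has a fixed point
        let R := S'.comap (QuotientGroup.mk' C)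
        letI : MulAction S' N :=
          MulAction.compHom _ ((QuotientGroup.lift C (MulAut.conjNormal (H := N)) (fun c hc => by
            ext n
            show c * (n : G) * c⁻¹ = n
            rw [← hc n n.2, mul_inv_cancel_right])).comp S'.subtype)
        have hS'p : IsPGroup r S' := S.2.map _
        have hmod := hS'p.card_modEq_card_fixedPoints (α := N)
        obtain ⟨k, hk⟩ := IsPGroup.iff_card.mp hNp
        have hk0 : k ≠ 0 := by
          rintro rfl
          rw [pow_zero] at hk
          exact hN1 (Subgroup.card_eq_one.mp hk)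
        have hd : r ∣ Nat.card (MulAction.fixedPoints S' N) := by
          refine (Nat.modEq_zero_iff_dvd).mp (hmod.symm.trans ?_)
          rw [hk]
          exact Nat.modEq_zero_iff_dvd.mpr (dvd_pow_self r hk0)
        let F : Subgroup G :=
          { carrier := {z | z ∈ N ∧ ∀ g ∈ R, g * z = z * g}
            one_mem' := ⟨one_mem N, fun g _ => by simp⟩
            mul_mem' := fun {a b} ha hb => ⟨mul_mem ha.1 hb.1, fun g hg => by
              rw [← mul_assoc, ha.2 g hg, mul_assoc, hb.2 g hg, mul_assoc]⟩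
            inv_mem' := fun {a} ha => ⟨inv_mem ha.1, fun g hg => by
              rw [eq_inv_mul_iff_mul_eq, ← mul_assoc, ← ha.2 g hg, mul_inv_cancel_right]⟩ }
        haveI hRn : R.Normal := hS'n.comap _
        have hFn : F.Normal := ⟨fun z hz g => ⟨hNn.conj_mem z hz.1 g, fun t ht => by
          have := hz.2 (g⁻¹ * t * g) (by simpa using hRn.conj_mem t ht g⁻¹)
          calc t * (g * z * g⁻¹) = g * ((g⁻¹ * t * g) * z) * g⁻¹ := by group
            _ = g * (z * (g⁻¹ * t * g)) * g⁻¹ := by rw [this]
            _ = g * z * g⁻¹ * t := by group⟩⟩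
        rcases hNmin F hFn (fun z hz => hz.1) with e | e
        · haveI : Nonempty (MulAction.fixedPoints S' N) := ⟨⟨1, fun g => by
            show (_ : MulAut N) 1 = 1
            exact map_one _⟩⟩
          have h2 : 1 < Nat.card (MulAction.fixedPoints S' N) :=
            lt_of_lt_of_le hr.one_lt (Nat.le_of_dvd Nat.card_pos hd)
          haveI := Finite.one_lt_card_iff_nontrivial.mp h2
          obtain ⟨z, hz⟩ := exists_ne (⟨1, fun g => by
            show (_ : MulAut N) 1 = 1
            exact map_one _⟩ : MulAction.fixedPoints S' N)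
          apply hz
          have hzF : ((z : N) : G) ∈ F := ⟨(z : N).2, fun g hg => by
            have h3 := congrArg Subtype.val (z.2 (⟨QuotientGroup.mk' C g, hg⟩ : S'))
            exact mul_inv_eq_iff_eq_mul.mp h3⟩
          rw [e, Subgroup.mem_bot] at hzF
          exact Subtype.ext (Subtype.ext hzF)
        · have hRC : R ≤ C := fun g hg n hn => ((e.ge hn).2 g hg).symm
          apply hS1
          rw [← Subgroup.card_map_of_injective Db.subtype_injective, Subgroup.card_eq_one, eq_bot_iff]
          intro z hz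
          obtain ⟨g, rfl⟩ := QuotientGroup.mk'_surjective C z
          rw [Subgroup.mem_bot, QuotientGroup.mk'_apply, QuotientGroup.eq_one_iff]
          exact hRC hz
      refine ⟨Nat.card Db, ?_, fun a ha => ?_⟩
      · refine Nat.Coprime.symm ((hr.coprime_iff_not_dvd).mpr fun hd => ?_)
        apply S.ne_bot_of_dvd_card hd
        exact Subgroup.card_eq_one.mp hScop
      · rw [← QuotientGroup.eq_one_iff, ← QuotientGroup.mk'_apply, map_pow]
        have := congrArg Subtype.val (pow_card_eq_one' (x := (⟨QuotientGroup.mk' C a, ha⟩ : Db)))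
        rw [SubmonoidClass.coe_pow] at this
        exact this
    obtain ⟨b, hbDb, hb1⟩ := ClassSizes.exists_ne_one_of_ne_bot Db hDb1
    obtain ⟨d, rfl⟩ := QuotientGroup.mk'_surjective C b
    have hdC : d ∉ C := fun e => hb1 ((QuotientGroup.eq_one_iff d).mpr e)
    set L := ((mov N hab d).range).map N.subtype
    have hLn : L.Normal := ⟨fun z hz g => by
      obtain ⟨_, ⟨x, rfl⟩, rfl⟩ := hz
      have hgd : g * d * g⁻¹ ∈ D := hDn.conj_mem d hbDb g
      have hgC : g * d * g⁻¹ ∉ C := fun e => hdC (by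
        have hCn : C.Normal := inferInstance
        simpa [mul_assoc] using hCn.conj_mem _ e g⁻¹)
      refine ⟨⟨g * (mov N hab d x : G) * g⁻¹, hNn.conj_mem _ (mov N hab d x).2 g⟩, ?_, rfl⟩
      rw [range_eq N hab hNp hidx (h := d) (k := g * d * g⁻¹) hdC hgC ⟨q, hq, hDq d hbDb⟩
        ⟨1, Nat.coprime_one_left r, by rw [pow_one]; exact hDC d hbDb _ hgd⟩]
      refine ⟨⟨g * x * g⁻¹, hNn.conj_mem _ x.2 g⟩, Subtype.ext ?_⟩
      rw [mov_apply]
      show _ = g * ((x : G)⁻¹ * (d * x * d⁻¹)) * g⁻¹
      group⟩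
    have hLr : Nat.card L = r := by
      rw [Subgroup.card_map_of_injective N.subtype_injective]
      exact (card_range N hab hidx d hdC).1
    rcases hNmin L hLn (Subgroup.map_subtype_le _) with e | e
    · rw [e, Subgroup.card_bot] at hLr
      exact absurd hLr.symm hr.ne_one
    · rw [← e]; exact isCyclic_of_prime_card hLr

theorem isSupersolvable (h : SF G) : Cfsg.IsSupersolvable G := isSupersolvable_aux _ G rfl h

/-- A `p`-group with class sizes at most `p` has derived subgroup of order at most `p`. -/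
theorem breadth_one {Q : Type*} [Group Q] [Finite Q] {p : ℕ} [hp : Fact p.Prime] (hQ : IsPGroup p Q)
    (h : ∀ x : Q, (Subgroup.centralizer ({x} : Set Q)).index ∣ p) : Nat.card (commutator Q) ∣ p := by
  have hne : ∀ x : Q, x ∉ Subgroup.center Q → (Subgroup.centralizer ({x} : Set Q)).index = p := fun x hx =>
    ((Nat.dvd_prime hp.out).mp (h x)).resolve_left fun e => hx (Subgroup.mem_center_iff.mpr fun g =>
      Subgroup.mem_centralizer_singleton_iff.mp ((Subgroup.index_eq_one.mp e).ge (Subgroup.mem_top g)))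
  have hΦ : frattini Q ≤ Subgroup.center Q := fun z hz => Subgroup.mem_center_iff.mpr fun x => by
    by_cases hx : x ∈ Subgroup.center Q
    · exact ((Subgroup.mem_center_iff.mp hx) z).symm
    · have hco : IsCoatom (Subgroup.centralizer ({x} : Set Q)) := by
        refine ⟨fun e => ?_, fun B hB => ?_⟩
        · have := hne x hx
          rw [e, Subgroup.index_top] at this
          exact hp.out.ne_one this.symm
        · have h1 := Subgroup.index_dvd_of_le hB.le
          rw [hne x hx] at h1
          rcases (Nat.dvd_prime hp.out).mp h1 with e | e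
          · exact Subgroup.index_eq_one.mp e
          · refine absurd (Subgroup.eq_of_le_of_card_ge hB.le ?_) hB.ne
            have e1 := (Subgroup.centralizer ({x} : Set Q)).index_mul_card
            have e2 := B.index_mul_card
            rw [hne x hx] at e1; rw [e, ← e1] at e2
            exact (Nat.eq_of_mul_eq_mul_left hp.out.pos e2).le
      exact (Subgroup.mem_centralizer_singleton_iff.mp (frattini_le_coatom hco hz)).symm
  have hQ' : commutator Q ≤ Subgroup.center Q := le_trans (fun z hz => Transfer.mem_frattini_of_forall_hom hQ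
    fun {A} _ hA δ => by
      haveI : IsCyclic A := isCyclic_of_prime_card hA.out
      letI := IsCyclic.commGroup (α := A)
      exact Abelianization.commutator_subset_ker δ hz) hΦ
  let φ : Q → (Q →* Q) := fun x =>
    { toFun := fun g => ⁅g, x⁆
      map_one' := commutatorElement_one_left x
      map_mul' := fun a b => by
        have hc := Subgroup.mem_center_iff.mp (hQ' (Subgroup.commutator_mem_commutator (Subgroup.mem_top b) (Subgroup.mem_top x)))
        calc ⁅a * b, x⁆ = a * ⁅b, x⁆ * (x * a⁻¹ * x⁻¹) := by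
              simp only [commutatorElement_def]; group
          _ = (a * (x * a⁻¹ * x⁻¹)) * ⁅b, x⁆ := by rw [mul_assoc, ← hc (x * a⁻¹ * x⁻¹), ← mul_assoc]
          _ = ⁅a, x⁆ * ⁅b, x⁆ := by simp only [commutatorElement_def]; group }
  have hφ : ∀ x g, φ x g = ⁅g, x⁆ := fun _ _ => rfl
  have hker : ∀ x g, φ x g = 1 ↔ g ∈ Subgroup.centralizer ({x} : Set Q) := fun x g => by
    rw [hφ, commutatorElement_eq_one_iff_mul_comm, Subgroup.mem_centralizer_singleton_iff]
  have hrange : ∀ x, x ∉ Subgroup.center Q → Nat.card (φ x).range = p := fun x hx => by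
    rw [← hne x hx, ← Subgroup.index_ker]
    congr 1
    ext g
    rw [MonoidHom.mem_ker, hker]
  have line : ∀ {A B : Subgroup Q}, Nat.card A = p → Nat.card B = p → ∀ y, y ≠ 1 → y ∈ A → y ∈ B → A = B := by
    intro A B hA hB y hy hyA hyB
    have key : ∀ (D : Subgroup Q), Nat.card D = p → y ∈ D → Subgroup.zpowers y = D := fun D hD hyD =>
      Subgroup.eq_of_le_of_card_ge (Subgroup.zpowers_le.mpr hyD) (by
        rw [hD, Nat.card_zpowers]
        exact (((Nat.dvd_prime hp.out).mp (hD ▸ Subgroup.orderOf_mk (H := D) y hyD ▸ orderOf_dvd_natCard _)).resolve_left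
          (fun e => hy (orderOf_eq_one_iff.mp e))).ge)
    rw [← key A hA hyA, key B hB hyB]
  have hdiff : ∀ x y, x ∉ Subgroup.center Q → y ∉ Subgroup.center Q →
      Subgroup.centralizer ({x} : Set Q) ≠ Subgroup.centralizer ({y} : Set Q) → (φ x).range = (φ y).range := by
    intro x y hx hy hne'
    have hnle : ∀ a b, a ∉ Subgroup.center Q → b ∉ Subgroup.center Q →
        Subgroup.centralizer ({a} : Set Q) ≠ Subgroup.centralizer ({b} : Set Q) →
        ∃ g, g ∈ Subgroup.centralizer ({a} : Set Q) ∧ g ∉ Subgroup.centralizer ({b} : Set Q) := by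
      intro a b ha hb hab
      by_contra hno
      push Not at hno
      refine hab (Subgroup.eq_of_le_of_card_ge hno ?_)
      have e1 := (Subgroup.centralizer ({a} : Set Q)).index_mul_card
      have e2 := (Subgroup.centralizer ({b} : Set Q)).index_mul_card
      rw [hne a ha] at e1; rw [hne b hb, ← e1] at e2
      exact (Nat.eq_of_mul_eq_mul_left hp.out.pos e2).le
    have hmul : ∀ g, φ (x * y) g = φ x g * φ y g := fun g => by
      have hc := Subgroup.mem_center_iff.mp (hQ' (Subgroup.commutator_mem_commutator (Subgroup.mem_top g) (Subgroup.mem_top y)))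
      simp only [hφ]
      calc ⁅g, x * y⁆ = ⁅g, x⁆ * (x * ⁅g, y⁆ * x⁻¹) := by simp only [commutatorElement_def]; group
        _ = ⁅g, x⁆ * ⁅g, y⁆ := by rw [hc x, mul_inv_cancel_right]
    obtain ⟨g, hg, hg'⟩ := hnle x y hx hy hne'
    obtain ⟨g', hg1, hg2⟩ := hnle y x hy hx (Ne.symm hne')
    have e1 : φ (x * y) g = φ y g := by rw [hmul, (hker x g).mpr hg, one_mul]
    have e2 : φ (x * y) g' = φ x g' := by rw [hmul, (hker y g').mpr hg1, mul_one]
    have hxy : x * y ∉ Subgroup.center Q := fun hc => hg' ((hker y g).mp (by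
      rw [← e1, hφ, commutatorElement_eq_one_iff_mul_comm]
      exact Subgroup.mem_center_iff.mp hc g))
    have r1 := line (hrange _ hxy) (hrange y hy) _ (fun e => hg' ((hker y g).mp e)) ⟨g, e1⟩ ⟨g, rfl⟩
    have r2 := line (hrange _ hxy) (hrange x hx) _ (fun e => hg2 ((hker x g').mp e)) ⟨g', e2⟩ ⟨g', rfl⟩
    rw [← r1, ← r2]
  by_cases hab : ∀ x, x ∈ Subgroup.center Q
  · have hbot : commutator Q = ⊥ := by
      rw [commutator_def, Subgroup.commutator_eq_bot_iff_le_centralizer]
      exact fun a _ b _ => (Subgroup.mem_center_iff.mp (hab a) b)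
    rw [hbot, Subgroup.card_bot]; exact one_dvd p
  push Not at hab
  obtain ⟨x0, hx0⟩ := hab
  have hsame : ∀ x, x ∉ Subgroup.center Q → (φ x).range = (φ x0).range := by
    intro x hx
    by_cases hc : Subgroup.centralizer ({x} : Set Q) = Subgroup.centralizer ({x0} : Set Q)
    · obtain ⟨z, hz⟩ : ∃ z, z ∉ Subgroup.centralizer ({x0} : Set Q) := by
        by_contra hno
        push Not at hno
        exact hx0 (Subgroup.mem_center_iff.mpr fun g => Subgroup.mem_centralizer_singleton_iff.mp (hno g))
      have hzc : z ∉ Subgroup.center Q := fun hc' => hz (Subgroup.mem_centralizer_singleton_iff.mpr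
        ((Subgroup.mem_center_iff.mp hc') x0).symm)
      have hne' : Subgroup.centralizer ({x0} : Set Q) ≠ Subgroup.centralizer ({z} : Set Q) := fun e =>
        hz (e.ge (Subgroup.mem_centralizer_singleton_iff.mpr rfl))
      rw [hdiff x z hx hzc (hc ▸ hne'), hdiff x0 z hx0 hzc hne']
    · exact hdiff x x0 hx hx0 hc
  refine (Subgroup.card_dvd_of_le (K := (φ x0).range) ?_).trans (hrange x0 hx0).dvd
  rw [commutator_def]
  refine Subgroup.commutator_le.mpr fun a _ b _ => ?_
  by_cases hb : b ∈ Subgroup.center Q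
  · rw [commutatorElement_eq_one_iff_mul_comm.mpr (Subgroup.mem_center_iff.mp hb a)]
    exact one_mem _
  · rw [← hsame b hb]; exact ⟨a, rfl⟩

/-- In a group with a central Sylow subgroup the derived subgroup avoids it. -/
theorem eq_one_of_central {Q : Type*} [Group Q] [Finite Q] {p : ℕ} [hp : Fact p.Prime] (P : Sylow p Q)
    (hPZ : (P : Subgroup Q) ≤ Subgroup.center Q) {z : Q} (hz : z ∈ commutator Q) (hzP : z ∈ (P : Subgroup Q)) :
    z = 1 := by
  letI : CommGroup (P : Subgroup Q) :=
    { (inferInstance : Group (P : Subgroup Q)) with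
      mul_comm := fun a b => Subtype.ext (Subgroup.mem_center_iff.mp (hPZ b.2) a) }
  let τ : Q →* (P : Subgroup Q) := MonoidHom.transfer (MonoidHom.id (P : Subgroup Q))
  have hτ : τ z = 1 := Abelianization.commutator_subset_ker τ hz
  have key : ∀ (k : ℕ) (g₀ : Q), g₀⁻¹ * z ^ k * g₀ ∈ (P : Subgroup Q) → g₀⁻¹ * z ^ k * g₀ = z ^ k := by
    intro k g₀ _
    rw [mul_assoc, ← Subgroup.mem_center_iff.mp (pow_mem (hPZ hzP) k) g₀, inv_mul_cancel_left]
  rw [show τ z = _ from MonoidHom.transfer_eq_pow _ z key] at hτ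
  have hpow : z ^ (P : Subgroup Q).index = 1 := congrArg Subtype.val hτ
  obtain ⟨j, hj⟩ := P.2 ⟨z, hzP⟩
  have hj' : z ^ p ^ j = 1 := congrArg Subtype.val hj
  have := pow_gcd_eq_one.mpr ⟨hj', hpow⟩
  rwa [Nat.Coprime.gcd_eq_one ((hp.out.coprime_iff_not_dvd.mpr P.not_dvd_index).pow_left j), pow_one] at this

/-- With a normal Sylow `r`-subgroup the derived subgroup meets it in at most `r` elements. -/
theorem normal_sylow_bound (h : SF G) {r : ℕ} [hr : Fact r.Prime] (P : Sylow r G)
    (hPn : (P : Subgroup G).Normal) : Nat.card ↥((P : Subgroup G) ⊓ commutator G) ∣ r := by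
  haveI := hPn
  have hidx := card_dvd_mul_of_normal h (P : Subgroup G) P.2
  have hcop : ∀ g : G, (P : Subgroup G).index.Coprime r ∧ g ^ (P : Subgroup G).index ∈ (P : Subgroup G) := fun g =>
    ⟨(hr.out.coprime_iff_not_dvd.mpr P.not_dvd_index).symm, Subgroup.pow_index_mem _ g⟩
  suffices key : ∃ L : Subgroup G, L.Normal ∧ Nat.card L ∣ r ∧ L ≤ (P : Subgroup G) ∧
      ∀ g x : G, x ∈ (P : Subgroup G) → x⁻¹ * (g * x * g⁻¹) ∈ L by
    obtain ⟨L, hLn, hL, hLP, hmove⟩ := key
    refine (Subgroup.card_dvd_of_le (K := L) ?_).trans hL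
    rintro z ⟨hzP, hzG⟩
    let Pb : Sylow r (G ⧸ L) := P.mapSurjective (f := QuotientGroup.mk' L) (QuotientGroup.mk'_surjective L)
    rw [← QuotientGroup.eq_one_iff]
    refine eq_one_of_central Pb ?_ ?_ ⟨z, hzP, rfl⟩
    · rintro _ ⟨x, hx, rfl⟩
      refine Subgroup.mem_center_iff.mpr fun gb => ?_
      obtain ⟨g, rfl⟩ := QuotientGroup.mk'_surjective L gb
      rw [← map_mul, ← map_mul]
      refine (QuotientGroup.eq.mpr ?_).symm
      have := hLn.conj_mem _ (hmove g x hx) g⁻¹
      simpa [mul_assoc] using this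
    · have hm : QuotientGroup.mk' L z ∈ (commutator G).map (QuotientGroup.mk' L) := ⟨z, hzG, rfl⟩
      rw [commutator_def, Subgroup.map_commutator, Subgroup.map_top_of_surjective _
        (QuotientGroup.mk'_surjective L), ← commutator_def] at hm
      exact hm
  by_cases htriv : ∀ g : G, (orderOf g).Coprime r → g ∈ Subgroup.centralizer ((P : Subgroup G) : Set G)
  · set L := (commutator (P : Subgroup G)).map (P : Subgroup G).subtype
    refine ⟨L, ConjAct.normal_of_characteristic_of_normal, ?_, Subgroup.map_subtype_le _, fun g x hx => ?_⟩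
    · rw [Subgroup.card_map_of_injective (P : Subgroup G).subtype_injective]
      refine breadth_one P.2 fun y => ?_
      have hy := hidx (y : G)
      have e : Subgroup.centralizer ({y} : Set (P : Subgroup G)) =
          ((P : Subgroup G) ⊓ Subgroup.centralizer ({(y : G)} : Set G)).subgroupOf (P : Subgroup G) := by
        ext z
        rw [Subgroup.mem_subgroupOf, Subgroup.mem_inf, Subgroup.mem_centralizer_singleton_iff,
          Subgroup.mem_centralizer_singleton_iff]
        exact ⟨fun e => ⟨z.2, congrArg Subtype.val e⟩, fun e => Subtype.ext e.2⟩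
      rw [e]
      set M := ((P : Subgroup G) ⊓ Subgroup.centralizer ({(y : G)} : Set G)).subgroupOf (P : Subgroup G)
      rw [← M.index_mul_card,
        ← Nat.card_congr (Subgroup.subgroupOfEquivOfLe (inf_le_left : (P : Subgroup G) ⊓ Subgroup.centralizer ({(y : G)} : Set G) ≤ _)).toEquiv] at hy
      exact Nat.dvd_of_mul_dvd_mul_right Nat.card_pos hy
    · obtain ⟨a, b, -, hb, hac, ⟨j, hj⟩, rfl⟩ := Transfer.exists_pPart_decomp (p := r) g
      have hbP : b ∈ (P : Subgroup G) := Transfer.mem_of_isPGroup_zpowers_of_mem_normalizer P hj (by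
        rw [Subgroup.normalizer_eq_top_iff.mpr hPn]; exact Subgroup.mem_top b)
      have hbx : b * x * b⁻¹ ∈ (P : Subgroup G) := mul_mem (mul_mem hbP hx) (inv_mem hbP)
      rw [show a * b * x * (a * b)⁻¹ = a * (b * x * b⁻¹) * a⁻¹ by group, ← htriv a hac _ hbx, mul_inv_cancel_right]
      refine ⟨⁅(⟨x, hx⟩ : (P : Subgroup G))⁻¹, ⟨b, hbP⟩⁆, Subgroup.commutator_mem_commutator (Subgroup.mem_top _) (Subgroup.mem_top _), ?_⟩
      simp [commutatorElement_def]
      group
  push Not at htriv
  obtain ⟨a, hac, ha⟩ := htriv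
  -- the Sylow subgroup is abelian
  have hhyper : ∀ b : G, b ∉ Subgroup.centralizer ((P : Subgroup G) : Set G) →
      Nat.card P = r * Nat.card ↥((P : Subgroup G) ⊓ Subgroup.centralizer ({b} : Set G)) := by
    intro b hb
    set R := (P : Subgroup G) ⊓ Subgroup.centralizer ({b} : Set G)
    obtain ⟨c, hc⟩ := Subgroup.card_dvd_of_le (inf_le_left : R ≤ (P : Subgroup G))
    have h1 : Nat.card (P : Subgroup G) ∣ r * Nat.card R := hidx b
    rw [hc, mul_comm r] at h1
    have h2 := Nat.dvd_of_mul_dvd_mul_left Nat.card_pos h1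
    rcases (Nat.dvd_prime hr.out).mp h2 with e | e
    · exact absurd (fun y hy => Subgroup.mem_centralizer_singleton_iff.mp
        ((Subgroup.eq_of_le_of_card_ge inf_le_left (by rw [hc, e, mul_one])).ge hy).2) hb
    · rw [hc, e, mul_comm]
  set M := (P : Subgroup G) ⊓ Subgroup.centralizer ({a} : Set G) with hMdef
  have haM : ∀ m ∈ M, a * m = m * a := fun m hm => (Subgroup.mem_centralizer_singleton_iff.mp hm.2).symm
  obtain ⟨kk, hkk⟩ : ∃ kk : ℕ, Nat.card M = kk := ⟨_, rfl⟩
  have hMab : ∀ m ∈ M, ∀ m' ∈ M, m * m' = m' * m := by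
    intro m hm m' hm'
    set R := (P : Subgroup G) ⊓ Subgroup.centralizer ({a * m} : Set G)
    have hle : R ≤ M ⊓ Subgroup.centralizer ({m} : Set G) := by
      intro y hy
      have hy' : Commute y (a * m) := Subgroup.mem_centralizer_singleton_iff.mp hy.2
      obtain ⟨j, hj⟩ := P.2 ⟨m, hm.1⟩
      have hmj : m ^ r ^ j = 1 := congrArg Subtype.val hj
      have hcomm : Commute a m := haM m hm
      have h1 : Commute y (a ^ r ^ j) := by
        have := hy'.pow_right (r ^ j)
        rwa [hcomm.mul_pow, hmj, mul_one] at this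
      obtain ⟨i, hi⟩ := exists_pow_eq_self_of_coprime ((hac.pow_right j).symm : (r ^ j).Coprime (orderOf a))
      have h2 : Commute y a := hi ▸ h1.pow_right i
      have h3 : Commute y m := by
        have := h2.inv_right.mul_right hy'
        rwa [inv_mul_cancel_left] at this
      exact ⟨⟨hy.1, Subgroup.mem_centralizer_singleton_iff.mpr h2.eq⟩, Subgroup.mem_centralizer_singleton_iff.mpr h3.eq⟩
    have hamP : a * m ∉ Subgroup.centralizer ((P : Subgroup G) : Set G) := fun hc => ha fun y hy => by
      have hyR : y ∈ R := ⟨hy, Subgroup.mem_centralizer_singleton_iff.mpr (hc y hy)⟩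
      exact Subgroup.mem_centralizer_singleton_iff.mp ((hle hyR).1.2)
    have e1 : Nat.card P = r * Nat.card R := hhyper _ hamP
    have e2 : Nat.card P = r * Nat.card M := hhyper a ha
    have hcardR : Nat.card R = Nat.card M := Nat.eq_of_mul_eq_mul_left hr.out.pos (e1.symm.trans e2)
    have hRM : R = M := Subgroup.eq_of_le_of_card_ge (hle.trans inf_le_left) hcardR.ge
    exact (Subgroup.mem_centralizer_singleton_iff.mp (hle (hRM.ge hm')).2).symm
  have hcardP : Nat.card P = r * Nat.card M := hhyper a ha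
  have hmax : ∀ B : Subgroup G, M ≤ B → B ≤ (P : Subgroup G) → (∃ y ∈ B, y ∉ M) → B = (P : Subgroup G) := by
    intro B h1 h2 ⟨y, hy, hyM⟩
    refine Subgroup.eq_of_le_of_card_ge h2 ?_
    obtain ⟨c, hc⟩ := Subgroup.card_dvd_of_le h1
    obtain ⟨d, hd⟩ := Subgroup.card_dvd_of_le h2
    rw [hc, hcardP, mul_comm r, mul_assoc] at hd
    have h3 : r = c * d := Nat.eq_of_mul_eq_mul_left Nat.card_pos hd
    rcases (Nat.dvd_prime hr.out).mp (Dvd.intro d h3.symm) with e | e
    · exact absurd ((Subgroup.eq_of_le_of_card_ge h1 (by rw [hc, e, mul_one])).ge hy) hyM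
    · rw [hc, e, hcardP, mul_comm]
  have hab : ∀ x ∈ (P : Subgroup G), ∀ y ∈ (P : Subgroup G), x * y = y * x := by
    -- a move outside `M` centralises `M`
    obtain ⟨x, hx, hxM⟩ : ∃ x ∈ (P : Subgroup G), x ∉ M := by
      by_contra hno
      push Not at hno
      exact ha fun y hy => Subgroup.mem_centralizer_singleton_iff.mp (hno y hy).2
    set y := x⁻¹ * (a * x * a⁻¹)
    have hyP : y ∈ (P : Subgroup G) := mul_mem (inv_mem hx) (hPn.conj_mem x hx a)
    have hyM : y ∉ M := fun hy => hxM ⟨hx, Subgroup.mem_centralizer_singleton_iff.mpr (by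
      have h1 : y = 1 := eq_one_of_shift (P : Subgroup G) P.2
        ⟨orderOf a, hac, by rw [pow_orderOf_eq_one]; exact one_mem _⟩ hx hyP
        (show a * x * a⁻¹ = x * y by simp [y]) (haM y hy)
      exact (mul_inv_eq_iff_eq_mul.mp (inv_mul_eq_one.mp h1).symm).symm)⟩
    have hyc : ∀ m ∈ M, y * m = m * y := by
      intro m hm
      set M' := M.subgroupOf (P : Subgroup G)
      haveI : M'.Normal := by
        haveI : Fact r.Prime := hr
        have hidx' : M'.index = r := by
          have h1 := M'.index_mul_card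
          rw [Nat.card_congr (Subgroup.subgroupOfEquivOfLe (inf_le_left : M ≤ _)).toEquiv, hcardP] at h1
          exact Nat.eq_of_mul_eq_mul_right Nat.card_pos h1
        have hco : IsCoatom M' := by
          refine ⟨fun e => ?_, fun B hB => ?_⟩
          · rw [e, Subgroup.index_top] at hidx'; exact hr.out.ne_one hidx'.symm
          · obtain ⟨z, hzB, hzM⟩ := SetLike.exists_of_lt hB
            have := hmax (B.map (P : Subgroup G).subtype)
              (fun w hw => ⟨⟨w, hw.1⟩, hB.le (show (⟨w, hw.1⟩ : (P : Subgroup G)) ∈ M' from hw), rfl⟩)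
              (Subgroup.map_subtype_le B) ⟨z, ⟨z, hzB, rfl⟩, hzM⟩
            apply Subgroup.map_injective (P : Subgroup G).subtype_injective
            rw [this, ← MonoidHom.range_eq_map, Subgroup.range_subtype]
        exact (Transfer.index_eq_of_isCoatom P.2 hco).1
      have hxm : x * m * x⁻¹ ∈ M :=
        (inferInstance : M'.Normal).conj_mem ⟨m, hm.1⟩ (show (⟨m, hm.1⟩ : (P : Subgroup G)) ∈ M' from hm) ⟨x, hx⟩
      have hfix := haM _ hxm
      have h1 : (a * x * a⁻¹) * m * (a * x * a⁻¹)⁻¹ = x * m * x⁻¹ := by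
        calc (a * x * a⁻¹) * m * (a * x * a⁻¹)⁻¹ = a * x * (a⁻¹ * (m * a)) * x⁻¹ * a⁻¹ := by group
          _ = a * x * (a⁻¹ * (a * m)) * x⁻¹ * a⁻¹ := by rw [haM m hm]
          _ = a * (x * m * x⁻¹) * a⁻¹ := by group
          _ = x * m * x⁻¹ := by rw [hfix, mul_inv_cancel_right]
      have h2 : y * m * y⁻¹ = m := by
        calc y * m * y⁻¹ = x⁻¹ * ((a * x * a⁻¹) * m * (a * x * a⁻¹)⁻¹) * x := by simp only [y]; group
          _ = m := by rw [h1]; group
      exact mul_inv_eq_iff_eq_mul.mp h2
    have hMc : ∀ m ∈ M, ∀ z ∈ (P : Subgroup G), z * m = m * z := by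
      intro m hm
      have hB := hmax ((P : Subgroup G) ⊓ Subgroup.centralizer ({m} : Set G))
        (fun w hw => ⟨hw.1, Subgroup.mem_centralizer_singleton_iff.mpr (hMab w hw m hm)⟩) inf_le_left
        ⟨y, ⟨hyP, Subgroup.mem_centralizer_singleton_iff.mpr (hyc m hm)⟩, hyM⟩
      exact fun z hz => Subgroup.mem_centralizer_singleton_iff.mp (hB.ge hz).2
    intro u hu v hv
    by_cases hvM : v ∈ M
    · exact hMc v hvM u hu
    have hB := hmax ((P : Subgroup G) ⊓ Subgroup.centralizer ({v} : Set G))
      (fun w hw => ⟨hw.1, Subgroup.mem_centralizer_singleton_iff.mpr (hMc w hw v hv).symm⟩) inf_le_left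
      ⟨v, ⟨hv, Subgroup.mem_centralizer_singleton_iff.mpr rfl⟩, hvM⟩
    exact Subgroup.mem_centralizer_singleton_iff.mp (hB.ge hu).2
  have hcopAll : ∀ g : G, Cop r (P : Subgroup G) g := fun g =>
    ⟨_, (hcop g).1, fun y hy => hab y hy _ (hcop g).2⟩
  set L := ((mov (P : Subgroup G) hab a).range).map (P : Subgroup G).subtype
  refine ⟨L, ⟨fun z hz g => ?_⟩, ?_, Subgroup.map_subtype_le _, fun g x hx => ?_⟩
  · obtain ⟨_, ⟨x, rfl⟩, rfl⟩ := hz
    have hne : g * a * g⁻¹ ∉ Subgroup.centralizer ((P : Subgroup G) : Set G) := fun e => ha (by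
      have hCn : (Subgroup.centralizer ((P : Subgroup G) : Set G)).Normal := inferInstance
      simpa [mul_assoc] using hCn.conj_mem _ e g⁻¹)
    refine ⟨⟨g * (mov (P : Subgroup G) hab a x : G) * g⁻¹, hPn.conj_mem _ (mov (P : Subgroup G) hab a x).2 g⟩, ?_, rfl⟩
    rw [range_eq (P : Subgroup G) hab P.2 hidx ha hne (hcopAll a) (hcopAll _)]
    refine ⟨⟨g * x * g⁻¹, hPn.conj_mem _ x.2 g⟩, Subtype.ext ?_⟩
    rw [mov_apply]
    show _ = g * ((x : G)⁻¹ * (a * x * a⁻¹)) * g⁻¹
    group
  · rw [Subgroup.card_map_of_injective (P : Subgroup G).subtype_injective, (card_range _ hab hidx a ha).1]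
  · by_cases hg : g ∈ Subgroup.centralizer ((P : Subgroup G) : Set G)
    · rw [← hg x hx, mul_inv_cancel_right, inv_mul_cancel]; exact one_mem _
    · exact ⟨mov (P : Subgroup G) hab g ⟨x, hx⟩,
        (range_eq (P : Subgroup G) hab P.2 hidx ha hg (hcopAll a) (hcopAll _)).ge ⟨_, rfl⟩, rfl⟩

theorem commutator_aux : ∀ (n : ℕ) (G : Type u) [Group G] [Finite G], Nat.card G = n → SF G →
    ∀ (r : ℕ), r.Prime → ¬ r ^ 2 ∣ Nat.card (commutator G) := by
  intro n
  induction n using Nat.strong_induction_on with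
  | _ n IH =>
    intro G _ _ hn h r hr hd
    have hr1 : r ∣ Nat.card G := ((dvd_pow_self r two_ne_zero).trans hd).trans (Subgroup.card_subgroup_dvd_card _)
    haveI := Fact.mk hr
    haveI : Nontrivial G := Finite.one_lt_card_iff_nontrivial.mp
      (lt_of_lt_of_le hr.one_lt (Nat.le_of_dvd Nat.card_pos hr1))
    obtain ⟨q, hq, hqd, hmax⟩ := Solvable.Huppert.exists_max_prime (G := G)
    haveI := Fact.mk hq
    obtain ⟨Q⟩ : Nonempty (Sylow q G) := inferInstance
    have hQn := Solvable.sylow_normal_of_max_prime (isSupersolvable h) hmax Q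
    by_cases hqr : q = r
    · subst hqr
      have hb := normal_sylow_bound h Q hQn
      obtain ⟨S, hS⟩ := Sylow.exists_subgroup_card_pow_prime q hd
      haveI := Sylow.unique_of_normal Q hQn
      obtain ⟨Q', hQ'⟩ := ((IsPGroup.of_card hS).map (commutator G).subtype).exists_le_sylow
      rw [Subsingleton.elim Q' Q] at hQ'
      have h1 := Subgroup.card_dvd_of_le (le_inf hQ' (Subgroup.map_subtype_le S))
      rw [Subgroup.card_map_of_injective (commutator G).subtype_injective, hS] at h1
      have h2 := Nat.le_of_dvd hq.pos (h1.trans hb)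
      have := hq.two_le
      nlinarith
    · haveI := hQn
      have hlt : Nat.card (G ⧸ (Q : Subgroup G)) < n := by
        have h1 := (Q : Subgroup G).index_mul_card
        rw [Subgroup.index_eq_card, hn] at h1
        have h2 : 1 < Nat.card (Q : Subgroup G) := Finite.one_lt_card_iff_nontrivial.mpr
          ((Subgroup.nontrivial_iff_ne_bot _).mpr (Q.ne_bot_of_dvd_card hqd))
        have := Nat.card_pos (α := G ⧸ (Q : Subgroup G))
        nlinarith
      refine IH _ hlt (G ⧸ (Q : Subgroup G)) rfl (sf_quotient h _) r hr ?_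
      set π := QuotientGroup.mk' (Q : Subgroup G)
      have himg : (commutator G).map π = commutator (G ⧸ (Q : Subgroup G)) := by
        rw [commutator_def, Subgroup.map_commutator, Subgroup.map_top_of_surjective _
          (QuotientGroup.mk'_surjective _), ← commutator_def]
      let f := π.comp (commutator G).subtype
      have hf : Nat.card f.ker * Nat.card f.range = Nat.card (commutator G) := by
        rw [← Subgroup.index_ker, Subgroup.card_mul_index]
      have hrange : f.range = (commutator G).map π := by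
        rw [MonoidHom.range_comp, Subgroup.range_subtype]
      have hkp : IsPGroup q f.ker := by
        rintro ⟨z, hz⟩
        have hzQ : (z : G) ∈ (Q : Subgroup G) := (QuotientGroup.eq_one_iff _).mp hz
        obtain ⟨j, hj⟩ := Q.2 ⟨_, hzQ⟩
        exact ⟨j, Subtype.ext (Subtype.ext (by simpa using congrArg Subtype.val hj))⟩
      obtain ⟨j, hj⟩ := IsPGroup.iff_card.mp hkp
      rw [← himg, ← hrange]
      refine Nat.Coprime.dvd_of_dvd_mul_left ?_ (hf.symm ▸ hd)
      rw [hj]
      exact Nat.Coprime.pow _ _ ((Nat.coprime_primes hr hq).mpr (Ne.symm hqr))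

theorem squarefree_card_commutator (h : SF G) : Squarefree (Nat.card (commutator G)) := by
  rw [Nat.squarefree_iff_prime_squarefree]
  intro r hr hd
  exact commutator_aux _ G rfl h r hr (by rwa [pow_two])

end Cfsg.Agent.Lib.Frobenius.SquarefreeClasses
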