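import Cfsg.Agent.Lib.Frobenius.TIHall
import Cfsg.Agent.Lib.Frobenius.Kernel
import Cfsg.Agent.Lib.Characters.TI
import Cfsg.Agent.Lib.Characters.Kernel
import Mathlib

/-!
A Hall trivial-intersection subgroup with a normal complement in its normalizer has a normal
complement, and acts like a Frobenius complement.
-/

set_option autoImplicit false
set_option linter.style.haveILetI false
set_option maxHeartbeats 1000000

namespace Cfsg.Agent.Lib.Frobenius.TIComplement

open Cfsg.Agent.Lib Cfsg.Agent.Lib.Characters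

universe u

variable {G : Type u} [Group G] [Finite G] {H : Subgroup G}

/-- The centralizing complement inside the normalizer. -/
theorem commute_of_complement {K : Subgroup (Subgroup.normalizer (H : Set G))} [K.Normal]
    (hK : K.IsComplement' (H.subgroupOf (Subgroup.normalizer (H : Set G)))) {h : G} (hh : h ∈ H)
    {k : Subgroup.normalizer (H : Set G)} (hk : k ∈ K) : Commute h (k : G) := by
  haveI := Subgroup.normal_in_normalizer (H := H)
  have := Subgroup.commute_of_normal_of_disjoint _ _ ‹K.Normal› this hK.disjoint k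
    ⟨h, Subgroup.le_normalizer hh⟩ hk hh
  exact (congrArg Subtype.val this.eq : _).symm

/-- Characters of the subgroup extend, with the elements of order prime to it in the kernel. -/
theorem exists_extension [Fintype G] (hTI : Cfsg.IsTISubset (H : Set G))
    (hHall : (Nat.card H).Coprime H.index) {K : Subgroup (Subgroup.normalizer (H : Set G))} [K.Normal]
    (hK : K.IsComplement' (H.subgroupOf (Subgroup.normalizer (H : Set G)))) (φ : IrrCharacter H) :
    ∃ χ : IrrCharacter G, (∀ h : H, (χ : G → ℂ) h = (φ : H → ℂ) h) ∧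
      ∀ x : G, (orderOf x).Coprime (Nat.card H) → (χ : G → ℂ) x = (χ : G → ℂ) 1 := by
  classical
  let _ : Fintype (Subgroup.normalizer (H : Set G)) := Fintype.ofFinite (Subgroup.normalizer (H : Set G))
  let _ : Fintype H := Fintype.ofFinite H
  by_cases htriv : (φ : H → ℂ) = fun _ => 1
  · exact ⟨trivIrr G, fun h => by rw [htriv]; rfl, fun _ _ => rfl⟩
  have hHN : H ≤ (Subgroup.normalizer (H : Set G)) := Subgroup.le_normalizer
  -- the projection onto `H`
  let pr : (Subgroup.normalizer (H : Set G)) →* H := ((Subgroup.subgroupOfEquivOfLe hHN).toMonoidHom.comp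
    hK.symm.QuotientMulEquiv.toMonoidHom).comp (QuotientGroup.mk' K)
  have hprsurj : Function.Surjective pr := by
    intro h
    obtain ⟨a, ha⟩ := hK.symm.QuotientMulEquiv.surjective ((Subgroup.subgroupOfEquivOfLe hHN).symm h)
    obtain ⟨n, rfl⟩ := QuotientGroup.mk'_surjective K a
    refine ⟨n, ?_⟩
    show Subgroup.subgroupOfEquivOfLe hHN (hK.symm.QuotientMulEquiv (QuotientGroup.mk' K n)) = h
    rw [ha, MulEquiv.apply_symm_apply]
  have hprH : ∀ h : H, pr ⟨h, hHN h.2⟩ = h := by
    intro h
    show Subgroup.subgroupOfEquivOfLe hHN (hK.symm.QuotientMulEquiv (QuotientGroup.mk' K _)) = h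
    have : hK.symm.QuotientMulEquiv.symm ((Subgroup.subgroupOfEquivOfLe hHN).symm h) =
        QuotientGroup.mk' K ⟨h, hHN h.2⟩ := rfl
    rw [← this, MulEquiv.apply_symm_apply, MulEquiv.apply_symm_apply]
  have hker : ∀ k : (Subgroup.normalizer (H : Set G)), k ∈ K ↔ pr k = 1 := by
    intro k
    show _ ↔ Subgroup.subgroupOfEquivOfLe hHN (hK.symm.QuotientMulEquiv (QuotientGroup.mk' K k)) = 1
    rw [map_eq_one_iff _ (MulEquiv.injective _), map_eq_one_iff _ (MulEquiv.injective _),
      QuotientGroup.mk'_apply, QuotientGroup.eq_one_iff]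
  -- the `π`-part as a power
  have hcopK : (Nat.card H).Coprime (Nat.card K) := by
    have h1 : Nat.card K = (H.subgroupOf (Subgroup.normalizer (H : Set G))).index := hK.index_eq_card.symm
    rw [h1]
    exact hHall.coprime_dvd_right (Subgroup.relIndex_dvd_index_of_le hHN)
  obtain ⟨e, he1, he2⟩ := Nat.chineseRemainder hcopK 1 0
  have hpow : ∀ t : (Subgroup.normalizer (H : Set G)), ((t : G) ^ e) = (pr t : G) := by
    intro t
    set h : H := pr t with hh
    have hk : (⟨h, hHN h.2⟩ : (Subgroup.normalizer (H : Set G)))⁻¹ * t ∈ K := by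
      rw [hker, map_mul, map_inv, hprH, inv_mul_cancel]
    set k : (Subgroup.normalizer (H : Set G)) := (⟨h, hHN h.2⟩ : (Subgroup.normalizer (H : Set G)))⁻¹ * t with hkdef
    have hdec : (t : G) = (h : G) * (k : G) := by
      rw [hkdef, Subgroup.coe_mul, Subgroup.coe_inv, mul_inv_cancel_left]
    rw [hdec, (commute_of_complement hK h.2 hk).mul_pow]
    have h1 : (h : G) ^ e = h := by
      rw [← Subgroup.coe_pow, ← pow_mod_natCard, he1]
      rcases Nat.lt_or_ge 1 (Nat.card H) with h2 | h2
      · rw [Nat.mod_eq_of_lt h2, pow_one]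
      · have h3 : Nat.card H = 1 := le_antisymm h2 Nat.card_pos
        haveI := (Nat.card_eq_one_iff_unique.mp h3).1
        exact congrArg Subtype.val (Subsingleton.elim _ _)
    have h2 : (k : G) ^ e = 1 := by
      obtain ⟨c, hc⟩ := Nat.modEq_zero_iff_dvd.mp he2
      have : (⟨k, hk⟩ : K) ^ e = 1 := by rw [hc, pow_mul, pow_card_eq_one', one_pow]
      exact congrArg (fun y : K => ((y : (Subgroup.normalizer (H : Set G))) : G)) this
    rw [h1, h2, mul_one]
  let S : Set G := {x | ∃ hx : x ∈ (Subgroup.normalizer (H : Set G)), pr ⟨x, hx⟩ ≠ 1}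
  have hTIS : ∀ t : (Subgroup.normalizer (H : Set G)), pr t ≠ 1 → ∀ x : G, x ∉ (Subgroup.normalizer (H : Set G)) → x⁻¹ * (t : G) * x ∉ S := by
    rintro t ht x hx ⟨hm, -⟩
    refine hx ?_
    have h1 : x⁻¹ * (pr t : G) * x ∈ H := by
      have : x⁻¹ * (pr t : G) * x = (pr ⟨x⁻¹ * (t : G) * x, hm⟩ : G) := by
        rw [← hpow, ← hpow]
        show x⁻¹ * (t : G) ^ e * x = (x⁻¹ * (t : G) * x) ^ e
        conv_rhs => rw [show x⁻¹ * (t : G) * x = x⁻¹ * (t : G) * x⁻¹⁻¹ by rw [inv_inv], conj_pow, inv_inv]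
      rw [this]
      exact SetLike.coe_mem _
    have h2 := mem_normalizer_of_tiSubgroup hTI (g := x⁻¹) (pr t).2
      (fun h => ht (Subtype.ext h)) (by rwa [inv_inv])
    simpa using inv_mem h2
  obtain ⟨d, hd, hφ1⟩ := IsIrrCharacter.exists_apply_one φ.2
  set φ' : (Subgroup.normalizer (H : Set G)) → ℂ := (φ : H → ℂ) ∘ pr with hφ'
  have hφ'i : Cfsg.IsIrrCharacter (Subgroup.normalizer (H : Set G)) φ' := IsIrrCharacter.comp_surjective φ.2 pr hprsurj
  set one : (Subgroup.normalizer (H : Set G)) → ℂ := fun _ => 1 with hone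
  set oneG : G → ℂ := fun _ => 1 with honeG
  set θ : (Subgroup.normalizer (H : Set G)) → ℂ := φ' - d • one with hθdef
  have hθg : IsGeneralizedCharacter (Subgroup.normalizer (H : Set G)) θ :=
    ⟨_, _, IsIrrCharacter.isCharacter hφ'i, IsCharacter.nsmul (G := (Subgroup.normalizer (H : Set G))) isCharacter_one d, rfl⟩
  have hθc : IsClassFunction (Subgroup.normalizer (H : Set G)) θ := IsGeneralizedCharacter.isClassFunction hθg
  have hθS : ∀ t : (Subgroup.normalizer (H : Set G)), (t : G) ∉ S → θ t = 0 := by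
    intro t ht
    have : pr t = 1 := by
      by_contra h
      exact ht ⟨t.2, h⟩
    simp [hθdef, hφ', hone, this, hφ1]
  have hsupp : ∀ t : (Subgroup.normalizer (H : Set G)), θ t ≠ 0 → ∀ x : G, x ∉ (Subgroup.normalizer (H : Set G)) → x⁻¹ * (t : G) * x ∉ S := by
    intro t ht
    refine hTIS t fun h => ht (hθS t ?_)
    rintro ⟨hm, hne⟩
    exact hne h
  set ψ : G → ℂ := indFun (Subgroup.normalizer (H : Set G)) θ + d • oneG with hψdef
  have hψg : IsGeneralizedCharacter G ψ :=
    IsGeneralizedCharacter.add (IsGeneralizedCharacter.indFun (Subgroup.normalizer (H : Set G)) hθg)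
      (IsCharacter.isGeneralizedCharacter (IsCharacter.nsmul (G := G) isCharacter_one d))
  have hzero : ∀ g : G, (∀ x : G, x⁻¹ * g * x ∉ S) → indFun (Subgroup.normalizer (H : Set G)) θ g = 0 := by
    intro g hg
    rw [indFun_apply]
    refine mul_eq_zero_of_right _ (Finset.sum_eq_zero fun x _ => ?_)
    by_cases hm : x⁻¹ * g * x ∈ (Subgroup.normalizer (H : Set G))
    · rw [extendByZero_of_mem _ _ hm]; exact hθS _ (hg x)
    · exact extendByZero_of_not_mem _ _ hm
  have hone' : ψ 1 = (d : ℂ) := by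
    rw [hψdef, Pi.add_apply, hzero 1 fun x => ?_]
    · simp [honeG]
    · rintro ⟨hm, hne⟩
      refine hne ?_
      rw [show (⟨x⁻¹ * 1 * x, hm⟩ : (Subgroup.normalizer (H : Set G))) = 1 from Subtype.ext (by simp), map_one]
  have hres : ∀ h : H, ψ h = (φ : H → ℂ) h := by
    intro h
    by_cases h1 : h = 1
    · subst h1
      rw [Subgroup.coe_one, hone', hφ1]
    · have hS : pr ⟨h, hHN h.2⟩ ≠ 1 := by rw [hprH]; exact h1
      have := indFun_eq_self (Subgroup.normalizer (H : Set G)) S hθc hθS ⟨h, hHN h.2⟩ (hTIS _ hS)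
      rw [hψdef, Pi.add_apply, this, hθdef]
      simp [hone, honeG, hφ', hprH]
  have honeGc : IsClassFunction G oneG := fun _ _ => rfl
  have hne1 : φ' ≠ one := fun h => htriv (funext fun h' => by
    have := congrFun h ⟨h', hHN h'.2⟩
    simpa [hφ', hprH, hone] using this)
  have e1 : classInner φ' one = 0 := IsIrrCharacter.classInner_ne hφ'i isIrrCharacter_one hne1
  have e2 : classInner one one = 1 := IsIrrCharacter.classInner_self isIrrCharacter_one
  have e3 : classInner φ' φ' = 1 := IsIrrCharacter.classInner_self hφ'i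
  have e4 : classInner oneG oneG = 1 := IsIrrCharacter.classInner_self isIrrCharacter_one
  have e5 : classInner one φ' = 0 := by rw [← classInner_conj_symm, e1, map_zero]
  have hsm : ∀ (f : (Subgroup.normalizer (H : Set G)) → ℂ), d • f = (d : ℂ) • f := fun f => (Nat.cast_smul_eq_nsmul ℂ d f).symm
  have hθ1 : classInner θ one = -(d : ℂ) := by
    rw [hθdef, hsm, classInner_sub_left, classInner_smul_left, e1, e2]; ring
  have hA : classInner (indFun (Subgroup.normalizer (H : Set G)) θ) (indFun (Subgroup.normalizer (H : Set G)) θ) = 1 + (d : ℂ) * d := by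
    rw [classInner_indFun_indFun_eq (Subgroup.normalizer (H : Set G)) S hθc hθS hsupp, hθdef, hsm, classInner_sub_left,
      classInner_sub_right, classInner_sub_right, classInner_smul_left, classInner_smul_left,
      classInner_smul_right, classInner_smul_right, e1, e2, e3, e5, map_natCast]
    ring
  have hB : classInner (indFun (Subgroup.normalizer (H : Set G)) θ) oneG = -(d : ℂ) := by
    rw [classInner_indFun (Subgroup.normalizer (H : Set G)) θ honeGc]; exact hθ1
  have hB' : classInner oneG (indFun (Subgroup.normalizer (H : Set G)) θ) = -(d : ℂ) := by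
    rw [← classInner_conj_symm, hB]; simp
  have hnorm : classInner ψ ψ = 1 := by
    rw [hψdef, ← Nat.cast_smul_eq_nsmul ℂ d oneG, classInner_add_left, classInner_add_right,
      classInner_add_right, classInner_smul_left, classInner_smul_left, classInner_smul_right,
      classInner_smul_right, hA, hB, hB', e4, map_natCast]
    ring
  obtain ⟨χ, hχ⟩ := IsGeneralizedCharacter.eq_pm_irr hψg hnorm
  obtain ⟨f, hf, hχ1⟩ := IsIrrCharacter.exists_apply_one χ.2
  have hχeq : ψ = (χ : G → ℂ) := by
    refine hχ.resolve_right fun h => ?_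
    have h1 := hone'
    rw [h, Pi.neg_apply, hχ1] at h1
    have h2 : ((f + d : ℕ) : ℂ) = 0 := by push_cast; rw [← h1]; ring
    have h3 : f + d = 0 := by exact_mod_cast h2
    omega
  refine ⟨χ, fun h => by rw [← hχeq]; exact hres h, fun g hg => ?_⟩
  rw [← hχeq, hone', hψdef, Pi.add_apply, hzero g fun x => ?_]
  · simp [honeG]
  · rintro ⟨hm, hne⟩
    refine hne (orderOf_eq_one_iff.mp ?_)
    refine Nat.eq_one_of_dvd_coprimes hg ?_ (orderOf_dvd_natCard _)
    rw [← Subgroup.orderOf_coe, ← hpow]
    refine (orderOf_pow_dvd e).trans (orderOf_dvd_of_pow_eq_one ?_)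
    show (x⁻¹ * g * x) ^ orderOf g = 1
    rw [show x⁻¹ * g * x = x⁻¹ * g * x⁻¹⁻¹ by rw [inv_inv], conj_pow, pow_orderOf_eq_one]
    simp

/-- The normal complement. -/
theorem exists_normal_complement (hTI : Cfsg.IsTISubset (H : Set G))
    (hHall : (Nat.card H).Coprime H.index) {K : Subgroup (Subgroup.normalizer (H : Set G))} [K.Normal]
    (hK : K.IsComplement' (H.subgroupOf (Subgroup.normalizer (H : Set G)))) :
    ∃ N0 : Subgroup G, N0.Normal ∧ N0.IsComplement' H := by
  classical
  let _ : Fintype G := Fintype.ofFinite G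
  choose χ hres hker using fun φ : IrrCharacter H => exists_extension hTI hHall hK φ
  let N0 : Subgroup G := ⨅ φ : IrrCharacter H, charKernel (irr_isCharacter (χ φ))
  haveI hN0n : N0.Normal := Subgroup.normal_iInf_normal fun φ => inferInstance
  have hmem : ∀ g, g ∈ N0 ↔ ∀ φ, (χ φ : G → ℂ) g = (χ φ : G → ℂ) 1 := fun g => by
    simp only [N0, Subgroup.mem_iInf]; exact Iff.rfl
  have hdisj : N0 ⊓ H = ⊥ := by
    rw [Subgroup.eq_bot_iff_forall]
    rintro x ⟨hx, hxH⟩
    have hc : IsConj (⟨x, hxH⟩ : H) 1 := by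
      rw [isConj_iff_forall_irr]
      intro φ
      rw [← hres φ, ← hres φ]
      exact (hmem x).mp hx φ
    exact congrArg Subtype.val (isConj_one_left.mp hc)
  have hdvd : N0.index ∣ Nat.card H := by
    refine (Nat.Coprime.dvd_of_dvd_mul_right ?_ (H.card_mul_index ▸ Subgroup.index_dvd_card N0))
    refine Nat.coprime_of_dvd fun q hq hq1 hq2 => ?_
    haveI := Fact.mk hq
    obtain ⟨Q⟩ : Nonempty (Sylow q G) := inferInstance
    refine Q.not_dvd_index (hq1.trans (Subgroup.index_dvd_of_le fun y hy => (hmem y).mpr fun φ => ?_))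
    refine hker φ y (Nat.Coprime.coprime_dvd_left ?_ (Nat.Coprime.pow_left ((Nat.card G).factorization q)
      ((hq.coprime_iff_not_dvd).mpr fun h => hq.not_dvd_one (hHall.gcd_eq_one ▸ Nat.dvd_gcd h hq2))))
    rw [← Q.card_eq_multiplicity]
    exact Subgroup.orderOf_dvd_natCard _ hy
  refine ⟨N0, hN0n, ?_⟩
  have hge : Nat.card H ≤ N0.index := by
    have hinj : Function.Injective fun p : N0 × H => (p.1 : G) * p.2 :=
      Subgroup.mul_injective_of_disjoint (disjoint_iff.mpr hdisj)
    have := Nat.card_le_card_of_injective _ hinj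
    rw [Nat.card_prod, ← N0.card_mul_index] at this
    exact Nat.le_of_mul_le_mul_left this Nat.card_pos
  have heq : N0.index = Nat.card H := le_antisymm (Nat.le_of_dvd Nat.card_pos hdvd) hge
  exact Subgroup.isComplement'_of_card_mul_and_disjoint (by rw [← heq, N0.card_mul_index])
    (disjoint_iff.mpr hdisj)

/-- A nontrivial such subgroup that is not normal is a Frobenius complement in some finite group. -/
theorem exists_frobenius (hTI : Cfsg.IsTISubset (H : Set G)) (hHall : (Nat.card H).Coprime H.index)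
    (hnn : ¬ H.Normal) {K : Subgroup (Subgroup.normalizer (H : Set G))} [K.Normal]
    (hK : K.IsComplement' (H.subgroupOf (Subgroup.normalizer (H : Set G))))
    {N0 : Subgroup G} [N0.Normal] (hN0 : N0.IsComplement' H) :
    ∃ (F : Type u) (_ : Group F) (_ : Finite F) (C : Subgroup F),
      Cfsg.IsFrobeniusComplement C ∧ Nonempty (H ≃* C) := by
  classical
  have hH1 : H ≠ ⊥ := fun h => hnn (h ▸ inferInstance)
  have hcop : (Nat.card H).Coprime (Nat.card N0) := by
    rw [← hN0.index_eq_card]; exact hHall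
  set D0 := N0 ⊓ (Subgroup.normalizer (H : Set G)) with hD0
  -- the common centralizer
  have hD0c : ∀ k ∈ D0, ∀ h ∈ H, h * k = k * h := by
    intro k hk h hh
    obtain ⟨⟨a, b⟩, hab⟩ := hK.2 ⟨k, hk.2⟩
    have hab' : ((a : (Subgroup.normalizer (H : Set G))) : G) * ((b : (Subgroup.normalizer (H : Set G))) : G) = k := congrArg Subtype.val hab
    have hc := commute_of_complement hK hh a.2
    suffices hb1 : ((b : (Subgroup.normalizer (H : Set G))) : G) = 1 by rw [← hab', hb1, mul_one]; exact hc.eq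
    have hbH : ((b : (Subgroup.normalizer (H : Set G))) : G) ∈ H := b.2
    have hcb := commute_of_complement hK hbH a.2
    -- `a` lies in the normal complement as its order is prime to that of `H`
    have haN0 : ((a : (Subgroup.normalizer (H : Set G))) : G) ∈ N0 := by
      rw [← QuotientGroup.eq_one_iff, ← orderOf_eq_one_iff]
      refine Nat.eq_one_of_dvd_coprimes (b := Nat.card K) ?_ ((orderOf_dvd_natCard _).trans (dvd_of_eq
        ((Subgroup.index_eq_card N0).symm.trans (hN0.symm.index_eq_card)))) ((orderOf_map_dvd (QuotientGroup.mk' N0) _).trans ?_)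
      · have h1 : Nat.card K = (H.subgroupOf (Subgroup.normalizer (H : Set G))).index := hK.index_eq_card.symm
        rw [h1]
        exact hHall.coprime_dvd_right (Subgroup.relIndex_dvd_index_of_le Subgroup.le_normalizer)
      · rw [Subgroup.orderOf_coe, Subgroup.orderOf_coe]
        exact orderOf_dvd_natCard a
    have hbN0 : ((b : (Subgroup.normalizer (H : Set G))) : G) ∈ N0 := by
      have := mul_mem (inv_mem haN0) hk.1
      rwa [← hab', inv_mul_cancel_left] at this
    exact Subgroup.mem_bot.mp (hN0.disjoint.le_bot ⟨hbN0, hbH⟩)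
  have hcent : ∀ h ∈ H, h ≠ 1 → ∀ n ∈ N0, h * n = n * h → n ∈ D0 := fun h hh h1 n hn hc =>
    ⟨hn, centralizer_le_of_tiSubgroup hTI hh h1 (Subgroup.mem_centralizer_singleton_iff.mpr hc.symm)⟩
  -- a prime
  have hlt : D0 < N0 := by
    refine lt_of_le_of_ne inf_le_left fun h => hnn ?_
    refine Subgroup.normalizer_eq_top_iff.mp (top_le_iff.mp ?_)
    rw [← hN0.sup_eq_top]
    exact sup_le (h ▸ inf_le_right) Subgroup.le_normalizer
  obtain ⟨s, hs⟩ : ∃ s, (Nat.card D0).factorization s ≠ (Nat.card N0).factorization s := by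
    by_contra hall
    push Not at hall
    refine hlt.ne (Coprime.eq_of_le_of_card_le hlt.le (le_of_eq ?_))
    exact (Nat.factorization_inj Nat.card_pos.ne' Nat.card_pos.ne' (Finsupp.ext hall)).symm
  have hle : (Nat.card D0).factorization s ≤ (Nat.card N0).factorization s :=
    (Nat.factorization_le_iff_dvd Nat.card_pos.ne' Nat.card_pos.ne').mpr (Subgroup.card_dvd_of_le hlt.le) s
  have hsp : s.Prime := by
    by_contra h
    rw [Nat.factorization_eq_zero_of_not_prime _ h, Nat.factorization_eq_zero_of_not_prime _ h] at hs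
    exact hs rfl
  haveI := Fact.mk hsp
  have hsN0 : s ∣ Nat.card N0 := Nat.dvd_of_factorization_pos (by omega)
  have hsH : ¬ s ∣ Nat.card H := fun h => hsp.not_dvd_one (hcop.gcd_eq_one ▸ Nat.dvd_gcd h hsN0)
  have hSN0 : ∀ S : Sylow s G, (S : Subgroup G) ≤ N0 := by
    intro S y hy
    rw [← QuotientGroup.eq_one_iff, ← orderOf_eq_one_iff]
    obtain ⟨i, hi⟩ := S.2 ⟨y, hy⟩
    refine Nat.eq_one_of_dvd_coprimes (Nat.Coprime.pow_left i ((hsp.coprime_iff_not_dvd).mpr hsH))
      ((orderOf_map_dvd (QuotientGroup.mk' N0) y).trans (orderOf_dvd_of_pow_eq_one (congrArg Subtype.val hi)))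
      ((orderOf_dvd_natCard _).trans (dvd_of_eq ?_))
    rw [← Subgroup.index_eq_card]
    exact hN0.symm.index_eq_card
  have hnorm : ∀ A : Subgroup G, A ≤ Subgroup.normalizer (N0 : Set G) := fun A => by
    rw [Subgroup.normalizer_eq_top_iff.mpr ‹N0.Normal›]; exact le_top
  have hfixed : ∀ A : Subgroup G, A ≤ H → Group.IsSolvable A → ∃ S : Sylow s G, ∀ a ∈ A, a • S = S := by
    intro A hA hsol
    obtain ⟨P, hP⟩ := Coprime.exists_invariant_sylow (hnorm A)
      (hcop.coprime_dvd_left (Subgroup.card_dvd_of_le hA)) (Or.inl hsol) s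
    have hidx : ¬ s ∣ ((P : Subgroup N0).map N0.subtype).index := by
      rw [Subgroup.index_map_subtype]
      intro h
      rcases hsp.dvd_mul.mp h with h | h
      · exact P.not_dvd_index h
      · exact hsH (h.trans (dvd_of_eq hN0.symm.index_eq_card))
    exact ⟨(P.2.map N0.subtype).toSylow hidx, fun a ha => Sylow.smul_eq_iff_mem_normalizer.mpr (hP ha)⟩
  have htrans : ∀ x ∈ H, x ≠ 1 → ∀ S T : Sylow s G, x • S = S → x • T = T → ∃ k ∈ D0, k • S = T := by
    intro x hx hx1 S T hS hT
    have hcopx : (Nat.card (Subgroup.zpowers x)).Coprime (Nat.card N0) :=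
      hcop.coprime_dvd_left (Subgroup.card_dvd_of_le (Subgroup.zpowers_le.mpr hx))
    have hmap : ∀ U : Sylow s G, ((U.subtype (hSN0 U) : Sylow s N0) : Subgroup N0).map N0.subtype = U := fun U => by
      rw [Sylow.coe_subtype, Subgroup.map_subgroupOf_eq_of_le (hSN0 U)]
    obtain ⟨c, hc, hcS⟩ := Coprime.exists_centralizer_conj_sylow (hnorm _) hcopx
      (Or.inl (Coprime.isSolvable_zpowers x)) (S.subtype (hSN0 S)) (T.subtype (hSN0 T))
      (by rw [hmap]; exact Subgroup.zpowers_le.mpr (Sylow.smul_eq_iff_mem_normalizer.mp hS))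
      (by rw [hmap]; exact Subgroup.zpowers_le.mpr (Sylow.smul_eq_iff_mem_normalizer.mp hT))
    refine ⟨c, hcent x hx hx1 c c.2
      (Subgroup.mem_centralizer_iff.mp hc x (Subgroup.mem_zpowers x)), ?_⟩
    refine Sylow.subtype_injective (hP := hSN0 _) (hQ := hSN0 T) ?_
    exact (Sylow.smul_subtype (hSN0 S) c).symm.trans hcS
  -- an element of `H` moving a fixed point by the centralizer fixes it
  have hkey : ∀ y ∈ H, ∀ (S : Sylow s G) (k : G), k ∈ D0 → y • S = k • S → y • S = S := by
    intro y hy S k hk hyk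
    have hpow : ∀ j : ℕ, y ^ j • S = k ^ j • S := by
      intro j
      induction j with
      | zero => simp
      | succ j ih =>
        rw [pow_succ', mul_smul, ih, ← mul_smul,
          ((show Commute y k from hD0c k hk y hy).pow_right j).eq, mul_smul, hyk, ← mul_smul, ← pow_succ]
    have h1 := hpow (Nat.card H)
    rw [show y ^ Nat.card H = 1 from congrArg Subtype.val (pow_card_eq_one' (x := (⟨y, hy⟩ : H))), one_smul] at h1
    obtain ⟨m, hm⟩ := exists_pow_eq_self_of_coprime (x := k) (n := Nat.card H)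
      ((hcop.coprime_dvd_right (Subgroup.orderOf_dvd_natCard _ hk.1)))
    have h2 : k • S = S := by
      have hst : k ^ Nat.card H ∈ MulAction.stabilizer G S := MulAction.mem_stabilizer_iff.mpr h1.symm
      exact MulAction.mem_stabilizer_iff.mp (hm ▸ pow_mem hst m)
    rw [hyk, h2]
  -- fixed by elements normalizing a cyclic subgroup
  have hnormfix : ∀ x ∈ H, x ≠ 1 → ∀ y ∈ H, y * x * y⁻¹ ∈ Subgroup.zpowers x →
      ∀ S : Sylow s G, x • S = S → y • S = S := by
    intro x hx hx1 y hy hyx S hS
    have hx' : x ∈ Subgroup.zpowers (y * x * y⁻¹) := by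
      have heq : Subgroup.zpowers (y * x * y⁻¹) = Subgroup.zpowers x := by
        refine Coprime.eq_of_le_of_card_le (Subgroup.zpowers_le.mpr hyx) (le_of_eq ?_)
        rw [Nat.card_zpowers, Nat.card_zpowers]
        exact (MulEquiv.orderOf_eq (MulAut.conj y) x).symm
      rw [heq]; exact Subgroup.mem_zpowers x
    have hyS : x • (y • S) = y • S := by
      obtain ⟨i, hi⟩ := Subgroup.mem_zpowers_iff.mp hx'
      have h1 : y * x * y⁻¹ ∈ MulAction.stabilizer G (y • S) := MulAction.mem_stabilizer_iff.mpr (by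
        rw [← mul_smul, inv_mul_cancel_right, mul_smul, hS])
      exact MulAction.mem_stabilizer_iff.mp (hi ▸ Subgroup.zpow_mem _ h1 i)
    obtain ⟨k, hk, hkS⟩ := htrans x hx hx1 S (y • S) hS hyS
    exact hkey y hy S k hk hkS.symm
  obtain ⟨S, hS⟩ : ∃ S : Sylow s G, ∀ h ∈ H, h • S = S := by
    by_cases h2 : 2 ∣ Nat.card H
    · obtain ⟨⟨t, htH⟩, ht⟩ := exists_prime_orderOf_dvd_card' (G := H) 2 h2
      rw [Subgroup.orderOf_mk] at ht
      have hinv2 : ∀ u : G, orderOf u = 2 → u⁻¹ = u ∧ u ≠ 1 := fun u hu =>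
        ⟨inv_eq_of_mul_eq_one_right (by rw [← sq]; exact hu ▸ pow_orderOf_eq_one u),
          fun e => by rw [e, orderOf_one] at hu; omega⟩
      obtain ⟨S, hS⟩ := hfixed (Subgroup.zpowers t) (Subgroup.zpowers_le.mpr htH) (Coprime.isSolvable_zpowers t)
      have htS := hS t (Subgroup.mem_zpowers t)
      -- all involutions have the same fixed points
      have hinv : ∀ u ∈ H, orderOf u = 2 → ∀ S : Sylow s G, t • S = S → u • S = S := by
        intro u hu hu2 S htS
        obtain ⟨hti, ht1⟩ := hinv2 t ht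
        obtain ⟨hui, hu1⟩ := hinv2 u hu2
        set z := t * u with hz
        have hzH : z ∈ H := mul_mem htH hu
        have hz1 : t * z * t⁻¹ = z⁻¹ := by rw [hz, mul_inv_rev, hti, hui, ← mul_assoc, show t * t = 1 by
          rw [← sq]; exact ht ▸ pow_orderOf_eq_one t, one_mul]
        have hz2 : u * z * u⁻¹ = z⁻¹ := by rw [hz, mul_inv_rev, hti, hui, mul_assoc u, mul_assoc t, show u * u = 1 by
          rw [← sq]; exact hu2 ▸ pow_orderOf_eq_one u, mul_one]
        rcases Nat.even_or_odd (orderOf z) with ⟨m, hm⟩ | hodd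
        · have hzpos := orderOf_pos z
          set w := z ^ m with hw
          have hw2 : w * w = 1 := by rw [hw, ← pow_add, ← hm, pow_orderOf_eq_one]
          have hw1 : w ≠ 1 := pow_ne_one_of_lt_orderOf (by omega) (by omega)
          have hwinv : w⁻¹ = w := inv_eq_of_mul_eq_one_right hw2
          have htw : t * w * t⁻¹ = w := by rw [hw, ← conj_pow, hz1, inv_pow, ← hw, hwinv]
          have huw : u * w * u⁻¹ = w := by rw [hw, ← conj_pow, hz2, inv_pow, ← hw, hwinv]
          have hwt : w * t * w⁻¹ = t := by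
            rw [show w * t = t * w from (mul_inv_eq_iff_eq_mul.mp htw).symm, mul_inv_cancel_right]
          have hwS := hnormfix t htH ht1 w (pow_mem hzH m) (by rw [hwt]; exact Subgroup.mem_zpowers t) S htS
          exact hnormfix w (pow_mem hzH m) hw1 u hu (by rw [huw]; exact Subgroup.mem_zpowers w) S hwS
        · by_cases hz0 : z = 1
          · have : u = t := by
              rw [← hti]; exact (inv_eq_of_mul_eq_one_right hz0).symm
            rw [this]; exact htS
          obtain ⟨S0, hS0⟩ := hfixed (Subgroup.zpowers z) (Subgroup.zpowers_le.mpr hzH) (Coprime.isSolvable_zpowers z)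
          have hzS0 := hS0 z (Subgroup.mem_zpowers z)
          have h0t := hnormfix z hzH hz0 t htH (by rw [hz1]; exact inv_mem (Subgroup.mem_zpowers z)) S0 hzS0
          have h0u := hnormfix z hzH hz0 u hu (by rw [hz2]; exact inv_mem (Subgroup.mem_zpowers z)) S0 hzS0
          obtain ⟨k, hk, hkS⟩ := htrans t htH ht1 S0 S h0t htS
          rw [← hkS, ← mul_smul, hD0c k hk u hu, mul_smul, h0u]
      refine ⟨S, fun h hh => ?_⟩
      obtain ⟨hti, ht1⟩ := hinv2 t ht
      have hu : h⁻¹ * t * h ∈ H := mul_mem (mul_mem (inv_mem hh) htH) hh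
      have h1 := hinv _ hu (by
        have := MulEquiv.orderOf_eq (MulAut.conj h⁻¹) t
        simpa [ht] using this) S htS
      have h2' : t • (h • S) = h • S := by
        have := congrArg (h • ·) h1
        simp only [← mul_smul] at this
        rwa [show h * (h⁻¹ * t * h) = t * h by group, mul_smul] at this
      obtain ⟨k, hk, hkS⟩ := htrans t htH ht1 S (h • S) htS h2'
      exact hkey h hh S k hk hkS.symm
    · have hsup : N0 ⊔ (Subgroup.normalizer (H : Set G)) = ⊤ := by
        rw [eq_top_iff, ← hN0.sup_eq_top]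
        exact sup_le_sup_left Subgroup.le_normalizer N0
      haveI : IsZGroup H := ⟨fun p hp P => by
        haveI := Fact.mk hp
        exact isCyclic_sylow_of_sup_normalizer hTI hnn hsup hcop.symm P (fun e => by
          subst e
          have hone : Nat.card (P : Subgroup H) = 1 := by
            rw [P.card_eq_multiplicity, Nat.factorization_eq_zero_of_not_dvd h2, pow_zero]
          haveI := (Nat.card_eq_one_iff_unique.mp hone).1
          exact ⟨⟨fun a b => Subsingleton.elim _ _⟩⟩)⟩
      exact hfixed H le_rfl inferInstance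
  -- the section
  set D := (S : Subgroup G) ⊓ D0 with hD
  have hDlt : D < (S : Subgroup G) := by
    refine lt_of_le_of_ne inf_le_left fun h => ?_
    have h1 : Nat.card S ∣ Nat.card D0 := Subgroup.card_dvd_of_le (h ▸ inf_le_right)
    rw [S.card_eq_multiplicity] at h1
    have h2 := (Nat.Prime.pow_dvd_iff_le_factorization hsp Nat.card_pos.ne').mp h1
    have h3 := (Nat.factorization_le_iff_dvd Nat.card_pos.ne' Nat.card_pos.ne').mpr
      (Subgroup.card_subgroup_dvd_card N0) s
    omega
  set T := (S : Subgroup G) ⊓ Subgroup.normalizer (D : Set G) with hT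
  have hTlt : D < T := Transfer.lt_inf_normalizer S.2 hDlt
  set L := Subgroup.normalizer (D : Set G) with hL
  have hHL : H ≤ L := fun h hh => Subgroup.mem_normalizer_iff.mpr fun y => by
    have hS' := Sylow.smul_eq_iff_mem_normalizer.mp (hS h hh)
    have hh' : h⁻¹ ∈ H := inv_mem hh
    constructor
    · intro hy
      refine ⟨(Subgroup.mem_normalizer_iff.mp hS' y).mp hy.1, ?_⟩
      rw [hD0c y hy.2 h hh, mul_inv_cancel_right]
      exact hy.2
    · intro hy
      refine ⟨(Subgroup.mem_normalizer_iff.mp hS' y).mpr hy.1, ?_⟩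
      have h1 := hD0c _ hy.2 h⁻¹ hh'
      have h2 : y = h * y * h⁻¹ := by
        have h3 : h⁻¹ * (h * y * h⁻¹) * h = h * y * h⁻¹ := by rw [h1, inv_mul_cancel_right]
        calc y = h⁻¹ * (h * y * h⁻¹) * h := by group
          _ = _ := h3
      rw [h2]; exact hy.2
  have hTN : H ≤ Subgroup.normalizer (T : Set G) := fun h hh => Subgroup.mem_normalizer_iff.mpr fun y => by
    have hS' := Sylow.smul_eq_iff_mem_normalizer.mp (hS h hh)
    refine and_congr (Subgroup.mem_normalizer_iff.mp hS' y) ?_
    exact ⟨fun hy => L.mul_mem (L.mul_mem (hHL hh) hy) (L.inv_mem (hHL hh)), fun hy => by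
      have := L.mul_mem (L.mul_mem (L.inv_mem (hHL hh)) hy) (hHL hh)
      simpa [mul_assoc] using this⟩
  haveI : (D.subgroupOf L).Normal := Subgroup.normal_in_normalizer
  let π := QuotientGroup.mk' (D.subgroupOf L)
  set T' := (T.subgroupOf L).map π with hT'
  set H' := (H.subgroupOf L).map π with hH'
  let M := Subgroup.normalizer (T' : Set (L ⧸ D.subgroupOf L))
  have hH'M : H' ≤ M := by
    refine le_trans (Subgroup.map_mono ?_) (Subgroup.le_normalizer_map π)
    intro x hx
    rw [Subgroup.mem_normalizer_iff]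
    exact fun y => Subgroup.mem_normalizer_iff.mp (hTN hx) y
  haveI : (T'.subgroupOf M).Normal := Subgroup.normal_in_normalizer
  have hπinj : ∀ h : L, (h : G) ∈ H → π h = 1 → h = 1 := fun h hh h1 => by
    have hm : (h : G) ∈ D := (QuotientGroup.eq_one_iff h).mp h1
    exact Subtype.ext (Subgroup.mem_bot.mp (hN0.disjoint.le_bot ⟨hm.2.1, hh⟩))
  have hfpf : ∀ h ∈ H'.subgroupOf M, h ≠ 1 → ∀ n ∈ T'.subgroupOf M, h * n = n * h → n = 1 := by
    rintro ⟨_, hm⟩ ⟨h, hhH, rfl⟩ hne ⟨_, hn'⟩ ⟨n, hnT, rfl⟩ hc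
    have hh1 : h ≠ 1 := fun e => hne (Subtype.ext ((congrArg π e).trans (map_one π)))
    have hc' : π h * π n = π n * π h := congrArg Subtype.val hc
    have hd : ((h : G) * n * (h : G)⁻¹ * (n : G)⁻¹) ∈ D := by
      have : π (h * n * h⁻¹ * n⁻¹) = 1 := by
        rw [map_mul, map_mul, map_mul, hc', map_inv, map_inv, mul_inv_cancel_right, mul_inv_cancel]
      exact (QuotientGroup.eq_one_iff (N := D.subgroupOf L) (h * n * h⁻¹ * n⁻¹)).mp this
    set d := (h : G) * n * (h : G)⁻¹ * (n : G)⁻¹ with hd'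
    have hcd : (h : G) * d = d * h := hD0c d hd.2 h hhH
    have hit : ∀ j : ℕ, (h : G) ^ j * n * ((h : G) ^ j)⁻¹ = d ^ j * n := by
      intro j
      induction j with
      | zero => simp
      | succ j ih =>
        calc (h : G) ^ (j + 1) * n * ((h : G) ^ (j + 1))⁻¹
            = (h : G) * ((h : G) ^ j * n * ((h : G) ^ j)⁻¹) * (h : G)⁻¹ := by rw [pow_succ']; group
          _ = ((h : G) * d ^ j) * n * (h : G)⁻¹ := by rw [ih]; simp only [mul_assoc]
          _ = d ^ j * ((h : G) * n * (h : G)⁻¹) := by rw [((show Commute (h : G) d from hcd).pow_right j).eq]; group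
          _ = d ^ j * (d * n) := by rw [hd']; group
          _ = d ^ (j + 1) * n := by rw [pow_succ]; exact (mul_assoc (d ^ j) d (n : G)).symm
    have h1 := hit (orderOf (h : G))
    rw [pow_orderOf_eq_one, one_mul, inv_one, mul_one] at h1
    have hd1 : d = 1 := orderOf_eq_one_iff.mp (Nat.eq_one_of_dvd_coprimes
      ((hcop.coprime_dvd_left (Subgroup.orderOf_dvd_natCard _ (show (h : G) ∈ H from hhH))).coprime_dvd_right
        (Subgroup.orderOf_dvd_natCard _ hd.2.1))
      (orderOf_dvd_of_pow_eq_one (show d ^ orderOf (h : G) = 1 from mul_eq_right.mp h1.symm)) dvd_rfl)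
    have hhn : (h : G) * n = n * h := by
      rw [hd', mul_inv_eq_one, mul_inv_eq_iff_eq_mul] at hd1
      exact hd1
    have hnD : (n : G) ∈ D :=
      ⟨hnT.1, hcent h hhH (fun e => hh1 (Subtype.ext e)) n (hSN0 S hnT.1) hhn⟩
    exact Subtype.ext ((QuotientGroup.eq_one_iff n).mpr hnD)
  have hdisj : T'.subgroupOf M ⊓ H'.subgroupOf M = ⊥ := by
    rw [Subgroup.eq_bot_iff_forall]
    rintro ⟨_, hm⟩ ⟨⟨a, ha, rfl⟩, ⟨b, hb, hab⟩⟩
    have hab' : π b = π a := hab
    have hmem : (b : G)⁻¹ * a ∈ D :=
      (QuotientGroup.eq (s := D.subgroupOf L)).mp (show ((b : L ⧸ D.subgroupOf L)) = a from hab')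
    have hbN0 : (b : G) ∈ N0 := by
      have := mul_mem (hSN0 S ha.1) (inv_mem hmem.2.1)
      simpa using this
    have hb1 : b = 1 := Subtype.ext (Subgroup.mem_bot.mp (hN0.disjoint.le_bot ⟨hbN0, hb⟩))
    refine Subtype.ext ?_
    show π a = 1
    rw [← hab', hb1, map_one]
  have hTne : T'.subgroupOf M ≠ ⊥ := by
    intro h0
    refine hTlt.not_ge fun y hy => ?_
    have hyT : π ⟨y, hy.2⟩ ∈ T' := ⟨⟨y, hy.2⟩, hy, rfl⟩
    have : (⟨π ⟨y, hy.2⟩, Subgroup.le_normalizer hyT⟩ : M) ∈ T'.subgroupOf M := hyT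
    rw [h0, Subgroup.mem_bot] at this
    exact (QuotientGroup.eq_one_iff (⟨y, hy.2⟩ : L)).mp (congrArg Subtype.val this)
  let f : H →* M := ((π.comp (Subgroup.inclusion hHL)).codRestrict M fun h =>
    hH'M ⟨Subgroup.inclusion hHL h, h.2, rfl⟩)
  have hf : Function.Injective f := by
    rw [injective_iff_map_eq_one]
    intro h h1
    exact Subtype.ext (congrArg (fun y : L => (y : G)) (hπinj _ h.2 (congrArg Subtype.val h1)))
  have hfr : f.range = H'.subgroupOf M := by
    ext ⟨x, hx⟩
    constructor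
    · rintro ⟨h, hh⟩
      exact ⟨Subgroup.inclusion hHL h, h.2, congrArg Subtype.val hh⟩
    · rintro ⟨y, hy, hyx⟩
      exact ⟨⟨y, hy⟩, Subtype.ext hyx⟩
  have hHne : H'.subgroupOf M ≠ ⊥ := by
    rw [← hfr, ne_eq, MonoidHom.range_eq_bot_iff]
    intro e
    refine hH1 ((Subgroup.eq_bot_iff_forall H).mpr fun x hx => ?_)
    have h1 : f ⟨x, hx⟩ = f 1 := by rw [e]; rfl
    exact congrArg Subtype.val (hf h1)
  refine ⟨↥(T'.subgroupOf M ⊔ H'.subgroupOf M), inferInstance, inferInstance, _,
    (isFrobeniusComplement_subgroupOf_sup hdisj hTne hHne hfpf).1, ?_⟩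
  exact ⟨((MonoidHom.ofInjective hf).trans (MulEquiv.subgroupCongr hfr)).trans
    (Subgroup.subgroupOfEquivOfLe le_sup_right).symm⟩

end Cfsg.Agent.Lib.Frobenius.TIComplement
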