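import Cfsg.Agent.Lib.Transfer.Frobenius
import Cfsg.Agent.Lib.Coprime.Action
import Cfsg.Agent.Lib.Coprime.Basic
import Cfsg.Agent.Lib.Coprime.Generation
import Cfsg.Agent.Lib.Frobenius.UniqueSubgroup
import Cfsg.Prelude
import Mathlib.GroupTheory.SpecificGroups.ZGroup

/-!
Trivial-intersection subgroups that are Hall in their normalisers, in `π`-separable groups.
-/

set_option autoImplicit false

universe u

namespace Cfsg.Agent.Lib.Frobenius

open Cfsg.Agent.Lib

variable {G : Type u} [Group G] [Finite G]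

/-- An element of `H` with a conjugate in `H`. -/
theorem mem_normalizer_of_tiSubgroup {H : Subgroup G} (hTI : Cfsg.IsTISubset (H : Set G)) {g x : G}
    (hx : x ∈ H) (hx1 : x ≠ 1) (hgx : g * x * g⁻¹ ∈ H) : g ∈ Subgroup.normalizer (H : Set G) := by
  by_contra hg
  exact hx1 (hTI g hg x hx hgx)

/-- Centralisers in a TI subgroup. -/
theorem centralizer_le_of_tiSubgroup {H : Subgroup G} (hTI : Cfsg.IsTISubset (H : Set G)) {x : G}
    (hx : x ∈ H) (hx1 : x ≠ 1) :
    Subgroup.centralizer ({x} : Set G) ≤ Subgroup.normalizer (H : Set G) := fun g hg =>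
  mem_normalizer_of_tiSubgroup hTI hx hx1 (by
    rw [Subgroup.mem_centralizer_singleton_iff] at hg
    rwa [hg, mul_inv_cancel_right])

/-- A TI subgroup that is Hall in its normaliser is Hall. -/
theorem coprime_index_of_tiSubgroup {H : Subgroup G} (hTI : Cfsg.IsTISubset (H : Set G))
    (hHall : (Nat.card H).Coprime (H.subgroupOf (Subgroup.normalizer (H : Set G))).index) :
    (Nat.card H).Coprime H.index := by
  refine Nat.coprime_of_dvd fun p hp hpH hpi => ?_
  haveI := Fact.mk hp
  let T : Sylow p H := default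
  set P0 := (T : Subgroup H).map H.subtype with hP0
  have hP0H : P0 ≤ H := Subgroup.map_subtype_le _
  obtain ⟨P, hP⟩ := (T.2.map H.subtype).exists_le_sylow
  have hPH : (P : Subgroup G) ≤ H := by
    by_contra hne
    have hlt := Transfer.lt_inf_normalizer P.2 (lt_of_le_of_ne hP fun h => hne (h ▸ hP0H))
    set X := (P : Subgroup G) ⊓ Subgroup.normalizer (P0 : Set G) with hX
    have hXN : X ≤ Subgroup.normalizer (H : Set G) := by
      intro g hg
      obtain ⟨x, hx, hx1⟩ := (Subgroup.bot_or_exists_ne_one P0).resolve_left fun h0 => by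
        rw [hP0, Subgroup.map_eq_bot_iff_of_injective _ H.subtype_injective] at h0
        exact T.ne_bot_of_dvd_card hpH h0
      exact mem_normalizer_of_tiSubgroup hTI (hP0H hx) hx1
        (hP0H ((Subgroup.mem_normalizer_iff.mp hg.2 x).mp hx))
    have hXH : X ≤ H := by
      intro g hg
      haveI := Subgroup.normal_in_normalizer (H := H)
      let π := QuotientGroup.mk' (H.subgroupOf (Subgroup.normalizer (H : Set G)))
      obtain ⟨k, hk⟩ := P.2 ⟨g, hg.1⟩
      have h1 : (π ⟨g, hXN hg⟩) ^ p ^ k = 1 := by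
        rw [← map_pow, show (⟨g, hXN hg⟩ : Subgroup.normalizer (H : Set G)) ^ p ^ k = 1 from
          Subtype.ext (congrArg Subtype.val hk :), map_one]
      have h2 : orderOf (π ⟨g, hXN hg⟩) = 1 := Nat.dvd_one.mp (((hHall.coprime_dvd_left hpH).pow_left k).gcd_eq_one ▸
        Nat.dvd_gcd (orderOf_dvd_of_pow_eq_one h1)
          (Subgroup.index_eq_card (H.subgroupOf (Subgroup.normalizer (H : Set G))) ▸ orderOf_dvd_natCard _))
      exact (QuotientGroup.eq_one_iff (N := H.subgroupOf (Subgroup.normalizer (H : Set G)))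
        (⟨g, hXN hg⟩ : Subgroup.normalizer (H : Set G))).mp (orderOf_eq_one_iff.mp h2)
    have h3 : X.subgroupOf H = (T : Subgroup H) :=
      T.3 ((P.2.to_le inf_le_left).of_equiv (Subgroup.subgroupOfEquivOfLe hXH).symm)
        (fun y hy => hlt.le ⟨y, hy, rfl⟩)
    refine hlt.ne ?_
    rw [← h3, Subgroup.map_subgroupOf_eq_of_le hXH]
  exact P.not_dvd_index (hpi.trans (Subgroup.index_dvd_of_le hPH))

/-- The largest normal subgroup of order prime to `n`. -/
theorem normal_coprime_core {n : ℕ} {O : Subgroup G}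
    (hO : O = sSup {K : Subgroup G | K.Normal ∧ (Nat.card K).Coprime n}) :
    O.Normal ∧ (Nat.card O).Coprime n := by
  set S := {K : Subgroup G | K.Normal ∧ (Nat.card K).Coprime n}
  have hne : S.Nonempty := ⟨⊥, inferInstance, by rw [Subgroup.card_bot]; exact Nat.coprime_one_left n⟩
  obtain ⟨K0, hK0, hmax⟩ := Set.Finite.exists_maximal (Set.toFinite S) hne
  have hclosed : ∀ K ∈ S, K ≤ K0 := by
    rintro K ⟨hKn, hKc⟩
    haveI := hKn
    haveI := hK0.1
    have hmem : K ⊔ K0 ∈ S := by
      refine ⟨Subgroup.sup_normal K K0, Nat.Coprime.coprime_dvd_left ?_ (hKc.mul_left hK0.2)⟩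
      exact ⟨_, (Coprime.card_sup_mul_card_inf (N := K) (H := K0)
        (by rw [K.normalizer_eq_top]; exact le_top)).symm⟩
    exact le_sup_left.trans (hmax hmem le_sup_right)
  have : O = K0 := hO ▸ le_antisymm (sSup_le hclosed) (le_sSup hK0)
  exact this ▸ hK0

/-- A `π`-separable group is `O_{π'}(G) N_G(H)`. -/
theorem sup_normalizer_eq_top {H : Subgroup G} (hTI : Cfsg.IsTISubset (H : Set G)) (hH : H ≠ ⊥)
    (hHall : (Nat.card H).Coprime H.index)
    (hsep : ∃ (n : ℕ) (M : Fin (n + 1) → Subgroup G), M 0 = ⊥ ∧ M (Fin.last n) = ⊤ ∧ Monotone M ∧ (∀ i, (M i).Normal) ∧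
      ∀ i : Fin n, (∀ q : ℕ, q.Prime → q ∣ (M i.castSucc).relIndex (M i.succ) → q ∣ Nat.card H) ∨
        ((M i.castSucc).relIndex (M i.succ)).Coprime (Nat.card H))
    {O : Subgroup G} (hO : O = sSup {K : Subgroup G | K.Normal ∧ (Nat.card K).Coprime (Nat.card H)}) :
    O ⊔ Subgroup.normalizer (H : Set G) = ⊤ := by
  obtain ⟨hOn, hOc⟩ := normal_coprime_core hO
  haveI := hOn
  obtain ⟨n, M, h0, hl, hmono, hn, hf⟩ := hsep
  obtain ⟨i, hi, hi'⟩ : ∃ i : Fin n, M i.castSucc ≤ O ∧ ¬ M i.succ ≤ O := by
    by_contra hall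
    push Not at hall
    have hle : ∀ j, M j ≤ O := fun j => by
      induction j using Fin.induction with
      | zero => rw [h0]; exact bot_le
      | succ j ih => exact hall j ih
    have htop : O = ⊤ := top_le_iff.mp (hl ▸ hle (Fin.last n))
    rw [htop, Subgroup.card_top, ← H.index_mul_card] at hOc
    exact hH (Subgroup.card_eq_one.mp (Nat.coprime_self _ |>.mp hOc.coprime_mul_left))
  haveI := hn i.succ
  set T := O ⊔ M i.succ with hT
  haveI hTn : T.Normal := Subgroup.sup_normal O _
  have hTO : ¬ T ≤ O := fun h => hi' (le_sup_right.trans h)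
  -- the index of `O` in `T`
  set r := O.relIndex T with hr
  have hrdvd : r ∣ (M i.castSucc).relIndex (M i.succ) := by
    rw [hr, hT, sup_comm, Subgroup.relIndex_sup_right]
    exact Subgroup.relIndex_dvd_of_le_left _ hi
  have hrc : r * Nat.card O = Nat.card T := (mul_comm _ _).trans (Coprime.relIndex_mul_card le_sup_left)
  have hpi : ∀ q : ℕ, q.Prime → q ∣ r → q ∣ Nat.card H := by
    rcases hf i with h | h
    · exact fun q hq hqr => h q hq (hqr.trans hrdvd)
    · exfalso
      refine hTO (hO ▸ le_sSup ⟨hTn, ?_⟩)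
      rw [← hrc]
      exact (h.coprime_dvd_left hrdvd).mul_left hOc
  -- `T = O (T ∩ H)`
  set D := T ⊓ H with hD
  have hDc : D.relIndex T * Nat.card D = Nat.card T :=
    (mul_comm _ _).trans (Coprime.relIndex_mul_card inf_le_left)
  have hDT : D.relIndex T ∣ H.index := by
    have h1 := Coprime.card_sup_mul_card_inf (N := T) (H := H) (by rw [T.normalizer_eq_top]; exact le_top)
    have h2 : Nat.card (T ⊔ H : Subgroup G) ∣ H.index * Nat.card H :=
      H.index_mul_card ▸ Subgroup.card_subgroup_dvd_card _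
    rw [← hD, ← hDc] at h1
    have h3 : Nat.card (T ⊔ H : Subgroup G) = D.relIndex T * Nat.card H :=
      Nat.eq_of_mul_eq_mul_right Nat.card_pos (h1.trans (by ring))
    exact Nat.dvd_of_mul_dvd_mul_right Nat.card_pos (h3 ▸ h2)
  have hrD : r ∣ Nat.card D := by
    have hcop : r.Coprime (D.relIndex T) := Nat.coprime_of_dvd fun q hq hqr hqD =>
      hq.not_dvd_one (hHall.gcd_eq_one ▸ Nat.dvd_gcd (hpi q hq hqr) (hqD.trans hDT))
    exact hcop.dvd_of_dvd_mul_left (hDc ▸ Dvd.intro _ hrc)
  have hTeq : T = O ⊔ D := by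
    refine (Coprime.eq_of_le_of_card_le (sup_le le_sup_left inf_le_left) ?_).symm
    have hc : Nat.card (O ⊔ D : Subgroup G) = Nat.card O * Nat.card D :=
      Coprime.card_sup_of_coprime (by rw [O.normalizer_eq_top]; exact le_top)
        (hOc.coprime_dvd_right (Subgroup.card_dvd_of_le inf_le_right))
    rw [hc, ← hrc, mul_comm r]
    exact Nat.mul_le_mul_left _ (Nat.le_of_dvd Nat.card_pos hrD)
  -- the Frattini argument
  have hD1 : Nat.card D ≠ 1 := fun h1 => hTO (by
    rw [hTeq, Subgroup.card_eq_one.mp h1, sup_bot_eq])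
  obtain ⟨p, hp, hpD⟩ := Nat.exists_prime_and_dvd hD1
  haveI := Fact.mk hp
  let R0 : Sylow p T := default
  set R1 := (R0 : Subgroup T).map T.subtype with hR1
  obtain ⟨P, hP⟩ := (R0.2.map T.subtype).exists_le_sylow
  have hpH : p ∣ Nat.card H := hpD.trans (Subgroup.card_dvd_of_le inf_le_right)
  obtain ⟨PH⟩ : Nonempty (Sylow p H) := inferInstance
  have hPH : Nat.card ((PH : Subgroup H).map H.subtype) = p ^ (Nat.card G).factorization p := by
    rw [Subgroup.card_map_of_injective H.subtype_injective, PH.card_eq_multiplicity, ← H.index_mul_card,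
      Nat.factorization_mul H.index_ne_zero_of_finite Nat.card_pos.ne', Finsupp.add_apply,
      Nat.factorization_eq_zero_of_not_dvd fun h =>
        hp.not_dvd_one (hHall.gcd_eq_one ▸ Nat.dvd_gcd hpH h), zero_add]
  obtain ⟨g, hg⟩ := MulAction.exists_smul_eq G P (Sylow.ofCard _ hPH)
  have hR1H : ∀ x ∈ R1, g * x * g⁻¹ ∈ H := fun x hx => by
    have h1 : g * x * g⁻¹ ∈ ((g • P : Sylow p G) : Subgroup G) :=
      Subgroup.smul_mem_pointwise_smul x (MulAut.conj g) _ (hP hx)
    rw [hg] at h1
    exact Subgroup.map_subtype_le _ h1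
  have hfr : Subgroup.normalizer (R1 : Set G) ⊔ T = ⊤ := Sylow.normalizer_sup_eq_top R0
  have hpT : p ∣ Nat.card T := hpD.trans (Subgroup.card_dvd_of_le inf_le_left)
  obtain ⟨x, hx, hx1⟩ := (Subgroup.bot_or_exists_ne_one R1).resolve_left fun h0 => by
    rw [hR1, Subgroup.map_eq_bot_iff_of_injective _ T.subtype_injective] at h0
    exact R0.ne_bot_of_dvd_card hpT h0
  have hgN : Subgroup.normalizer (R1 : Set G) ≤
      (Subgroup.normalizer (H : Set G)).comap (MulAut.conj g).toMonoidHom := by
    intro y hy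
    refine mem_normalizer_of_tiSubgroup hTI (hR1H x hx)
      (fun h => hx1 (conj_eq_one_iff.mp h)) ?_
    have := hR1H _ ((Subgroup.mem_normalizer_iff.mp hy x).mp hx)
    simpa [mul_assoc] using this
  set N := Subgroup.normalizer (H : Set G)
  have htop : (O ⊔ N).comap (MulAut.conj g).toMonoidHom = ⊤ := by
    rw [eq_top_iff, ← hfr]
    refine sup_le (hgN.trans (Subgroup.comap_mono le_sup_right)) fun y hy => ?_
    have hy' : g * y * g⁻¹ ∈ O ⊔ D := hTeq ▸ hTn.conj_mem y hy g
    exact (sup_le_sup_left (inf_le_right.trans Subgroup.le_normalizer) O : O ⊔ D ≤ O ⊔ N) hy'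
  rw [← Subgroup.map_comap_eq_self_of_surjective (f := (MulAut.conj g).toMonoidHom)
    (MulAut.conj g).surjective (O ⊔ N), htop]
  exact Subgroup.map_top_of_surjective _ (MulAut.conj g).surjective

/-- A nonnormal TI subgroup has no noncyclic abelian subgroup acting coprimely on a normal
subgroup supplementing its normaliser. -/
theorem isCyclic_of_sup_normalizer {H O : Subgroup G} [O.Normal]
    (hTI : Cfsg.IsTISubset (H : Set G)) (hnn : ¬ H.Normal)
    (hsup : O ⊔ Subgroup.normalizer (H : Set G) = ⊤) (hOc : (Nat.card O).Coprime (Nat.card H))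
    (A : Subgroup G) (hA : A ≤ H) [IsMulCommutative A] : IsCyclic A := by
  by_contra hAc
  refine hnn (Subgroup.normalizer_eq_top_iff.mp (top_le_iff.mp (hsup ▸ sup_le ?_ le_rfl)))
  rw [← Coprime.iSup_centralizer_eq (K := O) hAc (by rw [O.normalizer_eq_top]; exact le_top)
    (hOc.symm.coprime_dvd_left (Subgroup.card_dvd_of_le hA))]
  exact iSup₂_le fun a ha => inf_le_right.trans (centralizer_le_of_tiSubgroup hTI (hA ha.1) ha.2)

/-- The odd Sylow subgroups of such a TI subgroup are cyclic; so are abelian Sylow 2-subgroups. -/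
theorem isCyclic_sylow_of_sup_normalizer {H O : Subgroup G} [O.Normal]
    (hTI : Cfsg.IsTISubset (H : Set G)) (hnn : ¬ H.Normal)
    (hsup : O ⊔ Subgroup.normalizer (H : Set G) = ⊤) (hOc : (Nat.card O).Coprime (Nat.card H))
    {p : ℕ} [hp : Fact p.Prime] (P : Sylow p H)
    (hab : p = 2 → IsMulCommutative (P : Subgroup H)) : IsCyclic (P : Subgroup H) := by
  have key : ∀ A : Subgroup H, IsMulCommutative A → IsCyclic A := by
    intro A hA
    haveI := hA
    haveI : IsMulCommutative (A.map H.subtype) := ⟨⟨fun a b => by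
      obtain ⟨_, a, ha, rfl⟩ := a
      obtain ⟨_, b, hb, rfl⟩ := b
      exact Subtype.ext (congrArg H.subtype (congrArg Subtype.val (mul_comm' (⟨a, ha⟩ : A) ⟨b, hb⟩)))⟩⟩
    haveI := isCyclic_of_sup_normalizer hTI hnn hsup hOc (A.map H.subtype) (Subgroup.map_subtype_le _)
    exact isCyclic_of_surjective _ (A.equivMapOfInjective H.subtype H.subtype_injective).symm.surjective
  by_cases hp2 : p = 2
  · exact key _ (hab hp2)
  refine isCyclic_of_unique_odd hp2 P.2 ?_
  intro a b ha hb
  by_contra hab'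
  haveI : Nontrivial (P : Subgroup H) := ⟨⟨a, 1, fun h => by
    rw [h, orderOf_one] at ha; exact hp.out.one_lt.ne ha⟩⟩
  haveI := P.2.center_nontrivial
  obtain ⟨n, hn0, hn⟩ := ((P.2.to_subgroup (Subgroup.center (P : Subgroup H))).nontrivial_iff_card).mp inferInstance
  obtain ⟨⟨z, hzc⟩, hz⟩ := exists_prime_orderOf_dvd_card'
    (G := Subgroup.center (P : Subgroup H)) p (hn ▸ dvd_pow_self p hn0.ne')
  rw [Subgroup.orderOf_mk] at hz
  -- every element of order `p` is a power of `z`
  have hall : ∀ c : (P : Subgroup H), orderOf c = p → c ∈ Subgroup.zpowers z := by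
    intro c hc
    by_contra hcz
    have hcomm : Commute c z := Subgroup.mem_center_iff.mp hzc c
    set A : Subgroup (P : Subgroup H) := Subgroup.closure {c, z}
    haveI hAc : IsMulCommutative A := Subgroup.isMulCommutative_closure (by
      rintro u (rfl | rfl) v (rfl | rfl)
      exacts [rfl, hcomm.eq, hcomm.eq.symm, rfl])
    haveI : IsMulCommutative (A.map (P : Subgroup H).subtype) := ⟨⟨fun u v => by
      obtain ⟨_, u, hu, rfl⟩ := u
      obtain ⟨_, v, hv, rfl⟩ := v
      exact Subtype.ext (congrArg (P : Subgroup H).subtype (congrArg Subtype.val (mul_comm' (⟨u, hu⟩ : A) ⟨v, hv⟩)))⟩⟩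
    haveI := key (A.map (P : Subgroup H).subtype) inferInstance
    haveI : IsCyclic A := isCyclic_of_surjective _
      (A.equivMapOfInjective _ (P : Subgroup H).subtype_injective).symm.surjective
    let c' : A := ⟨c, Subgroup.subset_closure (by simp)⟩
    let z' : A := ⟨z, Subgroup.subset_closure (by simp)⟩
    have hmem : c' ∈ Subgroup.zpowers z' := by
      classical
      haveI := Fintype.ofFinite A
      set S := ({x : A | x ^ p = 1} : Finset A) with hS
      have hle : S.card ≤ p := IsCyclic.card_pow_eq_one_le hp.out.pos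
      have hz' : orderOf z' = p := (Subgroup.orderOf_coe z').symm.trans hz
      have hc' : orderOf c' = p := (Subgroup.orderOf_coe c').symm.trans hc
      have hzp : z' ^ p = 1 := orderOf_dvd_iff_pow_eq_one.mp hz'.dvd
      have hsub : (Finset.univ.filter fun x : A => x ∈ Subgroup.zpowers z') ⊆ S := by
        intro x hx
        obtain ⟨i, rfl⟩ := Subgroup.mem_zpowers_iff.mp (Finset.mem_filter.mp hx).2
        simp only [hS, Finset.mem_filter, Finset.mem_univ, true_and]
        rw [← zpow_natCast, ← zpow_mul, mul_comm, zpow_mul, zpow_natCast, hzp, one_zpow]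
      have hcard : (Finset.univ.filter fun x : A => x ∈ Subgroup.zpowers z').card = p := by
        rw [← Fintype.card_subtype, ← Nat.card_eq_fintype_card]
        exact (Nat.card_zpowers z').trans hz'
      have heq := Finset.eq_of_subset_of_card_le hsub (hle.trans hcard.ge)
      have hcS : c' ∈ S := by
        simp only [hS, Finset.mem_filter, Finset.mem_univ, true_and]
        exact orderOf_dvd_iff_pow_eq_one.mp hc'.dvd
      rw [← heq] at hcS
      exact (Finset.mem_filter.mp hcS).2
    exact hcz (by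
      obtain ⟨i, hi⟩ := Subgroup.mem_zpowers_iff.mp hmem
      exact Subgroup.mem_zpowers_iff.mpr ⟨i, congrArg Subtype.val hi⟩)
  have hzb : Subgroup.zpowers b = Subgroup.zpowers z :=
    Coprime.eq_of_le_of_card_le (Subgroup.zpowers_le.mpr (hall b hb))
      (by rw [Nat.card_zpowers, Nat.card_zpowers, hb, hz])
  exact hab' (hzb ▸ hall a ha)

end Cfsg.Agent.Lib.Frobenius
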