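import Mathlib

/-!
Three primes in `(n, 2n]` for large `n`, and two primes in the upper half that are not twins.
-/

set_option autoImplicit false

namespace Cfsg.Agent.Lib.Frobenius

open Nat in
/-- Erdős's bound, allowing two primes in `(n, 2n]`. -/
theorem centralBinom_le_of_two_bertrand_primes (n : ℕ) (n_large : 512 ≤ n) (p₀ p₁ : ℕ)
    (two_primes : ∀ p : ℕ, p.Prime → n < p → p ≤ 2 * n → p = p₀ ∨ p = p₁) :
    centralBinom n ≤ (2 * n) ^ sqrt (2 * n) * 4 ^ (2 * n / 3) := by
  classical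
  have n_pos : 0 < n := by omega
  have n2_pos : 1 ≤ 2 * n := by omega
  have hs : 4 ≤ sqrt (2 * n) := Nat.le_sqrt.2 (by omega)
  let f := fun x => x ^ n.centralBinom.factorization x
  have hf : ∀ x, f x ≤ 2 * n := fun x => pow_factorization_choose_le (mul_pos two_pos n_pos)
  let R := Finset.range (2 * n + 1)
  let S := {p ∈ R | Nat.Prime p ∧ p ≠ p₀ ∧ p ≠ p₁ ∧ p ≤ 2 * n / 3}
  have h1 : centralBinom n ≤ (2 * n) ^ 2 * ∏ x ∈ S, f x := by
    have e : centralBinom n = ∏ x ∈ R, f x := n.prod_pow_factorization_centralBinom.symm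
    have h2 : ∏ x ∈ S, f x = ∏ x ∈ R \ {p₀, p₁}, f x := by
      apply Finset.prod_subset
      · intro x hx
        obtain ⟨h1, -, h3, h4, -⟩ := Finset.mem_filter.1 hx
        simp [h1, h3, h4]
      intro x hx h2x
      simp only [Finset.mem_sdiff, Finset.mem_insert, Finset.mem_singleton, not_or] at hx
      show x ^ n.centralBinom.factorization x = 1
      by_cases hxp : x.Prime
      · have h3 : ¬ x ≤ 2 * n / 3 := fun h =>
          h2x (Finset.mem_filter.2 ⟨hx.1, hxp, hx.2.1, hx.2.2, h⟩)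
        have h4 : x ≤ n := by
          by_contra h
          have := Finset.mem_range.1 hx.1
          rcases two_primes x hxp (by omega) (by omega) with h' | h'
          · exact hx.2.1 h'
          · exact hx.2.2 h'
        rw [factorization_centralBinom_of_two_mul_self_lt_three_mul (by omega) h4 (by omega), Nat.pow_zero]
      · rw [factorization_eq_zero_of_not_prime n.centralBinom hxp, Nat.pow_zero]
    rw [h2, e, ← Finset.prod_sdiff (Finset.inter_subset_left : R ∩ {p₀, p₁} ⊆ R),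
      Finset.sdiff_inter_self_left, mul_comm]
    refine Nat.mul_le_mul_right _ ((Finset.prod_le_prod' fun x _ => hf x).trans ?_)
    rw [Finset.prod_const]
    exact pow_right_mono₀ n2_pos
      ((Finset.card_le_card Finset.inter_subset_right).trans Finset.card_le_two)
  refine h1.trans ?_
  rw [← Finset.prod_filter_mul_prod_filter_not S (· ≤ sqrt (2 * n)), ← mul_assoc]
  apply mul_le_mul'
  · have e : (2 * n) ^ sqrt (2 * n) = (2 * n) ^ 2 * (2 * n) ^ (sqrt (2 * n) - 2) := by
      rw [← pow_add]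
      congr 1
      omega
    rw [e]
    refine Nat.mul_le_mul_left _ ((Finset.prod_le_prod' fun p _ => hf p).trans ?_)
    rw [Finset.prod_const]
    refine pow_right_mono₀ n2_pos ?_
    refine (Finset.card_le_card (t := (Finset.Icc 2 (sqrt (2 * n))).erase 4) fun x hx => ?_).trans ?_
    · obtain ⟨h1, h2⟩ := Finset.mem_filter.1 hx
      have hxp := (Finset.mem_filter.1 h1).2.1
      exact Finset.mem_erase.2 ⟨fun h => by rw [h] at hxp; norm_num at hxp,
        Finset.mem_Icc.2 ⟨hxp.two_le, h2⟩⟩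
    · rw [Finset.card_erase_of_mem (Finset.mem_Icc.2 ⟨by norm_num, hs⟩), Nat.card_Icc]
      omega
  · refine le_trans ?_ (primorial_le_four_pow (2 * n / 3))
    refine (Finset.prod_le_prod' fun p hp => (?_ : f p ≤ p)).trans ?_
    · obtain ⟨h1, h2⟩ := Finset.mem_filter.1 hp
      refine (pow_right_mono₀ (Finset.mem_filter.1 h1).2.1.one_lt.le ?_).trans (pow_one p).le
      exact Nat.factorization_choose_le_one (sqrt_lt'.mp <| not_le.1 h2)
    refine Finset.prod_le_prod_of_subset_of_one_le' (fun p hp => ?_) ?_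
    · obtain ⟨h1, -⟩ := Finset.mem_filter.1 hp
      obtain ⟨-, h2, -, -, h3⟩ := Finset.mem_filter.1 h1
      exact Finset.mem_filter.2 ⟨Finset.mem_range.2 (by omega), h2⟩
    exact fun p hp _ => (Finset.mem_filter.1 hp).2.one_lt.le

/-- Three primes in `(n, 2n]` for `n ≥ 512`, in the form of a pair differing by at least `4`. -/
theorem exists_two_primes_gap (n : ℕ) (hn : 512 ≤ n) :
    ∃ p q : ℕ, p.Prime ∧ q.Prime ∧ p + 3 ≤ q ∧ n < p ∧ q ≤ 2 * n := by
  classical
  let s := {p ∈ Finset.Ioc n (2 * n) | p.Prime}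
  have h3 : 2 < s.card := by
    by_contra hle
    push Not at hle
    obtain ⟨p₀, p₁, hsub⟩ : ∃ p₀ p₁, s ⊆ {p₀, p₁} := by
      have hcases : s.card = 0 ∨ s.card = 1 ∨ s.card = 2 := by omega
      rcases hcases with h | h | h
      · exact ⟨0, 0, by rw [Finset.card_eq_zero.1 h]; simp⟩
      · obtain ⟨a, ha⟩ := Finset.card_eq_one.1 h
        exact ⟨a, a, by rw [ha]; simp⟩
      · obtain ⟨a, b, -, hab⟩ := Finset.card_eq_two.1 h
        exact ⟨a, b, hab.le⟩
    have hcb := centralBinom_le_of_two_bertrand_primes n hn p₀ p₁ fun p hp h1 h2 => by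
      simpa using hsub (Finset.mem_filter.2 ⟨Finset.mem_Ioc.2 ⟨h1, h2⟩, hp⟩)
    have h4 := Nat.four_pow_lt_mul_centralBinom n (by omega)
    have h5 : n * n.centralBinom ≤ 4 ^ n := by
      refine (Nat.mul_le_mul_left n hcb).trans ?_
      rw [← mul_assoc]
      exact bertrand_main_inequality hn
    omega
  obtain ⟨a, ha, b, hb, c, hc, hab, hac, hbc⟩ := Finset.two_lt_card.1 h3
  simp only [s, Finset.mem_filter, Finset.mem_Ioc] at ha hb hc
  have odd : ∀ {x : ℕ}, x.Prime → n < x → x % 2 = 1 := fun hx h =>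
    hx.eq_two_or_odd.resolve_left (by omega)
  have ha2 := odd ha.2 ha.1.1
  have hb2 := odd hb.2 hb.1.1
  have hc2 := odd hc.2 hc.1.1
  have key : ∀ {x y : ℕ}, x.Prime → y.Prime → n < x → y ≤ 2 * n → x + 3 ≤ y →
      ∃ p q : ℕ, p.Prime ∧ q.Prime ∧ p + 3 ≤ q ∧ n < p ∧ q ≤ 2 * n :=
    fun hx hy h1 h2 h3 => ⟨_, _, hx, hy, h3, h1, h2⟩
  by_cases h1 : a + 3 ≤ b
  · exact key ha.2 hb.2 ha.1.1 hb.1.2 h1
  by_cases h2 : b + 3 ≤ a
  · exact key hb.2 ha.2 hb.1.1 ha.1.2 h2
  by_cases h3 : a + 3 ≤ c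
  · exact key ha.2 hc.2 ha.1.1 hc.1.2 h3
  by_cases h4 : c + 3 ≤ a
  · exact key hc.2 ha.2 hc.1.1 ha.1.2 h4
  by_cases h5 : b + 3 ≤ c
  · exact key hb.2 hc.2 hb.1.1 hc.1.2 h5
  by_cases h6 : c + 3 ≤ b
  · exact key hc.2 hb.2 hc.1.1 hb.1.2 h6
  omega

/-- Two primes in the upper half of `[1, m]` differing by at least `3`, for `m ≥ 17`. -/
theorem exists_gap_pair (m : ℕ) (hm : 17 ≤ m) :
    ∃ p q : ℕ, p.Prime ∧ q.Prime ∧ p + 3 ≤ q ∧ m < 2 * p ∧ q ≤ m := by
  have mk : ∀ p q : ℕ, p.Prime → q.Prime → p + 3 ≤ q → m < 2 * p → q ≤ m →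
      ∃ p q : ℕ, p.Prime ∧ q.Prime ∧ p + 3 ≤ q ∧ m < 2 * p ∧ q ≤ m :=
    fun p q a b c d e => ⟨p, q, a, b, c, d, e⟩
  by_cases h1 : m < 22
  · exact mk 11 17 (by norm_num) (by norm_num) (by norm_num) (by omega) (by omega)
  by_cases h2 : m < 26
  · exact mk 13 19 (by norm_num) (by norm_num) (by norm_num) (by omega) (by omega)
  by_cases h3 : m < 34
  · exact mk 17 23 (by norm_num) (by norm_num) (by norm_num) (by omega) (by omega)
  by_cases h4 : m < 38
  · exact mk 19 29 (by norm_num) (by norm_num) (by norm_num) (by omega) (by omega)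
  by_cases h5 : m < 58
  · exact mk 29 37 (by norm_num) (by norm_num) (by norm_num) (by omega) (by omega)
  by_cases h6 : m < 62
  · exact mk 31 43 (by norm_num) (by norm_num) (by norm_num) (by omega) (by omega)
  by_cases h7 : m < 106
  · exact mk 53 59 (by norm_num) (by norm_num) (by norm_num) (by omega) (by omega)
  by_cases h8 : m < 178
  · exact mk 89 97 (by norm_num) (by norm_num) (by norm_num) (by omega) (by omega)
  by_cases h9 : m < 334
  · exact mk 167 173 (by norm_num) (by norm_num) (by norm_num) (by omega) (by omega)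
  by_cases h10 : m < 634
  · exact mk 317 331 (by norm_num) (by norm_num) (by norm_num) (by omega) (by omega)
  by_cases h11 : m < 1026
  · exact mk 613 619 (by norm_num) (by norm_num) (by norm_num) (by omega) (by omega)
  obtain ⟨p, q, hp, hq, hpq, h, h'⟩ := exists_two_primes_gap (m / 2) (by omega)
  exact mk p q hp hq hpq (by omega) (by omega)

end Cfsg.Agent.Lib.Frobenius
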