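import Cfsg.Agent.Lib.Frobenius.Kernel
import Cfsg.Agent.Lib.Frobenius.Complement
import Cfsg.Agent.Lib.Frobenius.Structure
import Cfsg.Agent.Lib.Frobenius.UniqueSubgroup
import Cfsg.Agent.Lib.Solvable.FixedPointFree
import Cfsg.Agent.Lib.Solvable.Nilpotent
import Mathlib.GroupTheory.SpecificGroups.ZGroup
import Mathlib.GroupTheory.SpecificGroups.Cyclic.Basic

/-!
Two-step Frobenius groups.
-/

set_option autoImplicit false

universe u

namespace Cfsg.Agent.Lib.Frobenius

open Cfsg.Agent.Lib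
open scoped IsMulCommutative

variable {G : Type u} [Group G] [Finite G]

/-- The kernel of a Frobenius complement is nilpotent. -/
theorem isNilpotent_normal_complement {A : Type u} [Group A] [Finite A] {C N : Subgroup A} [N.Normal]
    (hC : Cfsg.IsFrobeniusComplement C) (hd : N ⊓ C = ⊥) : Group.IsNilpotent N := by
  obtain ⟨r, hr, hrC⟩ := Nat.exists_prime_and_dvd (fun h : Nat.card C = 1 => hC.1 (Subgroup.card_eq_one.mp h))
  haveI := Fact.mk hr
  obtain ⟨a, ha⟩ := exists_prime_orderOf_dvd_card' (G := C) r hrC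
  have hfpf := fixedPointFree_of_isFrobeniusComplement hC hd
  have ha1 : (a : A) ≠ 1 := fun h => by
    rw [show a = 1 from Subtype.ext h, orderOf_one] at ha
    exact hr.one_lt.ne ha
  refine Solvable.FixedPointFree.isNilpotent_of_fixedPointFree hr (MulAut.conjNormal (H := N) (a : A)) ?_ ?_
  · rw [← map_pow, ← ha, ← Subgroup.orderOf_coe, pow_orderOf_eq_one, map_one]
  · intro v hv
    have hv' : (a : A) * v * (a : A)⁻¹ = v := congrArg Subtype.val hv
    exact Subtype.ext (hfpf a a.2 ha1 v v.2 (mul_inv_eq_iff_eq_mul.mp hv'))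

/-- A normal nilpotent subgroup which is both a Frobenius kernel and a Frobenius complement has odd
order and is cyclic. -/
theorem odd_isCyclic_of_kernel_complement {V : Type*} [Group V] [Finite V] [Nontrivial V]
    {A : Type u} [Group A] [Finite A] {N D : Subgroup A} [N.Normal] (hD : Cfsg.IsFrobeniusComplement D)
    (hd : N ⊓ D = ⊥) (φ : N →* MulAut V) (hφ : ∀ a : N, a ≠ 1 → ∀ v : V, φ a v = v → v = 1) :
    Odd (Nat.card N) ∧ IsCyclic N := by
  haveI : Group.IsNilpotent N := isNilpotent_normal_complement hD hd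
  have hodd : Odd (Nat.card N) := by
    by_contra heven
    rw [Nat.not_odd_iff_even, even_iff_two_dvd] at heven
    obtain ⟨s, hs⟩ := exists_prime_orderOf_dvd_card' (G := N) 2 heven
    obtain ⟨d, hd1, hdne⟩ := (Subgroup.bot_or_exists_ne_one D).resolve_left hD.1
    have hs' : MulAut.conjNormal (H := N) d s = s := by
      exact eq_of_orderOf_eq_two φ hφ (by rw [MulEquiv.orderOf_eq]; exact hs) hs
    have h1 : d * (s : A) * d⁻¹ = s := congrArg Subtype.val hs'
    have := fixedPointFree_of_isFrobeniusComplement hD hd d hd1 hdne s s.2 (mul_inv_eq_iff_eq_mul.mp h1)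
    rw [show s = 1 from Subtype.ext this, orderOf_one] at hs
    norm_num at hs
  refine ⟨hodd, ?_⟩
  haveI : IsZGroup N := by
    refine ⟨fun p hp P => ?_⟩
    haveI := Fact.mk hp
    refine (isCyclic_or_quaternion_of_fixedPointFree φ hφ (P : Subgroup N) P.2).resolve_right ?_
    rintro ⟨rfl, m, ⟨e⟩⟩
    have h1 : 2 ∣ Nat.card (P : Subgroup N) := by
      rw [Nat.card_congr e.toEquiv, Nat.card_eq_fintype_card, QuaternionGroup.card]
      exact ⟨2 * 2 ^ (m + 1), by ring⟩
    exact (Nat.not_even_iff_odd.mpr hodd) (even_iff_two_dvd.mpr (h1.trans (Subgroup.card_subgroup_dvd_card _)))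
  infer_instance

/-- In a Frobenius group with nontrivial kernel fixed-point-free on an abelian group of coprime
order, every element outside the kernel has a nontrivial fixed point. -/
theorem exists_fixed_of_kernel_fixedPointFree {A : Type u} [Group A] [Finite A] {V : Type*} [CommGroup V]
    [Finite V] [Nontrivial V] (φ : A →* MulAut V) {N D : Subgroup A} [N.Normal]
    (hD : Cfsg.IsFrobeniusComplement D) (hker : (N : Set A) = Cfsg.frobeniusKernel D)
    (hcop : (Nat.card N).Coprime (Nat.card V)) (hN : ∀ v, (∀ a ∈ N, φ a v = v) → v = 1)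
    {x : A} (hx : x ∉ N) : ∃ v : V, v ≠ 1 ∧ φ x v = v := by
  by_contra hno
  push Not at hno
  obtain ⟨w, hw⟩ := exists_ne (1 : V)
  have hfix : ∀ y ∈ Subgroup.zpowers x, y ≠ 1 → ∀ n ∈ N, y * n = n * y → n = 1 := by
    intro y hy hy1 n hn hc
    by_contra hn1
    have hyN : y ∉ N := by
      intro hyN
      obtain ⟨K', hK'n, hK', -⟩ := exists_frobeniusKernel hD
      have hxK : x ∉ Cfsg.frobeniusKernel D := by rw [← hker]; exact hx
      have hx1 : ∃ g : A, g⁻¹ * x * g ∈ D := by
        by_contra hc'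
        push Not at hc'
        exact hxK (mem_frobeniusKernel_iff.mpr (Or.inr hc'))
      obtain ⟨g, hg⟩ := hx1
      obtain ⟨i, rfl⟩ := Subgroup.mem_zpowers_iff.mp hy
      have h1 : g⁻¹ * x ^ i * g ∈ D := by
        have := zpow_mem hg i
        rwa [show g⁻¹ * x * g = g⁻¹ * x * g⁻¹⁻¹ by rw [inv_inv], conj_zpow, inv_inv] at this
      rw [← SetLike.mem_coe, hker] at hyN
      rcases mem_frobeniusKernel_iff.mp hyN with h | h
      · exact hy1 h
      · exact h g h1
    have hyK : y ∉ Cfsg.frobeniusKernel D := by rw [← hker]; exact hyN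
    obtain ⟨g, hg⟩ : ∃ g : A, g⁻¹ * y * g ∈ D := by
      by_contra hc'
      push Not at hc'
      exact hyK (mem_frobeniusKernel_iff.mpr (Or.inr hc'))
    have hn' : g⁻¹ * n * g ∈ N := by simpa using (‹N.Normal›).conj_mem n hn g⁻¹
    have h2 := frobeniusKernel_fixedPointFree hD hker _ hg
      (fun h => hy1 (by
        calc y = g * (g⁻¹ * y * g) * g⁻¹ := by group
          _ = 1 := by rw [h]; group))
      _ hn' (by
        calc g⁻¹ * y * g * (g⁻¹ * n * g) = g⁻¹ * (y * n) * g := by group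
          _ = g⁻¹ * n * g * (g⁻¹ * y * g) := by rw [hc]; group)
    exact hn1 (by
      calc n = g * (g⁻¹ * n * g) * g⁻¹ := by group
        _ = 1 := by rw [h2]; group)
  set X := Subgroup.zpowers x with hX
  have hdisj : N ⊓ X = ⊥ := by
    rw [Subgroup.eq_bot_iff_forall]
    rintro y ⟨hyN, hyX⟩
    by_contra hy1
    exact hy1 (hfix y hyX hy1 y hyN rfl)
  set B := N ⊔ X
  haveI : (N.subgroupOf B).Normal := (‹N.Normal›).subgroupOf _
  refine hw (eq_one_of_frobenius_partition (φ.comp B.subtype) (N.subgroupOf B) (X.subgroupOf B) ?_ ?_ ?_ ?_ ?_ w)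
  · rw [Nat.card_congr (Subgroup.subgroupOfEquivOfLe le_sup_left).toEquiv]; exact hcop
  · intro a ha
    obtain ⟨n, hn, y, hy, hny⟩ := Subgroup.mem_sup_of_normal_left.mp a.2
    have hy1 : y ≠ 1 := fun h => ha (by
      show (a : A) ∈ N
      rw [← hny, h, mul_one]; exact hn)
    obtain ⟨m, hm, hme⟩ := exists_conj_eq_of_fixedPointFree hfix hy hy1 hn
    have hmB : m ∈ B := le_sup_left (a := N) hm
    refine ⟨⟨⟨m, hmB⟩, hm⟩, ?_, ?_⟩
    · show m⁻¹ * (a : A) * m ∈ X
      rw [← hny, ← hme]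
      simpa [mul_assoc] using hy
    · intro f hf
      have hf' : (f : A)⁻¹ * (a : A) * (f : A) ∈ X := hf
      have hfN : ((f : B) : A) ∈ N := f.2
      set k := m⁻¹ * ((f : B) : A)
      have hk : k ∈ N := mul_mem (inv_mem hm) hfN
      set z := ((f : B) : A)⁻¹ * (a : A) * ((f : B) : A)
      have hzy : z = k⁻¹ * y * k := by
        simp only [z, k, ← hny, ← hme]; group
      have hzy' : y⁻¹ * z ∈ N ⊓ X := Subgroup.mem_inf.mpr ⟨by
        rw [hzy, show y⁻¹ * (k⁻¹ * y * k) = (y⁻¹ * k⁻¹ * y⁻¹⁻¹) * k by group]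
        exact mul_mem ((‹N.Normal›).conj_mem _ (inv_mem hk) _) hk, mul_mem (inv_mem hy) hf'⟩
      rw [hdisj, Subgroup.mem_bot, inv_mul_eq_one] at hzy'
      have hk1 : k = 1 := hfix y hy hy1 k hk (by
        calc y * k = k * (k⁻¹ * y * k) := by group
          _ = k * y := by rw [← hzy, ← hzy'])
      exact Subtype.ext (Subtype.ext (inv_mul_eq_one.mp hk1).symm)
  · rw [Subgroup.eq_bot_iff_forall]
    intro y hy
    have : (y : A) ∈ N ⊓ X := Subgroup.mem_inf.mpr ⟨hy.1, hy.2⟩
    rw [hdisj, Subgroup.mem_bot] at this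
    exact Subtype.ext this
  · intro v hv
    exact hN v fun a ha => hv ⟨a, le_sup_left (a := N) ha⟩ ha
  · intro v hv
    by_contra hv1
    exact hno v hv1 (hv ⟨x, le_sup_right (a := N) (Subgroup.mem_zpowers x)⟩ (Subgroup.mem_zpowers x))

end Cfsg.Agent.Lib.Frobenius
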